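import Cfsg.Agent.Lib.Helper43.Automizer

set_option autoImplicit false

namespace Cfsg.Agent.Lib.Helper43

open Subgroup
open scoped Pointwise

/-- A `p`-element has a conjugate in any given Sylow `p`-subgroup. -/
theorem exists_conj_mem_sylow {G : Type*} [Group G] [Finite G] {p : ℕ} [Fact p.Prime]
    (P : Sylow p G) (x : G) (k : ℕ) (hx : orderOf x = p ^ k) :
    ∃ g : G, g * x * g⁻¹ ∈ (P : Subgroup G) := by
  have h1 : IsPGroup p (zpowers x) := IsPGroup.of_card (n := k) (by rw [Nat.card_zpowers, hx])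
  obtain ⟨Q, hQ⟩ := h1.exists_le_sylow
  obtain ⟨g, hg⟩ := MulAction.exists_smul_eq G Q P
  refine ⟨g, ?_⟩
  rw [← hg]
  have h2 : x ∈ (Q : Subgroup G) := hQ (mem_zpowers x)
  have h3 := Subgroup.smul_mem_pointwise_smul x (MulAut.conj g) (Q : Subgroup G) h2
  have h4 : ((g • Q : Sylow p G) : Subgroup G) = MulAut.conj g • (Q : Subgroup G) := rfl
  rw [h4]
  simpa using h3

/-- If a group with abelian Sylow `p`-subgroup `P` has a real `p`-element `x` with `x ^ 2 ≠ 1`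
then `N(P)/C(P)` has even order. -/
theorem two_dvd_automizer_of_real {G : Type*} [Group G] [Finite G] {p : ℕ} [Fact p.Prime]
    (P : Sylow p G) (hP : IsMulCommutative (P : Subgroup G)) (x c : G) (k : ℕ)
    (hx : orderOf x = p ^ k) (hc : c * x * c⁻¹ = x⁻¹) (hx2 : x ^ 2 ≠ 1) :
    2 ∣ ((centralizer ((P : Subgroup G) : Set G)).subgroupOf
      (normalizer ((P : Subgroup G) : Set G))).index := by
  have := hP
  obtain ⟨g, hg⟩ := exists_conj_mem_sylow P x k hx
  set y := g * x * g⁻¹ with hy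
  have hyinv : (g * c * g⁻¹) * y * (g * c * g⁻¹)⁻¹ = y⁻¹ := by
    have : (g * c * g⁻¹) * y * (g * c * g⁻¹)⁻¹ = g * (c * x * c⁻¹) * g⁻¹ := by
      rw [hy]; group
    rw [this, hc, hy]; group
  obtain ⟨m, hm, hmx⟩ := P.conj_eq_normalizer_conj_of_mem y (g * c * g⁻¹)⁻¹ hg (by
    rw [inv_inv, hyinv]; exact inv_mem hg)
  rw [inv_inv, hyinv] at hmx
  refine two_dvd_automizer_of_inverting _ y m⁻¹ hg (inv_mem hm)
    (by rw [inv_inv]; exact hmx.symm) ?_
  intro h2
  apply hx2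
  have h3 : y ^ 2 = g * x ^ 2 * g⁻¹ := by rw [hy, conj_pow]
  rw [h3] at h2
  have h4 : x ^ 2 = g⁻¹ * (g * x ^ 2 * g⁻¹) * g := by group
  rw [h4, h2]; group

end Cfsg.Agent.Lib.Helper43
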