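import Cfsg.Agent.Lib.Helper43.ProjInvol
import Cfsg.Agent.Lib.Helper17.Symp
import Cfsg.Agent.Lib.Helper3.NormalSeries
import Cfsg.Prelude.Def_Classical

/-!
# Elementary abelian 2-subgroups of `PSp_{2m}(F)`, `F` of odd characteristic

* `sp_center_coe` : a central element of `Sp_{2m}(F)` is `±1`.
* `psp_elemAb_two_card_sq_le` : an elementary abelian 2-subgroup `A` of `PSp_{2m}(F)` satisfies
  `(2 |A|)^2 ≤ 4 (2m)^2 2^(2m)`.
-/

set_option autoImplicit false

namespace Cfsg.Agent.Lib.Helper43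

open Matrix Cfsg.Agent.Lib.Helper17

variable {F : Type*} [Field F] (m : ℕ)

/-- A central element of `Sp_{2m}(F)` is a scalar matrix. -/
theorem sp_center_scalar (z : Matrix.symplecticGroup (Fin m) F)
    (hz : z ∈ Subgroup.center (Matrix.symplecticGroup (Fin m) F)) :
    ∃ c : F, ∀ x, (z : Matrix (Fin m ⊕ Fin m) (Fin m ⊕ Fin m) F) *ᵥ x = c • x := by
  set Z : Matrix (Fin m ⊕ Fin m) (Fin m ⊕ Fin m) F :=
    (z : Matrix (Fin m ⊕ Fin m) (Fin m ⊕ Fin m) F) with hZ
  have key : ∀ v x, Cfsg.sympForm m F x v • (Z *ᵥ v) = Cfsg.sympForm m F (Z *ᵥ x) v • v := by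
    intro v x
    let T : Matrix.symplecticGroup (Fin m) F := ⟨Cfsg.sympTransvection m v 1, sympTransvection_mem m v 1⟩
    have h := (Subgroup.mem_center_iff.mp hz) T
    have h1 : ((T * z : Matrix.symplecticGroup (Fin m) F) : Matrix (Fin m ⊕ Fin m) (Fin m ⊕ Fin m) F) *ᵥ x
        = ((z * T : Matrix.symplecticGroup (Fin m) F) : Matrix (Fin m ⊕ Fin m) (Fin m ⊕ Fin m) F) *ᵥ x := by
      rw [h]
    rw [sp_coe_mul_mulVec, sp_coe_mul_mulVec] at h1
    change Cfsg.sympTransvection m v 1 *ᵥ (Z *ᵥ x) = Z *ᵥ (Cfsg.sympTransvection m v 1 *ᵥ x) at h1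
    rw [sympTransvection_mulVec, sympTransvection_mulVec, Matrix.mulVec_add, Matrix.mulVec_smul,
      one_mul, one_mul] at h1
    exact (add_left_cancel h1).symm
  obtain ⟨c, hc⟩ := LinearMap.exists_eq_smul_id_of_forall_notLinearIndependent
    (f := Matrix.toLin' Z) (fun v => by
      by_cases hv : v = 0
      · simp [hv, linearIndependent_fin2]
      · rw [LinearIndependent.pair_iff' hv]
        push Not
        have : ∃ x, Cfsg.sympForm m F x v ≠ 0 := by
          by_contra hcon
          push Not at hcon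
          apply hv
          apply sympForm_left_eq_zero m
          intro y
          rw [sympForm_swap, hcon y, neg_zero]
        obtain ⟨x, hx⟩ := this
        refine ⟨(Cfsg.sympForm m F x v)⁻¹ * Cfsg.sympForm m F (Z *ᵥ x) v, ?_⟩
        rw [Matrix.toLin'_apply, mul_smul, ← key v x, smul_smul, inv_mul_cancel₀ hx, one_smul])
  refine ⟨c, fun x => ?_⟩
  have := congrArg (fun f => f x) hc
  simpa [Matrix.toLin'_apply] using this

/-- A central element of `Sp_{2m}(F)` is `±1`. -/
theorem sp_center_coe (z : Matrix.symplecticGroup (Fin m) F)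
    (hz : z ∈ Subgroup.center (Matrix.symplecticGroup (Fin m) F)) :
    (z : Matrix (Fin m ⊕ Fin m) (Fin m ⊕ Fin m) F) = 1 ∨
      (z : Matrix (Fin m ⊕ Fin m) (Fin m ⊕ Fin m) F) = -1 := by
  obtain ⟨c, hc⟩ := sp_center_scalar m z hz
  rcases Nat.eq_zero_or_pos m with rfl | hm
  · left
    ext i j
    rcases i with i | i <;> exact i.elim0
  have hcc : c * c = 1 := by
    let i : Fin m := ⟨0, hm⟩
    have h := sp_sympForm m z (Pi.single (Sum.inr i) 1) (Pi.single (Sum.inl i) 1)
    rw [hc, hc, sympForm_smul_left, sympForm_smul_right, sympForm_single_inl_right] at h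
    simpa [mul_assoc] using h
  have h1 : (c - 1) * (c + 1) = 0 := by linear_combination hcc
  rcases mul_eq_zero.mp h1 with h | h
  · left
    rw [Matrix.ext_iff_mulVec]
    intro x
    rw [hc, Matrix.one_mulVec, sub_eq_zero.mp h, one_smul]
  · right
    rw [Matrix.ext_iff_mulVec]
    intro x
    rw [hc, Matrix.neg_mulVec, Matrix.one_mulVec, eq_neg_of_add_eq_zero_left h, neg_smul, one_smul]

/-- `-1` as an element of `Sp_{2m}(F)`. -/
def spNegOne : Matrix.symplecticGroup (Fin m) F :=
  ⟨-1, SymplecticGroup.neg_mem (Submonoid.one_mem _)⟩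

theorem sp_two_le_card_center [Finite F] (h2 : (2 : F) ≠ 0) (hm : 1 ≤ m) :
    2 ≤ Nat.card (Subgroup.center (Matrix.symplecticGroup (Fin m) F)) := by
  have : Finite (Matrix.symplecticGroup (Fin m) F) :=
    Finite.of_injective (fun z => (z : Matrix (Fin m ⊕ Fin m) (Fin m ⊕ Fin m) F)) Subtype.val_injective
  have hne : (spNegOne m : Matrix.symplecticGroup (Fin m) F) ≠ 1 := by
    intro h
    have h' := congrArg (fun z : Matrix.symplecticGroup (Fin m) F =>
      (z : Matrix (Fin m ⊕ Fin m) (Fin m ⊕ Fin m) F) (Sum.inl ⟨0, hm⟩) (Sum.inl ⟨0, hm⟩)) h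
    simp only [spNegOne, Submonoid.coe_one, Matrix.neg_apply, Matrix.one_apply_eq] at h'
    apply h2
    linear_combination -h'
  have hmem : (spNegOne m : Matrix.symplecticGroup (Fin m) F) ∈
      Subgroup.center (Matrix.symplecticGroup (Fin m) F) := by
    rw [Subgroup.mem_center_iff]
    intro g
    apply Subtype.ext
    simp [spNegOne]
  have : Nontrivial (Subgroup.center (Matrix.symplecticGroup (Fin m) F)) :=
    ⟨⟨⟨spNegOne m, hmem⟩, 1, fun h => hne (congrArg Subtype.val h)⟩⟩
  exact Finite.one_lt_card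

/-- An elementary abelian 2-subgroup `A` of `PSp_{2m}(F)` satisfies `(2|A|)^2 ≤ 4 (2m)^2 2^(2m)`. -/
theorem psp_elemAb_two_card_sq_le [Finite F] (h2 : (2 : F) ≠ 0) (hm : 1 ≤ m)
    (A : Subgroup (Cfsg.PSp m F)) (hA : ∀ a ∈ A, ∀ b ∈ A, a * b = b * a) (hA2 : ∀ a ∈ A, a ^ 2 = 1) :
    (Nat.card A * 2) ^ 2 ≤ 4 * (2 * m) ^ 2 * 2 ^ (2 * m) := by
  have hfin : Finite (Matrix.symplecticGroup (Fin m) F) :=
    Finite.of_injective (fun z => (z : Matrix (Fin m ⊕ Fin m) (Fin m ⊕ Fin m) F)) Subtype.val_injective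
  set Zc := Subgroup.center (Matrix.symplecticGroup (Fin m) F) with hZc
  set E := A.comap (QuotientGroup.mk' Zc) with hE
  have hcardE : Nat.card E = Nat.card A * Nat.card Zc := Cfsg.Agent.Lib.Helper3.card_comap_mk' Zc A
  have hZ2 := sp_two_le_card_center (F := F) m h2 hm
  have : Nonempty (Fin m ⊕ Fin m) := ⟨Sum.inl ⟨0, hm⟩⟩
  have hcard : Fintype.card (Fin m ⊕ Fin m) = 2 * m := by simp; omega
  have main := natCard_sq_le_of_proj_symplectic (F := F) (ι := Fin m ⊕ Fin m) h2
    (G := Matrix.symplecticGroup (Fin m) F) (Submonoid.subtype _) Subtype.val_injective E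
    (by
      intro a ha
      have h1 : (QuotientGroup.mk' Zc a) ^ 2 = 1 := hA2 _ ha
      rw [← map_pow, QuotientGroup.mk'_apply, QuotientGroup.eq_one_iff] at h1
      have := sp_center_coe m _ h1
      rwa [pow_two, Submonoid.coe_mul] at this)
    (by
      intro a ha b hb
      have h1 := hA _ ha _ hb
      rw [← map_mul, ← map_mul, QuotientGroup.mk'_apply, QuotientGroup.mk'_apply, QuotientGroup.eq] at h1
      rcases sp_center_coe m _ h1 with h | h
      · left
        have h' : (a * b)⁻¹ * (b * a) = 1 := Subtype.ext h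
        have h'' : a * b = b * a := (inv_mul_eq_one.mp h')
        exact congrArg Subtype.val h''
      · right
        have h' : (a * b)⁻¹ * (b * a) = spNegOne m := Subtype.ext h
        have h'' : b * a = (a * b) * (spNegOne m) := by rw [← h', mul_inv_cancel_left]
        have h3 := congrArg (fun z : Matrix.symplecticGroup (Fin m) F =>
          (z : Matrix (Fin m ⊕ Fin m) (Fin m ⊕ Fin m) F)) h''
        simp only [Submonoid.coe_mul, spNegOne, mul_neg, mul_one] at h3
        change (a.1 : Matrix (Fin m ⊕ Fin m) (Fin m ⊕ Fin m) F) * b.1 = -(b.1 * a.1)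
        rw [h3, neg_neg])
    (sympB m F)
    (fun x => by rw [sympB_apply, sympForm_self])
    (fun x hx => sympForm_left_eq_zero m (fun y => by rw [← sympB_apply]; exact hx y))
    (fun a _ x y => by rw [sympB_apply, sympB_apply]; exact sp_sympForm m a x y)
  rw [hcard] at main
  calc (Nat.card A * 2) ^ 2 ≤ (Nat.card E) ^ 2 := by
        rw [hcardE]
        exact Nat.pow_le_pow_left (Nat.mul_le_mul_left _ hZ2) 2
    _ ≤ _ := main

end Cfsg.Agent.Lib.Helper43
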