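import Cfsg.Agent.Lib.Helper43.Alt8Lev0

set_option autoImplicit false
set_option maxRecDepth 1000000
set_option maxHeartbeats 0

namespace Cfsg.Agent.Lib.Helper43.AM
open Cfsg Cfsg.Agent.Lib.Helper88.TC Cfsg.Agent.Lib.Helper43.SP Cfsg.Agent.Lib.Helper43.PT

universe u

noncomputable def stB1 : List (ℕ × ℕ × List ℕ) := parse2 (unpI 256 [0x1100000e00000780600a00001080600a00001400000980400700000b80000600001400001200000c80600a00000780600900001200001100000900000580400800000980600600000e80600500001080400400000980000200001500000980600a00001400000c00000b80400800000880400700001280400600000780000600001280800500001480200500001280000500000880400400001700000880400800001200000780200700000b80600600001600001380400400001280000300001480000200000280800a00001800001700001600001300000f00000d00000b00000a00000600000500000400000300000280600a00001280200a00001080400700001880800600001880200500000480400700000a80600600001580200900001600000d80400800000d80400700001500001180600500000d80400400001500000d80000800001680000700001580200600000f80000600001780800500000580400500000480600900000a80000900001300000b00000500000280400700000780800600001580000200001680000100000480200900001780200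800001300001100000b80000800001000000e80600900000b80400900001000000a80200900000d80600800001300000600000280400800000f80600500001180800400001180600700000680000600001700000680600700000380400700000e80000700000c80600500001700000680800600000580600600000280800500001880400500000e80800500000780400500000580800400000e80400400001080800400000380400400001880000300001380000200000e800001000007a02000000006000004a0000000000a0000080000059fe0000000090000060000040000039fc0000000039fa0000000040000029f8000000001a0a000000001a08000000001a06000000001a04000000001a02000000001a000000000019fe0000000019fc0000000019fa0000000019f8000])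

theorem parB1 : parOK 8 255 126 131 relsB1 = true := by decide +kernel

theorem finB1 : finOK 8 255 132 126 24 (run 8 255 132 126 relsB1 stB1 (initS 8 132 131)) = true := by
  decide +kernel

noncomputable def stB2 : List (ℕ × ℕ × List ℕ) := parse2 (unpI 256 [0x5800001000003a0e000000002a0c000000001a0e000000001a0c000])

theorem parB2 : parOK 5 31 131 132 relsB2 = true := by decide +kernel

theorem finB2 : finOK 5 31 132 131 5 (run 5 31 132 131 relsB2 stB2 (initS 5 132 132)) = true := by
  decide +kernel

theorem alN_range' {f : ℕ → Bool} {d n : ℕ} (h : alN (fun k => Nat.blt k d || f k) n = true) :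
    ∀ k, d ≤ k → k < n → f k = true := by
  intro k h1 h2
  have h3 := alN_spec h k h2
  rw [Bool.or_eq_true, Nat.blt_eq] at h3
  rcases h3 with h3 | h3
  · omega
  · exact h3

theorem tc8 {Γ : Type u} [Group Γ] (Z : List Γ) (h : ∀ W ∈ relsB, ev Z W = 1) :
    Nat.card (Kd Z 132 0) ≤ 2 * 20160 := by
  have fe : Finite (Kd Z 132 132) := by rw [Kd_self]; infer_instance
  obtain ⟨f2, c2⟩ := level_le (Y := Z)
    (fun W hW => h W (List.mem_append_right _ (List.mem_append_right _ hW))) parB2 finB2
  obtain ⟨f1, c1⟩ := level_le (Y := Z)
    (fun W hW => h W (List.mem_append_right _ (List.mem_append_left _ hW))) parB1 finB1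
  obtain ⟨f0, c0⟩ := level_le (Y := Z) (fun W hW => h W (List.mem_append_left _ hW)) parB0 finB0
  have e : Nat.card (Kd Z 132 132) = 1 := by rw [Kd_self]; exact Subgroup.card_bot
  omega

theorem card8 : Nat.card (alternatingGroup (Fin (7 + 1))) = 20160 := by
  rw [nat_card_alternatingGroup, Nat.card_fin]
  decide

theorem upper8 {Γ : Type u} [Group Γ] [Finite Γ] (σ : Γ →* alternatingGroup (Fin (7 + 1)))
    (hσ : IsStemExtension σ) : Nat.card σ.ker ≤ 2 :=
  upper_alt TsB certB 3 7 7 0 132 20160 2 0 (by norm_num) (by norm_num) card8 (by intro i h; omega)
    (by decide +kernel) (by decide +kernel) relsB (al_spec (by decide +kernel))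
    (al_spec (f := fun W => eqT 3 7 (7 + 1) TsB (2 * 0) (2 * 132) W []) (by decide +kernel))
    (alN_range' (f := fun k => eqT 3 7 (7 + 1) TsB (2 * 0) (2 * 132) [2 * k, 2 * k, 2 * k, 2 * k, 2 * k] [])
      (by decide +kernel))
    (by decide +kernel) (by decide +kernel) (by decide +kernel) tc8 σ hσ

end Cfsg.Agent.Lib.Helper43.AM
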