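import Mathlib

set_option autoImplicit false

namespace Cfsg.Agent.Lib.Helper43

open Subgroup

/-- The order of `N_G(H)/C_G(H)` as the order of the image in `Aut H`. -/
theorem automizer_index_eq {G : Type*} [Group G] (H : Subgroup G) :
    ((centralizer (H : Set G)).subgroupOf (normalizer (H : Set G))).index
      = Nat.card H.normalizerMonoidHom.range := by
  rw [← normalizerMonoidHom_ker, Subgroup.index_ker]

theorem normalizerMonoidHom_apply_coe {G : Type*} [Group G] (H : Subgroup G)
    (m : normalizer (H : Set G)) (y : H) :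
    ((H.normalizerMonoidHom m y : H) : G) = (m : G) * y * (m : G)⁻¹ := rfl

/-- If an element of the normalizer inverts an element `x` of `H` with `x ^ 2 ≠ 1`
then the automizer `N_G(H)/C_G(H)` has even order. -/
theorem two_dvd_automizer_of_inverting {G : Type*} [Group G] [Finite G] (H : Subgroup G)
    (x m : G) (hx : x ∈ H) (hm : m ∈ normalizer (H : Set G)) (hinv : m * x * m⁻¹ = x⁻¹)
    (hx2 : x ^ 2 ≠ 1) :
    2 ∣ ((centralizer (H : Set G)).subgroupOf (normalizer (H : Set G))).index := by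
  rw [automizer_index_eq]
  set φ : MulAut H := H.normalizerMonoidHom ⟨m, hm⟩ with hφ
  have hφmem : φ ∈ H.normalizerMonoidHom.range := ⟨_, rfl⟩
  have h1 : φ ⟨x, hx⟩ = (⟨x, hx⟩ : H)⁻¹ := by
    apply Subtype.ext
    rw [hφ, normalizerMonoidHom_apply_coe]
    simpa using hinv
  have h2 : ∀ j : ℕ, (φ ^ (2 * j)) ⟨x, hx⟩ = ⟨x, hx⟩ := by
    intro j
    induction j with
    | zero => simp
    | succ j ih =>
      rw [Nat.mul_succ, pow_add, MulAut.mul_apply, pow_two, MulAut.mul_apply, h1, map_inv, h1,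
        inv_inv, ih]
  have h3 : 2 ∣ orderOf φ := by
    by_contra hodd
    obtain ⟨j, hj⟩ := Nat.odd_iff.mpr (by omega : orderOf φ % 2 = 1)
    have h4 : (φ ^ orderOf φ) ⟨x, hx⟩ = (⟨x, hx⟩ : H)⁻¹ := by
      rw [hj, pow_add, pow_one, MulAut.mul_apply, h1, map_inv, h2]
    rw [pow_orderOf_eq_one, MulAut.one_apply] at h4
    apply hx2
    have h5 : x = x⁻¹ := congrArg Subtype.val h4
    rw [pow_two]
    nth_rewrite 1 [h5]
    simp
  have h6 : orderOf (⟨φ, hφmem⟩ : H.normalizerMonoidHom.range) = orderOf φ :=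
    Subgroup.orderOf_mk φ hφmem
  rw [← h6] at h3
  exact h3.trans (orderOf_dvd_natCard _)

end Cfsg.Agent.Lib.Helper43
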