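import Cfsg.Agent.Lib.Helper43.J2Fus3

set_option autoImplicit false
set_option linter.constructorNameAsVariable false
open Quaternion

namespace Cfsg.Agent.Lib.Helper43.J2
open Cfsg.Spor Q8 V3

/-! ### the semilinear symmetry of the lattice: the field automorphism followed by a rotation -/

def psi (x : Q8) : Q8 :=
  ⟨x.a0 + x.b0, -x.b0, -(x.a1 + x.b1), x.b1, -(x.a3 + x.b3), x.b3, -(x.a2 + x.b2), x.b2⟩

lemma psi_psi (x : Q8) : psi (psi x) = x := by
  ext <;> simp [psi]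

lemma psi_add (x y : Q8) : psi (x + y) = psi x + psi y := by
  ext <;> simp [psi, add_def] <;> ring

lemma psi_sub (x y : Q8) : psi (x - y) = psi x - psi y := by
  ext <;> simp [psi, sub_def] <;> ring

lemma psi_neg (x : Q8) : psi (-x) = -psi x := by
  ext <;> simp [psi, neg_def] <;> ring

lemma psi_conj (x : Q8) : psi (conj x) = conj (psi x) := by
  ext <;> simp [psi, conj] <;> ring

lemma psi_sc (n : ℤ) (x : Q8) : psi (sc n x) = sc n (psi x) := by
  ext <;> simp [psi, sc] <;> ring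

lemma psi_mul2 (x y : Q8) : psi (mul2 x y) = mul2 (psi x) (psi y) := by
  ext <;> simp [psi, mul2] <;> ring

lemma isIco_psi {x : Q8} (h : isIco x) : isIco (psi x) := by
  unfold isIco at *
  simp only [psi]
  omega

lemma dvd_sc (n : ℤ) (x : Q8) : dvd n (sc n x) := by
  simp [dvd, sc]

lemma sc_neg (n : ℤ) (x : Q8) : sc n (-x) = -sc n x := by
  ext <;> simp [sc, neg_def]

lemma mul2_neg (x y : Q8) : mul2 x (-y) = -mul2 x y := by
  ext <;> simp [mul2, neg_def] <;> ring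

lemma psi_dv {n : ℤ} (hn : n ≠ 0) {x : Q8} (h : dvd n x) :
    dvd n (psi x) ∧ dv n (psi x) = psi (dv n x) := by
  have e : psi x = sc n (psi (dv n x)) := by rw [← psi_sc, sc_dv h]
  rw [e]
  exact ⟨dvd_sc n _, dv_sc hn _⟩

lemma psi_mulI {x y : Q8} (hx : isIco x) (hy : isIco y) : psi (mulI x y) = mulI (psi x) (psi y) := by
  unfold mulI
  rw [← psi_mul2, (psi_dv (by norm_num) (isIco_mul hx hy).1).2]

lemma psi_H : psi H = -H := by decide
lemma psi_Hb : psi Hb = -Hb := by decide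

lemma div4_psi {W K : Q8} (hK : psi K = -K) (h : dvd 4 (mul2 W K) ∧ isIco (dv 4 (mul2 W K))) :
    dvd 4 (mul2 (psi W) K) ∧ isIco (dv 4 (mul2 (psi W) K)) := by
  have e : mul2 (psi W) K = sc 4 (-psi (dv 4 (mul2 W K))) := by
    have hK' : K = -psi K := by rw [hK]; ext <;> simp [neg_def]
    nth_rewrite 1 [hK']
    rw [mul2_neg, ← psi_mul2, sc_neg, ← psi_sc, sc_dv h.1]
  rw [e, dv_sc (by norm_num)]
  exact ⟨dvd_sc 4 _, isIco_neg (isIco_psi h.2)⟩

lemma inIh_psi {W : Q8} (h : inIh W) : inIh (psi W) := div4_psi psi_Hb h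
lemma inIhb_psi {W : Q8} (h : inIhb W) : inIhb (psi W) := div4_psi psi_H h

def psi3 (v : V3) : V3 := ⟨psi v.x, psi v.y, psi v.z⟩

lemma psi3_psi3 (v : V3) : psi3 (psi3 v) = v := by
  ext1 <;> exact psi_psi _

lemma inLeech_psi3 {v : V3} (h : inLeech v) : inLeech (psi3 v) := by
  obtain ⟨h1, h2, h3, h4, h5, h6⟩ := h
  refine ⟨isIco_psi h1, isIco_psi h2, isIco_psi h3, ?_, ?_, ?_⟩
  · show inIh (psi v.x - psi v.y)
    rw [← psi_sub]; exact inIh_psi h4
  · show inIh (psi v.y - psi v.z)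
    rw [← psi_sub]; exact inIh_psi h5
  · show inIhb (psi v.x + psi v.y + psi v.z)
    rw [← psi_add, ← psi_add]; exact inIhb_psi h6

lemma P_psi (x : Q8) : P (psi x) = P x + Q x := by
  simp only [P, Q, psi]; ring

lemma Q_psi (x : Q8) : Q (psi x) = -Q x := by
  simp only [Q, psi]; ring

lemma isMin_psi3 {v : V3} (h : isMin v) : isMin (psi3 v) := by
  obtain ⟨h1, h2, h3⟩ := h
  refine ⟨inLeech_psi3 h1, ?_, ?_⟩
  · unfold PP QQ at *
    simp only [psi3, P_psi]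
    omega
  · unfold QQ at *
    simp only [psi3, Q_psi]
    omega

lemma ipM_psi3 (x r : V3) : ipM (psi3 x) (psi3 r) = psi (ipM x r) := by
  simp only [ipM, psi3, psi_add, psi_mul2, psi_conj]

lemma ipM_eq_sc {r x : V3} (hr : inLeech r) (hx : inLeech x) : ∃ q, isIco q ∧ ipM x r = sc 4 q := by
  have hm := half_qip_mem ((inLeech_iff x).1 hx) ((inLeech_iff r).1 hr)
  obtain ⟨q, hq, he⟩ := icosians_le _ hm
  refine ⟨q, hq, ?_⟩
  apply toH_injective
  rw [toH_ipM, toH_sc, he, smul_smul]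
  norm_num

lemma reflM_psi3 {r x : V3} (hr : inLeech r) (hx : inLeech x) :
    reflM (psi3 r) (psi3 x) = psi3 (reflM r x) := by
  obtain ⟨q, hq, e⟩ := ipM_eq_sc hr hx
  have e1 : dv 4 (ipM x r) = q := by rw [e, dv_sc (by norm_num)]
  have e2 : dv 4 (ipM (psi3 x) (psi3 r)) = psi q := by
    rw [ipM_psi3, e, psi_sc, dv_sc (by norm_num)]
  unfold reflM
  rw [e1, e2]
  ext1
  · show psi x.x - mulI (psi q) (psi r.x) = psi (x.x - mulI q r.x)
    rw [psi_sub, psi_mulI hq hr.1]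
  · show psi x.y - mulI (psi q) (psi r.y) = psi (x.y - mulI q r.y)
    rw [psi_sub, psi_mulI hq hr.2.1]
  · show psi x.z - mulI (psi q) (psi r.z) = psi (x.z - mulI q r.z)
    rw [psi_sub, psi_mulI hq hr.2.2.1]

/-- the semilinear permutation of the lattice -/
noncomputable def Psi : Equiv.Perm LL where
  toFun x := mkL (psi3 (cd x)) (inLeech_psi3 (cd_in x))
  invFun x := mkL (psi3 (cd x)) (inLeech_psi3 (cd_in x))
  left_inv x := cd_inj (by rw [cd_mkL, cd_mkL, psi3_psi3])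
  right_inv x := cd_inj (by rw [cd_mkL, cd_mkL, psi3_psi3])

lemma cd_Psi (x : LL) : cd (Psi x) = psi3 (cd x) := cd_mkL _ (inLeech_psi3 (cd_in x))

lemma Psi_inv : Psi⁻¹ = Psi := rfl

lemma Psi_conj_RF {r : V3} (hr : isMin r) : Psi * RF r * Psi⁻¹ = RF (psi3 r) := by
  apply Equiv.ext
  intro x
  apply cd_inj
  rw [Psi_inv, Equiv.Perm.mul_apply, Equiv.Perm.mul_apply, cd_Psi, cd_RF hr, cd_Psi,
    cd_RF (isMin_psi3 hr), ← reflM_psi3 hr.1 (inLeech_psi3 (cd_in x)), psi3_psi3]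

lemma Mn_Psi {x : LL} (hx : Mn x) : Mn (Psi x) := by
  have h := qip_self_of_isMin (isMin_psi3 (isMin_cd hx))
  rw [← cd_Psi, toV_cd] at h
  exact h

lemma Psi_conj_rl {x : LL} (hx : Mn x) : Psi * rl x * Psi⁻¹ = rl (Psi x) := by
  rw [rl, rl, cd_Psi]
  exact Psi_conj_RF (isMin_cd hx)

lemma Psi_conj_mem {g : Equiv.Perm LL} (hg : g ∈ twoJ2) : Psi * g * Psi⁻¹ ∈ twoJ2 := by
  have h : twoJ2 ≤ twoJ2.comap (MulAut.conj Psi).toMonoidHom := by
    unfold twoJ2
    rw [Subgroup.closure_le]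
    intro f hf
    obtain ⟨r, hr, h4, rfl⟩ := (isIcoReflection_iff f).1 hf
    have hx : Mn (⟨r, hr⟩ : LL) := h4
    show Psi * reflP r hr h4 * Psi⁻¹ ∈ Subgroup.closure _
    rw [← rl_eq hx, Psi_conj_rl hx]
    exact rl_mem (Mn_Psi hx)
  exact h hg

noncomputable def sigT : twoJ2 ≃* twoJ2 where
  toFun g := ⟨Psi * g.1 * Psi⁻¹, Psi_conj_mem g.2⟩
  invFun g := ⟨Psi * g.1 * Psi⁻¹, Psi_conj_mem g.2⟩
  left_inv g := Subtype.ext (by
    show Psi * (Psi * g.1 * Psi⁻¹) * Psi⁻¹ = g.1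
    have h : Psi * Psi = 1 := by
      nth_rewrite 1 [← Psi_inv]; exact inv_mul_cancel _
    rw [Psi_inv, mul_assoc, mul_assoc, h, mul_one, ← mul_assoc, h, one_mul])
  right_inv g := Subtype.ext (by
    show Psi * (Psi * g.1 * Psi⁻¹) * Psi⁻¹ = g.1
    have h : Psi * Psi = 1 := by
      nth_rewrite 1 [← Psi_inv]; exact inv_mul_cancel _
    rw [Psi_inv, mul_assoc, mul_assoc, h, mul_one, ← mul_assoc, h, one_mul])
  map_mul' a b := Subtype.ext (by
    show Psi * (a.1 * b.1) * Psi⁻¹ = Psi * a.1 * Psi⁻¹ * (Psi * b.1 * Psi⁻¹)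
    group)

noncomputable def sigJ : MulAut J2 :=
  QuotientGroup.congr (Subgroup.center twoJ2) (Subgroup.center twoJ2) sigT
    (Subgroup.characteristic_iff_map_eq.1 inferInstance sigT)

lemma sigJ_mk (g : twoJ2) : sigJ (QuotientGroup.mk g) = QuotientGroup.mk (sigT g) := rfl

/-! ### it is not inner -/

lemma mk_eq_iff (a b : twoJ2) :
    (QuotientGroup.mk a : J2) = QuotientGroup.mk b ↔ a.1 = b.1 ∨ a.1 = negP * b.1 := by
  constructor
  · intro h
    have h1 : (QuotientGroup.mk (a * b⁻¹) : J2) = 1 := by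
      rw [QuotientGroup.mk_mul, QuotientGroup.mk_inv, h, mul_inv_cancel]
    rcases (mk_eq_one_iff _).1 h1 with h2 | h2
    · left
      have h3 : a.1 * b.1⁻¹ = 1 := h2
      exact mul_inv_eq_one.1 h3
    · right
      have h3 : a.1 * b.1⁻¹ = negP := h2
      rw [← h3]; group
  · exact mk_eq_of

noncomputable def rlJ (x : LL) (hx : Mn x) : J2 := QuotientGroup.mk ⟨rl x, rl_mem hx⟩

lemma SL_of_rlJ_eq {x y : LL} (hx : Mn x) (hy : Mn y) (h : rlJ x hx = rlJ y hy) : SL x y := by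
  obtain ⟨g, hg, e⟩ := exists_map_b0 hy
  have lg := twoJ2_le_AA hg
  have lg' : IsLin g⁻¹ := AA.inv_mem lg
  have hx' : Mn (g⁻¹ x) := hx.map lg'
  have c1 := rl_conj lg' hx
  have c2 := rl_conj lg' hy
  have ey : g⁻¹ y = b0 := by rw [← e, perm_inv_apply]
  rw [ey] at c2
  have key : SL (g⁻¹ x) b0 := by
    rcases (mk_eq_iff _ _).1 h with h1 | h1
    · have h2 : rl x = rl y := h1
      apply SL_of_rl_eq hx'
      rw [← c1, h2, c2]
    · exfalso
      have h2 : rl x = negP * rl y := h1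
      apply rl_ne_neg hx'
      rw [← c1, h2, ← c2, ← mul_assoc, negP_comm lg']
      group
  have := key.map lg
  rwa [perm_apply_inv, e] at this

lemma normSq_unit {u : Q8} (hu : isU u) : Quaternion.normSq (toH u) = 1 := by
  rw [normSq_toH, hu.2.1, hu.2.2]; norm_num

lemma normSq_qip_SL {x x' y y' : LL} (h : SL x x') (h' : SL y y') :
    Quaternion.normSq (qip x.1 y.1) = Quaternion.normSq (qip x'.1 y'.1) := by
  obtain ⟨u, hu, e⟩ := h
  obtain ⟨v, hv, e'⟩ := h'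
  rw [e, e', qip_smul_left, qip_smul_right, map_mul, map_mul, Quaternion.normSq_star,
    normSq_unit hu, normSq_unit hv, one_mul, mul_one]

def r5 : V3 := NV.getD 170 B0
theorem isMin_r5 : isMin r5 := by decide +kernel
theorem r5_chk : Q (ipM B0 r5) ≠ 0 := by decide +kernel

lemma normSq_qip_cd (x y : LL) :
    4 * Quaternion.normSq (qip x.1 y.1) = ((P (ipM (cd x) (cd y)) : ℝ) + Q (ipM (cd x) (cd y)) * tau) / 4 := by
  rw [← normSq_toH, toH_ipM, toV_cd, toV_cd, Quaternion.normSq_smul]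
  norm_num

theorem sigJ_not_inner : sigJ ∉ Cfsg.Inn J2 := by
  rintro ⟨c, hc⟩
  obtain ⟨a, rfl⟩ := QuotientGroup.mk_surjective c
  have la := twoJ2_le_AA a.2
  have key : ∀ x : LL, Mn x → SL (Psi x) (a.1 x) := by
    intro x hx
    apply SL_of_rlJ_eq (Mn_Psi hx) (hx.map la)
    have h1 := congrArg (fun f : MulAut J2 => f (rlJ x hx)) hc
    simp only [MulAut.conj_apply] at h1
    have h2 : sigJ (rlJ x hx) = rlJ (Psi x) (Mn_Psi hx) := by
      rw [rlJ, sigJ_mk]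
      exact congrArg _ (Subtype.ext (Psi_conj_rl hx))
    have h3 : (QuotientGroup.mk a : J2) * rlJ x hx * (QuotientGroup.mk a)⁻¹ = rlJ (a.1 x) (hx.map la) := by
      rw [rlJ, rlJ, ← QuotientGroup.mk_inv, ← QuotientGroup.mk_mul, ← QuotientGroup.mk_mul]
      exact congrArg _ (Subtype.ext (rl_conj la hx))
    rw [← h2, ← h3, h1]
  have m5 := Mn_mk' isMin_r5
  have h1 := normSq_qip_SL (key b0 Mn_b0) (key _ m5)
  rw [la.2] at h1
  have h2 := normSq_qip_cd (Psi b0) (Psi (mk' r5))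
  have h3 := normSq_qip_cd b0 (mk' r5)
  rw [h1, h3, cd_Psi, cd_Psi, ipM_psi3, P_psi, Q_psi, cd_b0, cd_mk' isMin_r5.1] at h2
  have h4 : ((P (ipM B0 r5) : ℤ) : ℝ) + ((Q (ipM B0 r5) : ℤ) : ℝ) * tau =
      ((P (ipM B0 r5) + Q (ipM B0 r5) : ℤ) : ℝ) + ((-Q (ipM B0 r5) : ℤ) : ℝ) * tau := by
    linarith
  have h5 := (tau_inj h4).2
  exact r5_chk (by omega)

end Cfsg.Agent.Lib.Helper43.J2
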