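import Cfsg.Agent.Lib.Helper43.J2AutE

set_option autoImplicit false
set_option linter.constructorNameAsVariable false
open Quaternion

namespace Cfsg.Agent.Lib.Helper43.J2
open Cfsg.Spor Q8 V3

/-! ### orders of products of two reflections, read modulo 311 -/

noncomputable def XT (i : ℕ) : twoJ2 := ⟨RF (rv i), RF_mem (isMin_rv i)⟩
noncomputable def X (i : ℕ) : J2 := QuotientGroup.mk (XT i)

theorem one_mul_chk : mulN oneN oneN = oneN ∧ mulN oneN negN = negN := by decide +kernel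

lemma rep_one : Rep oneN (code 1) := by rw [code_one, oneN_eq]; exact rep_encM _
lemma rep_neg : Rep negN (code negP) := by rw [code_negP, negN_eq]; exact rep_encM _

lemma isPM_iff {A B : NM} {a : twoJ2} {n : ℕ} (hA : RepP (mulN A B) a.1 n) :
    isPM (mulN A B) = true ↔ (QuotientGroup.mk a : J2) ^ n = 1 := by
  have la := twoJ2_le_AA a.2
  rw [← QuotientGroup.mk_pow, mk_eq_one_iff]
  constructor
  · intro h
    exact isPM_spec la hA h
  · intro h
    have h' : a.1 ^ n = 1 ∨ a.1 ^ n = negP := h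
    unfold isPM
    rw [Bool.or_eq_true_iff, decide_eq_true_eq, decide_eq_true_eq]
    unfold RepP at hA
    rcases h' with h' | h'
    · left
      rw [h'] at hA
      have := mulN_eq_of_rep hA (one_mul_chk.1.symm ▸ rep_one)
      rw [this, one_mul_chk.1]
    · right
      rw [h'] at hA
      have := mulN_eq_of_rep hA (one_mul_chk.2.symm ▸ rep_neg)
      rw [this, one_mul_chk.2]

section pair
variable {i j : ℕ} (hi : i < 315) (hj : j < 315)
include hi hj

lemma rep_AB : RepP (AB i j) (XT j * XT i).1 1 := by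
  unfold RepP
  rw [pow_one]
  exact rep_mul (twoJ2_le_AA (XT j).2) (rep_NR hj) (rep_NR hi)

lemma o1_iff : o1 i j = true ↔ (X j * X i) ^ 1 = 1 := isPM_iff (rep_AB hi hj)

lemma o2_iff : o2 i j = true ↔ (X j * X i) ^ 2 = 1 :=
  isPM_iff (a := XT j * XT i)
    (RepP.mul' (twoJ2_le_AA (XT j * XT i).2) (rep_AB hi hj) (rep_AB hi hj) rfl rfl)

lemma o4_iff : o4 i j = true ↔ (X j * X i) ^ 4 = 1 := by
  have l := twoJ2_le_AA (XT j * XT i).2
  have r1 := rep_AB hi hj
  have r2 : RepP (sqN (AB i j)) (XT j * XT i).1 2 := RepP.mul' l r1 r1 rfl rfl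
  exact isPM_iff (a := XT j * XT i) (RepP.mul' l r2 r2 rfl rfl)

lemma o5_iff : o5 i j = true ↔ (X j * X i) ^ 5 = 1 := by
  have l := twoJ2_le_AA (XT j * XT i).2
  have r1 := rep_AB hi hj
  have r2 : RepP (sqN (AB i j)) (XT j * XT i).1 2 := RepP.mul' l r1 r1 rfl rfl
  have r4 : RepP (p4 (AB i j)) (XT j * XT i).1 4 := RepP.mul' l r2 r2 rfl rfl
  exact isPM_iff (a := XT j * XT i) (RepP.mul' l r4 r1 rfl rfl)

end pair

/-! ### admissible quadruples -/

structure Adm (e1 e2 e3 e4 : J2) : Prop where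
  a1 : (e2 * e1) ^ 1 ≠ 1
  a2 : (e2 * e1) ^ 2 = 1
  b1 : (e3 * e1) ^ 1 ≠ 1
  b5 : (e3 * e1) ^ 5 = 1
  c1 : (e4 * e1) ^ 1 ≠ 1
  c5 : (e4 * e1) ^ 5 = 1
  d5 : (e3 * e2) ^ 5 = 1
  f5 : (e4 * e2) ^ 5 = 1
  g4 : (e4 * e3) ^ 4 = 1
  g2 : (e4 * e3) ^ 2 ≠ 1

lemma map_pw (α : MulAut J2) (x y : J2) (n : ℕ) : (α x * α y) ^ n = 1 ↔ (x * y) ^ n = 1 := by
  rw [← map_mul, ← map_pow]
  exact EmbeddingLike.map_eq_one_iff

lemma Adm.map (α : MulAut J2) {e1 e2 e3 e4 : J2} (h : Adm e1 e2 e3 e4) :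
    Adm (α e1) (α e2) (α e3) (α e4) where
  a1 := fun k => h.a1 ((map_pw α _ _ _).1 k)
  a2 := (map_pw α _ _ _).2 h.a2
  b1 := fun k => h.b1 ((map_pw α _ _ _).1 k)
  b5 := (map_pw α _ _ _).2 h.b5
  c1 := fun k => h.c1 ((map_pw α _ _ _).1 k)
  c5 := (map_pw α _ _ _).2 h.c5
  d5 := (map_pw α _ _ _).2 h.d5
  f5 := (map_pw α _ _ _).2 h.f5
  g4 := (map_pw α _ _ _).2 h.g4
  g2 := fun k => h.g2 ((map_pw α _ _ _).1 k)

lemma not_true_iff {b : Bool} {p : Prop} (h : b = true ↔ p) : (!b) = true ↔ ¬ p := by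
  rw [Bool.not_eq_true', ← h]; simp

lemma mem_C2 {i : ℕ} (hi : i < 315) (h1 : (X i * X 0) ^ 1 ≠ 1) (h2 : (X i * X 0) ^ 2 = 1) : i ∈ C2 := by
  rw [← C2L_eq, C2L, List.mem_filter, List.mem_range, Bool.and_eq_true_iff]
  exact ⟨hi, (not_true_iff (o1_iff (by norm_num) hi)).2 h1, (o2_iff (by norm_num) hi).2 h2⟩

lemma mem_C5 {i : ℕ} (hi : i < 315) (h1 : (X i * X 0) ^ 1 ≠ 1) (h2 : (X i * X 0) ^ 5 = 1) : i ∈ C5 := by
  rw [← C5L_eq, C5L, List.mem_filter, List.mem_range, Bool.and_eq_true_iff]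
  exact ⟨hi, (not_true_iff (o1_iff (by norm_num) hi)).2 h1, (o5_iff (by norm_num) hi).2 h2⟩

lemma mem_admL {i j k : ℕ} (hi : i < 315) (hj : j < 315) (hk : k < 315)
    (h : Adm (X 0) (X i) (X j) (X k)) : (i, j, k) ∈ admL := by
  unfold admL
  rw [List.mem_flatMap]
  refine ⟨i, mem_C2 hi h.a1 h.a2, ?_⟩
  rw [List.mem_flatMap]
  refine ⟨j, List.mem_filter.2 ⟨mem_C5 hj h.b1 h.b5, (o5_iff hi hj).2 h.d5⟩, ?_⟩
  rw [List.mem_map]
  refine ⟨k, List.mem_filter.2 ⟨List.mem_filter.2 ⟨mem_C5 hk h.c1 h.c5, (o5_iff hi hk).2 h.f5⟩, ?_⟩, rfl⟩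
  rw [Bool.and_eq_true_iff]
  exact ⟨(o4_iff hj hk).2 h.g4, (not_true_iff (o2_iff hj hk)).2 h.g2⟩

theorem base_chk : (!o1 0 184 && o2 0 184 && (!o1 0 170 && o5 0 170) && (!o1 0 171 && o5 0 171) &&
    (o5 184 170 && o5 184 171) && (o4 170 171 && !o2 170 171)) = true := by decide +kernel

lemma adm_base : Adm (X 0) (X 184) (X 170) (X 171) := by
  have h := base_chk
  simp only [Bool.and_eq_true_iff] at h
  obtain ⟨⟨⟨⟨⟨a1, a2⟩, b1, b5⟩, c1, c5⟩, d5, f5⟩, g4, g2⟩ := h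
  exact
   { a1 := (not_true_iff (o1_iff (by norm_num) (by norm_num))).1 a1
     a2 := (o2_iff (by norm_num) (by norm_num)).1 a2
     b1 := (not_true_iff (o1_iff (by norm_num) (by norm_num))).1 b1
     b5 := (o5_iff (by norm_num) (by norm_num)).1 b5
     c1 := (not_true_iff (o1_iff (by norm_num) (by norm_num))).1 c1
     c5 := (o5_iff (by norm_num) (by norm_num)).1 c5
     d5 := (o5_iff (by norm_num) (by norm_num)).1 d5
     f5 := (o5_iff (by norm_num) (by norm_num)).1 f5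
     g4 := (o4_iff (by norm_num) (by norm_num)).1 g4
     g2 := (not_true_iff (o2_iff (by norm_num) (by norm_num))).1 g2 }

/-! ### generation by four reflections -/

def genChk : List ℕ → List (ℕ × ℕ × ℕ) → Bool
  | known, [] => (List.range 315).all fun i => known.contains i
  | known, (a, b, c) :: t =>
    (known.contains a && known.contains b && (decide (a < 315) && decide (b < 315) && decide (c < 315)) &&
      decide (mulN (NR a) (mulN (NR b) (NR a)) = NR c)) && genChk (c :: known) t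

theorem genChk_true : genChk [0, 184, 170, 171] GCERT = true := by decide +kernel

lemma X_conj_eq {a b c : ℕ} (ha : a < 315) (hb : b < 315) (hc : c < 315)
    (h : mulN (NR a) (mulN (NR b) (NR a)) = NR c) : X a * X b * X a = X c := by
  have la := twoJ2_le_AA (XT a).2
  have lab := twoJ2_le_AA (XT a * XT b).2
  have r1 : Rep (mulN (NR b) (NR a)) (code (XT a * XT b).1) := rep_mul la (rep_NR ha) (rep_NR hb)
  have r2 : Rep (mulN (NR a) (mulN (NR b) (NR a))) (code (XT a * XT b * XT a).1) :=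
    rep_mul lab r1 (rep_NR ha)
  rw [h] at r2
  have l3 := twoJ2_le_AA (XT a * XT b * XT a).2
  have lc := twoJ2_le_AA (XT c).2
  have e : (XT a * XT b * XT a).1 = (XT c).1 :=
    code_inj l3 lc (rep_inj r2 (rep_NR hc) (minRows_code l3) (minRows_code lc))
  exact congrArg _ (Subtype.ext e)

lemma gen_aux (K : Subgroup J2) : ∀ (cert : List (ℕ × ℕ × ℕ)) (known : List ℕ),
    (∀ i ∈ known, X i ∈ K) → genChk known cert = true → ∀ i < 315, X i ∈ K
  | [], known, hk, h => by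
    intro i hi
    have h1 := List.all_eq_true.1 h i (List.mem_range.2 hi)
    exact hk i (List.contains_iff_mem.1 h1)
  | (a, b, c) :: t, known, hk, h => by
    unfold genChk at h
    simp only [Bool.and_eq_true_iff, decide_eq_true_eq, List.contains_iff_mem] at h
    obtain ⟨⟨⟨⟨ma, mb⟩, ⟨ha, hb⟩, hc⟩, e⟩, ht⟩ := h
    refine gen_aux K t (c :: known) ?_ ht
    intro i hi
    rcases List.mem_cons.1 hi with rfl | hi
    · rw [← X_conj_eq ha hb hc e]
      exact K.mul_mem (K.mul_mem (hk a ma) (hk b mb)) (hk a ma)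
    · exact hk i hi

lemma exists_X_of_Mn {x : LL} (hx : Mn x) : ∃ i < 315, rlJ x hx = X i := by
  obtain ⟨u, r₀, _, hr₀, _, e'⟩ := exists_NV_of_Mn hx
  obtain ⟨i, hi, he⟩ := List.mem_iff_getElem.1 hr₀
  refine ⟨i, by rwa [NV_len] at hi, ?_⟩
  have e2 : rv i = r₀ := by rw [rv, List.getD_eq_getElem _ _ hi, he]
  exact congrArg _ (Subtype.ext (by show rl x = RF (rv i); rw [e2, e']))

def GS : Set J2 := {X 0, X 184, X 170, X 171}

theorem closure_GS : Subgroup.closure GS = ⊤ := by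
  set K := Subgroup.closure GS with hK
  have hk : ∀ i ∈ [0, 184, 170, 171], X i ∈ K := by
    intro i hi
    apply Subgroup.subset_closure
    simp only [List.mem_cons, List.not_mem_nil, or_false] at hi
    rcases hi with rfl | rfl | rfl | rfl <;> simp [GS]
  have hall := gen_aux K GCERT _ hk genChk_true
  have hle : twoJ2 ≤ (K.comap pj).map twoJ2.subtype := by
    unfold twoJ2
    rw [Subgroup.closure_le]
    intro f hf
    obtain ⟨r, hr, h4, rfl⟩ := (isIcoReflection_iff f).1 hf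
    have hx : Mn (⟨r, hr⟩ : LL) := h4
    obtain ⟨i, hi, e⟩ := exists_X_of_Mn hx
    refine ⟨⟨rl ⟨r, hr⟩, rl_mem hx⟩, ?_, rl_eq hx⟩
    show rlJ _ hx ∈ K
    rw [e]; exact hall i hi
  rw [eq_top_iff]
  intro x _
  obtain ⟨g, rfl⟩ := QuotientGroup.mk_surjective x
  obtain ⟨g', hg', e⟩ := hle g.2
  have : g' = g := Subtype.ext e
  rw [← this]
  exact hg'

end Cfsg.Agent.Lib.Helper43.J2
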