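import Cfsg.Agent.Lib.Helper43.J2Aut2

set_option autoImplicit false
set_option linter.constructorNameAsVariable false
open Quaternion

namespace Cfsg.Agent.Lib.Helper43.J2
open Cfsg.Spor Q8 V3
open scoped Classical

/-! ### automorphisms permute the class of reflections -/

theorem rv_zero : rv 0 = B0 := by decide +kernel

lemma X_zero : X 0 = zb := congrArg _ (Subtype.ext (by show RF (rv 0) = RF B0; rw [rv_zero]))

lemma conj_zb (c : J2) : ∃ i < 315, c * zb * c⁻¹ = X i := by
  obtain ⟨a, rfl⟩ := QuotientGroup.mk_surjective c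
  have la := twoJ2_le_AA a.2
  obtain ⟨i, hi, e⟩ := exists_X_of_Mn (Mn_b0.map la)
  refine ⟨i, hi, ?_⟩
  rw [← e, rlJ, zb, ← QuotientGroup.mk_inv, ← QuotientGroup.mk_mul, ← QuotientGroup.mk_mul]
  refine congrArg _ (Subtype.ext ?_)
  show a.1 * RF B0 * a.1⁻¹ = rl (a.1 b0)
  rw [← rl_b0]
  exact rl_conj la Mn_b0

lemma X_eq_conj (i : ℕ) : ∃ c : J2, X i = c * zb * c⁻¹ := by
  have hr := isMin_rv i
  obtain ⟨g, hg, e⟩ := exists_map_b0 (Mn_mk' hr)
  have hc := rl_conj (twoJ2_le_AA hg) Mn_b0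
  rw [e, rl_mk' hr, rl_b0] at hc
  refine ⟨QuotientGroup.mk ⟨g, hg⟩, ?_⟩
  have e2 : XT i = ⟨g, hg⟩ * rho0 * ⟨g, hg⟩⁻¹ := Subtype.ext hc.symm
  rw [X, e2]; rfl

theorem aut_zb (α : MulAut J2) : ∃ g : J2, α zb = g * zb * g⁻¹ := by
  haveI : Fact (Nat.Prime 2) := ⟨Nat.prime_two⟩
  have hp1 : IsPGroup 2 (Sb.map α.toMonoidHom) := isPGroup_Sb.map _
  have hi : (Sb.map α.toMonoidHom).index = 4725 := by
    rw [Subgroup.index_map_of_bijective (f := α.toMonoidHom) α.bijective Sb, index_Sb]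
  let S0 : Sylow 2 J2 := isPGroup_Sb.toSylow (by rw [index_Sb]; norm_num)
  let S1 : Sylow 2 J2 := hp1.toSylow (by rw [hi]; norm_num)
  obtain ⟨g, hg⟩ := MulAction.exists_smul_eq J2 S0 S1
  have e2 : Sb.map α.toMonoidHom = Sb.map (MulAut.conj g).toMonoidHom := by
    have := congrArg (fun S : Sylow 2 J2 => (S : Subgroup J2)) hg
    exact this.symm
  -- `y = g⁻¹ α(z) g` is central in `Sb`
  have hmem : ∀ s ∈ Sb, g⁻¹ * α s * g ∈ Sb := by
    intro s hs
    have h1 : α s ∈ Sb.map (MulAut.conj g).toMonoidHom := e2 ▸ ⟨s, hs, rfl⟩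
    obtain ⟨t, ht, e⟩ := h1
    have e' : g * t * g⁻¹ = α s := e
    rw [← e']
    have : g⁻¹ * (g * t * g⁻¹) * g = t := by group
    rw [this]; exact ht
  have hsurj : ∀ t ∈ Sb, ∃ s ∈ Sb, g⁻¹ * α s * g = t := by
    intro t ht
    have h1 : g * t * g⁻¹ ∈ Sb.map α.toMonoidHom := e2 ▸ ⟨t, ht, rfl⟩
    obtain ⟨s, hs, e⟩ := h1
    have e' : α s = g * t * g⁻¹ := e
    exact ⟨s, hs, by rw [e']; group⟩
  have hy : g⁻¹ * α zb * g ∈ Subgroup.centralizer (Qb : Set J2) := by
    rw [Subgroup.mem_centralizer_iff]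
    intro q hq
    obtain ⟨s, hs, rfl⟩ := hsurj q (Qb_le_Sb hq)
    have hc := zb_comm (Sb_le_Hb hs)
    calc g⁻¹ * α s * g * (g⁻¹ * α zb * g) = g⁻¹ * α (s * zb) * g := by rw [map_mul]; group
      _ = g⁻¹ * α (zb * s) * g := by rw [hc]
      _ = g⁻¹ * α zb * g * (g⁻¹ * α s * g) := by rw [map_mul]; group
  refine ⟨g, ?_⟩
  rcases cent_Q hy with h | h
  · exfalso
    have h1 : α zb = 1 := by
      have : α zb = g * (g⁻¹ * α zb * g) * g⁻¹ := by group
      rw [this, h]; group
    exact zb_ne_one (EmbeddingLike.map_eq_one_iff.1 h1)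
  · have : α zb = g * (g⁻¹ * α zb * g) * g⁻¹ := by group
    rw [this, h]

lemma aut_X (α : MulAut J2) (i : ℕ) : ∃ j < 315, α (X i) = X j := by
  obtain ⟨c, hc⟩ := X_eq_conj i
  obtain ⟨g, hg⟩ := aut_zb α
  obtain ⟨j, hj, e⟩ := conj_zb (α c * g)
  refine ⟨j, hj, ?_⟩
  rw [← e, hc, map_mul, map_mul, map_inv, hg]
  group

/-! ### counting automorphisms -/

instance finite_aut : Finite (MulAut J2) :=
  Finite.of_injective (fun α : MulAut J2 => (α : J2 → J2)) DFunLike.coe_injective

noncomputable def idx (y : J2) : ℕ := if h : ∃ i < 315, y = X i then h.choose else 0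

lemma idx_spec {y : J2} (h : ∃ i < 315, y = X i) : idx y < 315 ∧ y = X (idx y) := by
  rw [idx, dif_pos h]; exact h.choose_spec

noncomputable def trip (α : MulAut J2) : ℕ × ℕ × ℕ := (idx (α (X 184)), idx (α (X 170)), idx (α (X 171)))

lemma trip_mem {α : MulAut J2} (h : α zb = zb) : trip α ∈ admL := by
  obtain ⟨h1, e1⟩ := idx_spec (aut_X α 184)
  obtain ⟨h2, e2⟩ := idx_spec (aut_X α 170)
  obtain ⟨h3, e3⟩ := idx_spec (aut_X α 171)
  apply mem_admL h1 h2 h3
  have := adm_base.map α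
  rw [X_zero, h, ← X_zero] at this
  rwa [← e1, ← e2, ← e3]

lemma trip_inj {α β : MulAut J2} (hα : α zb = zb) (hβ : β zb = zb) (h : trip α = trip β) : α = β := by
  have h1 : idx (α (X 184)) = idx (β (X 184)) := congrArg (fun t => t.1) h
  have h2 : idx (α (X 170)) = idx (β (X 170)) := congrArg (fun t => t.2.1) h
  have h3 : idx (α (X 171)) = idx (β (X 171)) := congrArg (fun t => t.2.2) h
  have e : ∀ i, idx (α (X i)) = idx (β (X i)) → α (X i) = β (X i) := by
    intro i hi
    rw [(idx_spec (aut_X α i)).2, (idx_spec (aut_X β i)).2, hi]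
  have hm : α.toMonoidHom = β.toMonoidHom := by
    apply MonoidHom.eq_of_eqOn_dense closure_GS
    intro x hx
    simp only [GS, Set.mem_insert_iff, Set.mem_singleton_iff] at hx
    rcases hx with rfl | rfl | rfl | rfl
    · show α (X 0) = β (X 0)
      rw [X_zero, hα, hβ]
    · exact e _ h1
    · exact e _ h2
    · exact e _ h3
  ext x
  exact congrArg (fun f : J2 →* J2 => f x) hm

lemma card_stab_le : Nat.card (MulAction.stabilizer (MulAut J2) zb) ≤ 3840 := by
  let f : MulAction.stabilizer (MulAut J2) zb → {t // t ∈ admL.toFinset} :=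
    fun α => ⟨trip α.1, List.mem_toFinset.2 (trip_mem α.2)⟩
  have hf : Function.Injective f := by
    intro α β h
    exact Subtype.ext (trip_inj α.2 β.2 (congrArg Subtype.val h))
  have h1 := Nat.card_le_card_of_injective f hf
  have h2 : Nat.card {t // t ∈ admL.toFinset} = admL.toFinset.card := by
    rw [Nat.card_eq_fintype_card, Fintype.card_coe]
  have h3 := List.toFinset_card_le admL
  rw [admL_len] at h3
  omega

lemma ncard_orbit_le : (MulAction.orbit (MulAut J2) zb).ncard ≤ 315 := by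
  have hsub : MulAction.orbit (MulAut J2) zb ⊆ (((Finset.range 315).image X : Finset J2) : Set J2) := by
    rintro _ ⟨α, rfl⟩
    obtain ⟨j, hj, e⟩ := aut_X α 0
    rw [X_zero] at e
    rw [Finset.mem_coe, Finset.mem_image]
    exact ⟨j, Finset.mem_range.2 hj, e.symm⟩
  have h1 := Set.ncard_le_ncard hsub (Finset.finite_toSet _)
  rw [Set.ncard_coe_finset] at h1
  have h2 := Finset.card_image_le (s := Finset.range 315) (f := X)
  rw [Finset.card_range] at h2
  omega

theorem card_aut_le : Nat.card (MulAut J2) ≤ 1209600 := by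
  have h1 := Subgroup.card_mul_index (MulAction.stabilizer (MulAut J2) zb)
  rw [MulAction.index_stabilizer] at h1
  have h2 := card_stab_le
  have h3 := ncard_orbit_le
  calc Nat.card (MulAut J2) = _ := h1.symm
    _ ≤ 3840 * 315 := Nat.mul_le_mul h2 h3
    _ = 1209600 := by norm_num

lemma conj_injective : Function.Injective (MulAut.conj : J2 →* MulAut J2) := by
  rw [injective_iff_map_eq_one]
  intro a ha
  haveI := simple_J2
  have hc : a ∈ Subgroup.center J2 := by
    rw [Subgroup.mem_center_iff]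
    intro g
    have := congrArg (fun f : MulAut J2 => f g) ha
    simp only [MulAut.conj_apply, MulAut.one_apply] at this
    calc g * a = (a * g * a⁻¹) * a := by rw [this]
      _ = a * g := by group
  rcases IsSimpleGroup.eq_bot_or_eq_top_of_normal (Subgroup.center J2) inferInstance with h | h
  · rw [h] at hc; exact Subgroup.mem_bot.1 hc
  · exfalso
    obtain ⟨x, y, hxy⟩ := noncomm_J2
    have hx : x ∈ Subgroup.center J2 := h ▸ Subgroup.mem_top x
    rw [Subgroup.mem_center_iff] at hx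
    exact hxy (hx y).symm

theorem card_inn : Nat.card (Cfsg.Inn J2) = 604800 := by
  rw [← card_J2]
  exact (Nat.card_congr (MonoidHom.ofInjective conj_injective).toEquiv).symm

theorem card_out : Nat.card (Cfsg.Out J2) = 2 := by
  have h1 := Subgroup.card_mul_index (Cfsg.Inn J2)
  rw [card_inn] at h1
  have h2 := card_aut_le
  have h3 : (Cfsg.Inn J2).index ≠ 1 := by
    intro h
    rw [Subgroup.index_eq_one] at h
    exact sigJ_not_inner (h ▸ Subgroup.mem_top _)
  have h4 : (Cfsg.Inn J2).index ≠ 0 := Subgroup.index_ne_zero_of_finite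
  have h5 : Nat.card (Cfsg.Out J2) = (Cfsg.Inn J2).index := rfl
  rw [h5]
  have h6 : (Cfsg.Inn J2).index ≤ 2 := by
    by_contra hcon
    have : 3 ≤ (Cfsg.Inn J2).index := by omega
    have : 604800 * 3 ≤ 604800 * (Cfsg.Inn J2).index := Nat.mul_le_mul_left _ this
    omega
  omega

end Cfsg.Agent.Lib.Helper43.J2
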