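import Cfsg.Agent.Lib.Helper43.J2AutD

set_option autoImplicit false
set_option linter.constructorNameAsVariable false

namespace Cfsg.Agent.Lib.Helper43.J2

def C2 : List ℕ := [184, 185, 186, 187, 255, 256, 284, 285, 308, 312]
def C5 : List ℕ := [170, 171, 172, 173, 174, 175, 176, 177, 178, 179, 188, 189, 190, 191, 192, 193, 194, 195, 196, 197, 198, 199, 200, 201, 202, 203, 204, 218, 219, 220, 221, 222, 223, 224, 249, 250, 251, 252, 257, 258, 259, 260, 261, 262, 263, 264, 269, 270, 271, 272, 282, 286, 287, 288, 289, 293, 294, 295, 299, 300, 306, 307, 309, 311]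

theorem C2L_eq : C2L = C2 := by decide +kernel
theorem C5L_eq : C5L = C5 := by decide +kernel

def admL : List (ℕ × ℕ × ℕ) :=
  C2.flatMap fun i => (C5.filter (o5 i)).flatMap fun j =>
    ((C5.filter (o5 i)).filter fun k => o4 j k && !o2 j k).map fun k => (i, j, k)

theorem admL_len : admL.length = 3840 := by decide +kernel

end Cfsg.Agent.Lib.Helper43.J2
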