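import Cfsg.Agent.Lib.Helper43.J2Aut3
import Cfsg.Agent.Lib.Helper92.ESSub
import Cfsg.Agent.Lib.Helper92.ESEquiv
import Cfsg.Agent.Lib.Helper47.Polyhedral

set_option autoImplicit false
set_option linter.constructorNameAsVariable false
open Quaternion

namespace Cfsg.Agent.Lib.Helper43.J2
open Cfsg.Spor Q8 V3

/-! ### orders -/

lemma ncard_orbit_Hh : (MulAction.orbit Hh b0).ncard = 120 := by
  rw [ncard_image_list Ulist (fun w => (gW w).1 b0) Ulist_nodup, Ulist_len]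
  · intro v
    constructor
    · rintro ⟨⟨g, w, hw⟩, rfl⟩
      exact ⟨w, mem_Ulist.2 hw.1, Subtype.ext (by rw [(gW_spec hw.1).2]; exact hw.2.symm)⟩
    · rintro ⟨w, mw, rfl⟩
      exact ⟨⟨gW w, w, gW_spec (mem_Ulist.1 mw)⟩, rfl⟩
  · intro a ha a' ha' h
    have h' : (gW a).1 b0 = (gW a').1 b0 := h
    exact (gW_spec (mem_Ulist.1 ha)).unique
      ⟨mem_Ulist.1 ha', by rw [h']; exact (gW_spec (mem_Ulist.1 ha')).2⟩

lemma card_stab_Hh : Nat.card (MulAction.stabilizer Hh b0) = 32 := by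
  rw [← card_stab_b0]
  exact Nat.card_congr ⟨fun g => ⟨g.1.1, g.2⟩,
    fun g => ⟨⟨g.1, one, WV_of_fix g.2⟩, g.2⟩, fun _ => rfl, fun _ => rfl⟩

theorem card_Hh : Nat.card Hh = 3840 := by
  have h1 := Subgroup.card_mul_index (MulAction.stabilizer Hh b0)
  rw [MulAction.index_stabilizer, ncard_orbit_Hh, card_stab_Hh] at h1
  rw [← h1]

theorem index_Hbar : Hbar.index = 315 := by
  have h0 : Hh.index = 315 := by
    have h := Subgroup.card_mul_index Hh
    rw [card_Hh, card_twoJ2] at h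
    omega
  have h := Subgroup.index_map Hh pj
  have h1 : Hh ⊔ pj.ker = Hh := by
    rw [sup_eq_left, QuotientGroup.ker_mk']
    exact center_le_Kh.trans (Kh_le_Sh.trans Sh_le_Hh)
  have h2 : pj.range = ⊤ := MonoidHom.range_eq_top.2 (QuotientGroup.mk'_surjective _)
  rw [h1, h2, Subgroup.index_top, mul_one, h0] at h
  exact h

theorem card_Hbar : Nat.card Hbar = 1920 := by
  have h := Subgroup.card_mul_index Hbar
  rw [index_Hbar, card_J2] at h
  have h2 : Nat.card Hbar * 315 = 1920 * 315 := h.trans (by norm_num)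
  exact Nat.eq_of_mul_eq_mul_right (by norm_num) h2

lemma mk_negJ_mul (k : twoJ2) : (QuotientGroup.mk (negJ * k) : J2) = QuotientGroup.mk k := by
  rw [QuotientGroup.mk_mul, (QuotientGroup.eq_one_iff negJ).2 negJ_mem_center, one_mul]

theorem card_Qb : Nat.card Qb = 32 := by
  rw [← card_stab_b0]
  symm
  apply Nat.card_congr
  refine Equiv.ofBijective (fun g : MulAction.stabilizer twoJ2 b0 =>
    (⟨QuotientGroup.mk g.1, (mem_Qb _).2 ⟨one, Or.inl rfl, WV_of_fix g.2⟩⟩ : Qb)) ⟨?_, ?_⟩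
  · intro g g' h
    have h1 : (QuotientGroup.mk g.1 : J2) = QuotientGroup.mk g'.1 := congrArg Subtype.val h
    rcases (mk_eq_iff _ _).1 h1 with h2 | h2
    · exact Subtype.ext (Subtype.ext h2)
    · exfalso
      have h3 := congrArg (fun f : Equiv.Perm LL => f b0) h2
      simp only [Equiv.Perm.mul_apply] at h3
      have e1 : g.1.1 b0 = b0 := g.2
      have e2 : g'.1.1 b0 = b0 := g'.2
      rw [e1, e2] at h3
      exact neg_ne Mn_b0 h3
  · rintro ⟨_, k, ⟨w, hw, hk⟩, rfl⟩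
    rcases hw with rfl | rfl
    · exact ⟨⟨k, hk.fix⟩, rfl⟩
    · have h1 : (negJ * k).1 b0 = b0 := by
        show (negP * k.1) b0 = b0
        rw [Equiv.Perm.mul_apply, hk.fixneg, ← Equiv.Perm.mul_apply, negP_mul_self]; rfl
      exact ⟨⟨negJ * k, h1⟩, Subtype.ext (mk_negJ_mul k)⟩

/-! ### `Q` is extraspecial -/

def commChk : Bool := KW.all fun l => KW.all fun l' =>
  decide (mulN (NK l') (NK l) = mulN (NK l) (NK l')) ||
    decide (mulN (NK l') (NK l) = mulN (mulN (NK l) (NK l')) (NK [5, 0]))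

theorem commChk_true : commChk = true := by decide +kernel

lemma eq_of_rep_eq {A : NM} {g h : Equiv.Perm LL} (hg : IsLin g) (hh : IsLin h) (rg : Rep A (code g))
    (rh : Rep A (code h)) : g = h :=
  code_inj hg hh (rep_inj rg rh (minRows_code hg) (minRows_code hh))

lemma kel_comm {l l' : List ℕ} (hl : l ∈ KW) (hl' : l' ∈ KW) :
    kel l * kel l' = kel l' * kel l ∨ kel l * kel l' = kel [5, 0] * (kel l' * kel l) := by
  have h := List.all_eq_true.1 (List.all_eq_true.1 commChk_true l hl) l' hl'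
  have a := twoJ2_le_AA (kel_mem l)
  have a' := twoJ2_le_AA (kel_mem l')
  have az := twoJ2_le_AA (kel_mem [5, 0])
  have r1 : Rep (mulN (NK l') (NK l)) (code (kel l * kel l')) := rep_mul a (rep_NK l) (rep_NK l')
  have r2 : Rep (mulN (NK l) (NK l')) (code (kel l' * kel l)) := rep_mul a' (rep_NK l') (rep_NK l)
  have r3 : Rep (mulN (mulN (NK l) (NK l')) (NK [5, 0])) (code (kel [5, 0] * (kel l' * kel l))) :=
    rep_mul az (rep_NK _) r2
  rw [Bool.or_eq_true_iff, decide_eq_true_eq, decide_eq_true_eq] at h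
  rcases h with h | h
  · left
    rw [h] at r1
    exact eq_of_rep_eq (AA.mul_mem a a') (AA.mul_mem a' a) r1 r2
  · right
    rw [h] at r1
    exact eq_of_rep_eq (AA.mul_mem a a') (AA.mul_mem az (AA.mul_mem a' a)) r1 r3

noncomputable def kelT (l : List ℕ) : twoJ2 := ⟨kel l, kel_mem l⟩

lemma exists_kel_of_mem_Qb {q : J2} (hq : q ∈ Qb) : ∃ l ∈ KW, q = QuotientGroup.mk (kelT l) := by
  obtain ⟨g, ⟨w, hw, hg⟩, rfl⟩ := hq
  show ∃ l ∈ KW, (QuotientGroup.mk g : J2) = _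
  rcases hw with rfl | rfl
  · obtain ⟨l, hl, e⟩ := exists_kel (twoJ2_le_AA g.2) hg.fix
    exact ⟨l, hl, congrArg _ (Subtype.ext e.symm)⟩
  · have h1 : (negP * g.1) b0 = b0 := by
      rw [Equiv.Perm.mul_apply, hg.fixneg, ← Equiv.Perm.mul_apply, negP_mul_self]; rfl
    obtain ⟨l, hl, e⟩ := exists_kel (twoJ2_le_AA (twoJ2.mul_mem negP_mem g.2)) h1
    refine ⟨l, hl, mk_eq_of (Or.inr ?_)⟩
    show g.1 = negP * kel l
    rw [e, ← mul_assoc, negP_mul_self, one_mul]

lemma mk_kel_lz : (QuotientGroup.mk (kelT [5, 0]) : J2) = zb :=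
  mk_eq_of (Or.inr kel_lz)

lemma zb_mul_self : zb * zb = 1 := by
  have h : rho0 * rho0 = 1 := Subtype.ext (by
    show RF B0 * RF B0 = 1
    rw [← rl_b0]; exact rl_mul_self Mn_b0)
  rw [zb, ← QuotientGroup.mk_mul, h]; rfl

theorem extraspecial_Qb : Cfsg.IsExtraspecial 2 Qb := by
  apply Cfsg.Agent.Lib.Helper92.isExtraspecial_of_sub zb_mem_Qb zb_ne_one zb_mul_self
  · intro a ha b hb
    obtain ⟨l, hl, rfl⟩ := exists_kel_of_mem_Qb ha
    obtain ⟨l', hl', rfl⟩ := exists_kel_of_mem_Qb hb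
    rcases kel_comm hl hl' with h | h
    · left
      have e : kelT l * kelT l' = kelT l' * kelT l := Subtype.ext h
      rw [← QuotientGroup.mk_mul, e, QuotientGroup.mk_mul]
      group
    · right
      have e : kelT l * kelT l' = kelT [5, 0] * (kelT l' * kelT l) := Subtype.ext h
      rw [← QuotientGroup.mk_mul, e, QuotientGroup.mk_mul, QuotientGroup.mk_mul, mk_kel_lz]
      group
  · intro a ha
    exact (zb_comm (Sb_le_Hb (Qb_le_Sb ha))).symm
  · intro c _ hc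
    apply cent_Q
    rw [Subgroup.mem_centralizer_iff]
    intro q hq
    exact hc q hq
  · by_contra hcon
    push Not at hcon
    have hsub : (Qb : Set J2) ⊆ {1, zb} := by
      intro r hr
      by_cases h1 : r = 1
      · exact Or.inl h1
      · exact Or.inr (hcon r hr h1)
    have h1 := Set.ncard_le_ncard hsub (Set.toFinite _)
    have h2 : (Qb : Set J2).ncard = 32 := by
      rw [← card_Qb]; rfl
    have h3 := Set.ncard_pair zb_ne_one.symm
    omega
  · exact isPGroup_Sb.to_le Qb_le_Sb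

/-! ### the quotient -/

lemma Qb_le_Hbar : Qb ≤ Hbar := Qb_le_Sb.trans Sb_le_Hb

def Q0 : Subgroup Hbar := Qb.subgroupOf Hbar

instance Q0_normal : Q0.Normal := by
  constructor
  intro n hn g
  have hn' : n.1 ∈ Qb := hn
  have hg := Hbar_le_normalizer g.2
  rw [Subgroup.mem_normalizer_iff] at hg
  exact (hg n.1).1 hn'

noncomputable def Q0_equiv : Q0 ≃* Qb := Subgroup.subgroupOfEquivOfLe Qb_le_Hbar

lemma card_Q0 : Nat.card Q0 = 32 := by
  rw [← card_Qb]; exact Nat.card_congr Q0_equiv.toEquiv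

lemma extraspecial_Q0 : Cfsg.IsExtraspecial 2 Q0 :=
  Cfsg.Agent.Lib.Helper92.isExtraspecial_of_equiv Q0_equiv.symm extraspecial_Qb

lemma card_quot : Nat.card (Hbar ⧸ Q0) = 60 := by
  have h := Subgroup.card_eq_card_quotient_mul_card_subgroup Q0
  rw [card_Hbar, card_Q0] at h
  omega

noncomputable def toHbar : Hh →* Hbar where
  toFun g := ⟨QuotientGroup.mk g.1, (mem_Hb _).2 g.2⟩
  map_one' := rfl
  map_mul' _ _ := rfl

noncomputable def Phi : Hh →* Hbar ⧸ Q0 := (QuotientGroup.mk' Q0).comp toHbar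

lemma Phi_eq_one {g : Hh} {w : Q8} (h : WV g.1.1 w) : Phi g = 1 ↔ PM w := by
  have e : Phi g = 1 ↔ (QuotientGroup.mk g.1 : J2) ∈ Qb := by
    show (QuotientGroup.mk (toHbar g) : Hbar ⧸ Q0) = 1 ↔ _
    rw [QuotientGroup.eq_one_iff]
    rfl
  rw [e, mem_Qb]
  constructor
  · rintro ⟨w', hw', h'⟩
    rw [h.unique h']; exact hw'
  · intro hw
    exact ⟨w, hw, h⟩

def mw0 : Q8 := ⟨-1,0,-1,0,-1,0,-1,0⟩
def mw1 : Q8 := ⟨0,0,-2,0,0,0,0,0⟩
def mw2 : Q8 := ⟨0,0,-1,0,1,-1,0,1⟩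

noncomputable def gH (w : Q8) (hw : isU w) : Hh := ⟨gW w, w, gW_spec hw⟩

lemma WV_gH (w : Q8) (hw : isU w) : WV (gH w hw).1.1 w := gW_spec hw

lemma WVH_mul {a b : Hh} {w w' : Q8} (h : WV a.1.1 w) (h' : WV b.1.1 w') :
    WV (a * b).1.1 (mulI w' w) := WV.mul (twoJ2_le_AA a.1.2) h h'

lemma pw3 {G : Type*} [Group G] (x : G) : x ^ 3 = x * x * x := by rw [pow_succ, pow_two]

theorem quot_iso : Nonempty (Hbar ⧸ Q0 ≃* alternatingGroup (Fin 5)) := by
  have u0 : isU mw0 := by decide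
  have u1 : isU mw1 := by decide
  have u2 : isU mw2 := by decide
  set g0 := gH mw0 u0
  set g1 := gH mw1 u1
  set g2 := gH mw2 u2
  have v0 : WV g0.1.1 mw0 := WV_gH _ u0
  have v1 : WV g1.1.1 mw1 := WV_gH _ u1
  have v2 : WV g2.1.1 mw2 := WV_gH _ u2
  have v01 := WVH_mul v0 v1
  have v12 := WVH_mul v1 v2
  have v02 := WVH_mul v0 v2
  obtain ⟨f, hf, -⟩ := Cfsg.Agent.Lib.Helper47.exists_injective_hom_A5 (Phi g0) (Phi g1) (Phi g2)
    (by rw [pw3, ← map_mul, ← map_mul]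
        exact (Phi_eq_one (WVH_mul (WVH_mul v0 v0) v0)).2 (by decide))
    (by rw [pow_two, ← map_mul]
        exact (Phi_eq_one (WVH_mul v1 v1)).2 (by decide))
    (by rw [pow_two, ← map_mul]
        exact (Phi_eq_one (WVH_mul v2 v2)).2 (by decide))
    (by rw [pw3, ← map_mul, ← map_mul, ← map_mul]
        exact (Phi_eq_one (WVH_mul (WVH_mul v01 v01) v01)).2 (by decide))
    (by rw [pw3, ← map_mul, ← map_mul, ← map_mul]
        exact (Phi_eq_one (WVH_mul (WVH_mul v12 v12) v12)).2 (by decide))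
    (by rw [pow_two, ← map_mul, ← map_mul]
        exact (Phi_eq_one (WVH_mul v02 v02)).2 (by decide))
    (by intro h
        have := (Phi_eq_one v1).1 h
        revert this
        decide)
  haveI : Finite (Hbar ⧸ Q0) := Nat.finite_of_card_ne_zero (by rw [card_quot]; norm_num)
  have hb : Function.Bijective f := by
    rw [Nat.bijective_iff_injective_and_card]
    refine ⟨hf, ?_⟩
    rw [card_quot, Nat.card_eq_fintype_card]
    rfl
  exact ⟨(MulEquiv.ofBijective f hb).symm⟩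

/-! ### transport to an arbitrary reflection -/

lemma transport {A B : Type*} [Group A] [Group B] (e : A ≃* B) (Q : Subgroup A) [hn : Q.Normal]
    (h32 : Nat.card Q = 32) (hes : Cfsg.IsExtraspecial 2 Q)
    (hq : Nonempty (A ⧸ Q ≃* alternatingGroup (Fin 5))) :
    ∃ (Q' : Subgroup B) (_ : Q'.Normal), Nat.card Q' = 32 ∧ Cfsg.IsExtraspecial 2 Q' ∧
      Nonempty (B ⧸ Q' ≃* alternatingGroup (Fin 5)) := by
  haveI hn' : (Q.map e.toMonoidHom).Normal := hn.map _ e.surjective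
  refine ⟨Q.map e.toMonoidHom, hn', ?_, ?_, ?_⟩
  · rw [← h32]; exact (Nat.card_congr (e.subgroupMap Q).toEquiv).symm
  · exact Cfsg.Agent.Lib.Helper92.isExtraspecial_of_equiv (e.subgroupMap Q) hes
  · obtain ⟨φ⟩ := hq
    exact ⟨(QuotientGroup.congr Q (Q.map e.toMonoidHom) e rfl).symm.trans φ⟩

lemma mem_Hbar_iff_comm (x : J2) : x ∈ Hbar ↔ zb * x = x * zb := by
  obtain ⟨a, rfl⟩ := QuotientGroup.mk_surjective x
  exact ⟨fun h => zb_comm h, fun h => (mem_Hb a).2 (mem_Hh_of_comm h)⟩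

noncomputable def centEquiv (c : J2) : Hbar ≃* Subgroup.centralizer {c * zb * c⁻¹} where
  toFun x := ⟨c * x.1 * c⁻¹, by
    rw [Subgroup.mem_centralizer_iff]
    intro h hh
    rw [Set.mem_singleton_iff] at hh
    subst hh
    have := zb_comm x.2
    calc c * zb * c⁻¹ * (c * x.1 * c⁻¹) = c * (zb * x.1) * c⁻¹ := by group
      _ = c * (x.1 * zb) * c⁻¹ := by rw [this]
      _ = c * x.1 * c⁻¹ * (c * zb * c⁻¹) := by group⟩
  invFun y := ⟨c⁻¹ * y.1 * c, by
    rw [mem_Hbar_iff_comm]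
    have := (Subgroup.mem_centralizer_iff.1 y.2) _ rfl
    calc zb * (c⁻¹ * y.1 * c) = c⁻¹ * (c * zb * c⁻¹ * y.1) * c := by group
      _ = c⁻¹ * (y.1 * (c * zb * c⁻¹)) * c := by rw [this]
      _ = c⁻¹ * y.1 * c * zb := by group⟩
  left_inv x := Subtype.ext (by show c⁻¹ * (c * x.1 * c⁻¹) * c = x.1; group)
  right_inv y := Subtype.ext (by show c * (c⁻¹ * y.1 * c) * c⁻¹ = y.1; group)
  map_mul' a b := Subtype.ext (by show c * (a.1 * b.1) * c⁻¹ = c * a.1 * c⁻¹ * (c * b.1 * c⁻¹); group)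

theorem cent_structure (z : J2) (hz : ∃ c : J2, z = c * zb * c⁻¹) :
    ∃ (Q : Subgroup (Subgroup.centralizer {z})) (_ : Q.Normal), Nat.card Q = 32 ∧
      Cfsg.IsExtraspecial 2 Q ∧
      Nonempty (Subgroup.centralizer {z} ⧸ Q ≃* alternatingGroup (Fin 5)) := by
  obtain ⟨c, rfl⟩ := hz
  exact transport (centEquiv c) Q0 card_Q0 extraspecial_Q0 quot_iso

lemma refl_conj_zb (f : Equiv.Perm LL) (hf : IsIcoReflection f) (hfm : f ∈ twoJ2) :
    ∃ c : J2, (QuotientGroup.mk ⟨f, hfm⟩ : J2) = c * zb * c⁻¹ := by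
  obtain ⟨r, hr, h4, rfl⟩ := (isIcoReflection_iff f).1 hf
  have hx : Mn (⟨r, hr⟩ : LL) := h4
  obtain ⟨i, _, e⟩ := exists_X_of_Mn hx
  obtain ⟨c, hc⟩ := X_eq_conj i
  refine ⟨c, ?_⟩
  rw [← hc, ← e]
  exact congrArg _ (Subtype.ext (rl_eq hx).symm)

end Cfsg.Agent.Lib.Helper43.J2
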