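import Cfsg.Agent.Lib.Helper43.J2Order

set_option autoImplicit false
set_option linter.constructorNameAsVariable false
open Quaternion

namespace Cfsg.Agent.Lib.Helper43.J2
open Cfsg.Spor Q8 V3

/-! ### reduction modulo 311 (where `τ = 59`) -/

abbrev Fp := ZMod 311
def tF : Fp := 59
def i4 : Fp := 78
lemma tF_sq : tF * tF = tF + 1 := by decide
lemma i4_mul : i4 * 4 = 1 := by decide

/-- the reduction of half the quaternion coded by `x` -/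
def EE (x : Q8) : ℍ[Fp] :=
  ⟨i4 * (x.a0 + x.b0 * tF), i4 * (x.a1 + x.b1 * tF), i4 * (x.a2 + x.b2 * tF), i4 * (x.a3 + x.b3 * tF)⟩

@[simp] lemma EE_re (x : Q8) : (EE x).re = i4 * (x.a0 + x.b0 * tF) := rfl
@[simp] lemma EE_imI (x : Q8) : (EE x).imI = i4 * (x.a1 + x.b1 * tF) := rfl
@[simp] lemma EE_imJ (x : Q8) : (EE x).imJ = i4 * (x.a2 + x.b2 * tF) := rfl
@[simp] lemma EE_imK (x : Q8) : (EE x).imK = i4 * (x.a3 + x.b3 * tF) := rfl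

lemma EE_add (x y : Q8) : EE (x + y) = EE x + EE y := by
  ext <;> simp [add_def] <;> ring

lemma EE_sc (n : ℤ) (x : Q8) : EE (sc n x) = (n : Fp) • EE x := by
  ext <;> simp [sc] <;> ring

lemma EE_mul2 (x y : Q8) : EE (mul2 x y) = (4 : Fp) • (EE x * EE y) := by
  ext
  · simp [mul2, Quaternion.re_mul]
    linear_combination (-i4 * (x.b0*y.b0 - x.b1*y.b1 - x.b2*y.b2 - x.b3*y.b3 : Fp)) * tF_sq
      - (i4 * ((x.a0 + x.b0*tF)*(y.a0 + y.b0*tF) - (x.a1 + x.b1*tF)*(y.a1 + y.b1*tF)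
        - (x.a2 + x.b2*tF)*(y.a2 + y.b2*tF) - (x.a3 + x.b3*tF)*(y.a3 + y.b3*tF))) * i4_mul
  · simp [mul2, Quaternion.imI_mul]
    linear_combination (-i4 * (x.b0*y.b1 + x.b1*y.b0 + x.b2*y.b3 - x.b3*y.b2 : Fp)) * tF_sq
      - (i4 * ((x.a0 + x.b0*tF)*(y.a1 + y.b1*tF) + (x.a1 + x.b1*tF)*(y.a0 + y.b0*tF)
        + (x.a2 + x.b2*tF)*(y.a3 + y.b3*tF) - (x.a3 + x.b3*tF)*(y.a2 + y.b2*tF))) * i4_mul
  · simp [mul2, Quaternion.imJ_mul]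
    linear_combination (-i4 * (x.b0*y.b2 - x.b1*y.b3 + x.b2*y.b0 + x.b3*y.b1 : Fp)) * tF_sq
      - (i4 * ((x.a0 + x.b0*tF)*(y.a2 + y.b2*tF) - (x.a1 + x.b1*tF)*(y.a3 + y.b3*tF)
        + (x.a2 + x.b2*tF)*(y.a0 + y.b0*tF) + (x.a3 + x.b3*tF)*(y.a1 + y.b1*tF))) * i4_mul
  · simp [mul2, Quaternion.imK_mul]
    linear_combination (-i4 * (x.b0*y.b3 + x.b1*y.b2 - x.b2*y.b1 + x.b3*y.b0 : Fp)) * tF_sq
      - (i4 * ((x.a0 + x.b0*tF)*(y.a3 + y.b3*tF) + (x.a1 + x.b1*tF)*(y.a2 + y.b2*tF)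
        - (x.a2 + x.b2*tF)*(y.a1 + y.b1*tF) + (x.a3 + x.b3*tF)*(y.a0 + y.b0*tF))) * i4_mul

lemma EE_of_sc4 {a b c p q r y : Q8} (h : sc 4 y = mul2 a p + mul2 b q + mul2 c r) :
    EE y = EE a * EE p + EE b * EE q + EE c * EE r := by
  have h1 := congrArg EE h
  rw [EE_sc, EE_add, EE_add, EE_mul2, EE_mul2, EE_mul2, ← smul_add, ← smul_add] at h1
  have h2 := congrArg (fun q => i4 • q) h1
  simp only [smul_smul] at h2
  have e : i4 * ((4 : ℤ) : Fp) = 1 := by decide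
  rw [e, i4_mul, one_smul, one_smul] at h2
  exact h2

lemma sc4_eq {a b c p q r y : Q8}
    (h : (2 : ℍ[ℝ]) * toH y = toH a * toH p + toH b * toH q + toH c * toH r) :
    sc 4 y = mul2 a p + mul2 b q + mul2 c r := by
  apply toH_injective
  rw [toH_add, toH_add, toH_mul2, toH_mul2, toH_mul2, toH_sc, ← smul_add, ← smul_add, ← h,
    two_mul, ← two_smul ℝ, smul_smul]
  norm_num

lemma EE_apply {g : Equiv.Perm LL} (hg : IsLin g) (x : LL) :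
    (EE (cd (g x)).x = EE (cd x).x * EE (code g).r0.x + EE (cd x).y * EE (code g).r1.x
      + EE (cd x).z * EE (code g).r2.x) ∧
    (EE (cd (g x)).y = EE (cd x).x * EE (code g).r0.y + EE (cd x).y * EE (code g).r1.y
      + EE (cd x).z * EE (code g).r2.y) ∧
    (EE (cd (g x)).z = EE (cd x).x * EE (code g).r0.z + EE (cd x).y * EE (code g).r1.z
      + EE (cd x).z * EE (code g).r2.z) := by
  have h := hg.two_smul_apply x
  rw [← toV_cd (g x), ← toV_cd (g b0), ← toV_cd (g b1), ← toV_cd (g b2), ← toV_cd x] at h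
  exact ⟨EE_of_sc4 (sc4_eq (congrFun h 0)), EE_of_sc4 (sc4_eq (congrFun h 1)),
    EE_of_sc4 (sc4_eq (congrFun h 2))⟩

/-! ### bounded injectivity -/

lemma bd4 {c s : ℤ} (hs : 0 ≤ s) (h : c * c + s ≤ 16) : -4 ≤ c ∧ c ≤ 4 := by
  constructor <;> nlinarith

lemma coord_bd {x : Q8} (h : P x ≤ 16) :
    (-4 ≤ x.a0 ∧ x.a0 ≤ 4) ∧ (-4 ≤ x.b0 ∧ x.b0 ≤ 4) ∧ (-4 ≤ x.a1 ∧ x.a1 ≤ 4) ∧ (-4 ≤ x.b1 ∧ x.b1 ≤ 4) ∧
    (-4 ≤ x.a2 ∧ x.a2 ≤ 4) ∧ (-4 ≤ x.b2 ∧ x.b2 ≤ 4) ∧ (-4 ≤ x.a3 ∧ x.a3 ≤ 4) ∧ (-4 ≤ x.b3 ∧ x.b3 ≤ 4) := by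
  unfold P at h
  have s0 := mul_self_nonneg x.a0
  have s1 := mul_self_nonneg x.b0
  have s2 := mul_self_nonneg x.a1
  have s3 := mul_self_nonneg x.b1
  have s4 := mul_self_nonneg x.a2
  have s5 := mul_self_nonneg x.b2
  have s6 := mul_self_nonneg x.a3
  have s7 := mul_self_nonneg x.b3
  refine ⟨bd4 (s := x.b0*x.b0+x.a1*x.a1+x.b1*x.b1+x.a2*x.a2+x.b2*x.b2+x.a3*x.a3+x.b3*x.b3) (by positivity) (by linarith),
    bd4 (s := x.a0*x.a0+x.a1*x.a1+x.b1*x.b1+x.a2*x.a2+x.b2*x.b2+x.a3*x.a3+x.b3*x.b3) (by positivity) (by linarith),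
    bd4 (s := x.a0*x.a0+x.b0*x.b0+x.b1*x.b1+x.a2*x.a2+x.b2*x.b2+x.a3*x.a3+x.b3*x.b3) (by positivity) (by linarith),
    bd4 (s := x.a0*x.a0+x.b0*x.b0+x.a1*x.a1+x.a2*x.a2+x.b2*x.b2+x.a3*x.a3+x.b3*x.b3) (by positivity) (by linarith),
    bd4 (s := x.a0*x.a0+x.b0*x.b0+x.a1*x.a1+x.b1*x.b1+x.b2*x.b2+x.a3*x.a3+x.b3*x.b3) (by positivity) (by linarith),
    bd4 (s := x.a0*x.a0+x.b0*x.b0+x.a1*x.a1+x.b1*x.b1+x.a2*x.a2+x.a3*x.a3+x.b3*x.b3) (by positivity) (by linarith),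
    bd4 (s := x.a0*x.a0+x.b0*x.b0+x.a1*x.a1+x.b1*x.b1+x.a2*x.a2+x.b2*x.b2+x.b3*x.b3) (by positivity) (by linarith),
    bd4 (s := x.a0*x.a0+x.b0*x.b0+x.a1*x.a1+x.b1*x.b1+x.a2*x.a2+x.b2*x.b2+x.a3*x.a3) (by positivity) (by linarith)⟩

lemma pair_inj {a b c d : ℤ} (ha : -4 ≤ a ∧ a ≤ 4) (hb : -4 ≤ b ∧ b ≤ 4) (hc : -4 ≤ c ∧ c ≤ 4)
    (hd : -4 ≤ d ∧ d ≤ 4) (h : i4 * ((a : Fp) + b * tF) = i4 * ((c : Fp) + d * tF)) : a = c ∧ b = d := by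
  have h1 : ((a : Fp) + b * tF) = (c : Fp) + d * tF := by
    have := congrArg (fun q => 4 * q) h
    simp only [← mul_assoc] at this
    rw [mul_comm 4 i4, i4_mul, one_mul, one_mul] at this
    exact this
  have h2 : (((a - c) + (b - d) * 59 : ℤ) : Fp) = 0 := by
    push_cast
    have : tF = 59 := rfl
    rw [this] at h1
    linear_combination h1
  rw [ZMod.intCast_zmod_eq_zero_iff_dvd] at h2
  obtain ⟨k, hk⟩ := h2
  push_cast at hk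
  have hα : -8 ≤ a - c ∧ a - c ≤ 8 := by omega
  have hβ : -8 ≤ b - d ∧ b - d ≤ 8 := by omega
  have key : a - c = 0 ∧ b - d = 0 := by
    generalize a - c = α at *
    generalize b - d = β at *
    have hk1 : -1 ≤ k ∧ k ≤ 1 := by omega
    obtain ⟨k1, k2⟩ := hk1
    interval_cases k <;> omega
  omega

lemma EE_inj_bdd {x y : Q8} (hx : P x ≤ 16) (hy : P y ≤ 16) (h : EE x = EE y) : x = y := by
  obtain ⟨x0, x1, x2, x3, x4, x5, x6, x7⟩ := coord_bd hx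
  obtain ⟨y0, y1, y2, y3, y4, y5, y6, y7⟩ := coord_bd hy
  have h0 := pair_inj x0 x1 y0 y1 (congrArg QuaternionAlgebra.re h)
  have h1 := pair_inj x2 x3 y2 y3 (congrArg QuaternionAlgebra.imI h)
  have h2 := pair_inj x4 x5 y4 y5 (congrArg QuaternionAlgebra.imJ h)
  have h3 := pair_inj x6 x7 y6 y7 (congrArg QuaternionAlgebra.imK h)
  ext
  · exact h0.1
  · exact h0.2
  · exact h1.1
  · exact h1.2
  · exact h2.1
  · exact h2.2
  · exact h3.1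
  · exact h3.2

/-! ### arithmetic on natural numbers -/

structure N4 where
  a : ℕ
  b : ℕ
  c : ℕ
  d : ℕ
deriving DecidableEq

def toQ (x : N4) : ℍ[Fp] := ⟨x.a, x.b, x.c, x.d⟩

lemma toQ_re (x : N4) : (toQ x).re = x.a := rfl
lemma toQ_imI (x : N4) : (toQ x).imI = x.b := rfl
lemma toQ_imJ (x : N4) : (toQ x).imJ = x.c := rfl
lemma toQ_imK (x : N4) : (toQ x).imK = x.d := rfl

def dot3 (x1 y1 x2 y2 x3 y3 : N4) : N4 :=
  ⟨Nat.mod (Nat.add (Nat.add (Nat.add (Nat.mul x1.a y1.a) (Nat.mul x2.a y2.a)) (Nat.mul x3.a y3.a))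
      (Nat.mul 310 (Nat.add (Nat.add (Nat.add (Nat.add (Nat.mul x1.b y1.b) (Nat.mul x1.c y1.c)) (Nat.mul x1.d y1.d))
        (Nat.add (Nat.add (Nat.mul x2.b y2.b) (Nat.mul x2.c y2.c)) (Nat.mul x2.d y2.d)))
        (Nat.add (Nat.add (Nat.mul x3.b y3.b) (Nat.mul x3.c y3.c)) (Nat.mul x3.d y3.d))))) 311,
   Nat.mod (Nat.add (Nat.add (Nat.add
        (Nat.add (Nat.add (Nat.mul x1.a y1.b) (Nat.mul x1.b y1.a)) (Nat.mul x1.c y1.d))
        (Nat.add (Nat.add (Nat.mul x2.a y2.b) (Nat.mul x2.b y2.a)) (Nat.mul x2.c y2.d)))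
        (Nat.add (Nat.add (Nat.mul x3.a y3.b) (Nat.mul x3.b y3.a)) (Nat.mul x3.c y3.d)))
      (Nat.mul 310 (Nat.add (Nat.add (Nat.mul x1.d y1.c) (Nat.mul x2.d y2.c)) (Nat.mul x3.d y3.c)))) 311,
   Nat.mod (Nat.add (Nat.add (Nat.add
        (Nat.add (Nat.add (Nat.mul x1.a y1.c) (Nat.mul x1.c y1.a)) (Nat.mul x1.d y1.b))
        (Nat.add (Nat.add (Nat.mul x2.a y2.c) (Nat.mul x2.c y2.a)) (Nat.mul x2.d y2.b)))
        (Nat.add (Nat.add (Nat.mul x3.a y3.c) (Nat.mul x3.c y3.a)) (Nat.mul x3.d y3.b)))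
      (Nat.mul 310 (Nat.add (Nat.add (Nat.mul x1.b y1.d) (Nat.mul x2.b y2.d)) (Nat.mul x3.b y3.d)))) 311,
   Nat.mod (Nat.add (Nat.add (Nat.add
        (Nat.add (Nat.add (Nat.mul x1.a y1.d) (Nat.mul x1.d y1.a)) (Nat.mul x1.b y1.c))
        (Nat.add (Nat.add (Nat.mul x2.a y2.d) (Nat.mul x2.d y2.a)) (Nat.mul x2.b y2.c)))
        (Nat.add (Nat.add (Nat.mul x3.a y3.d) (Nat.mul x3.d y3.a)) (Nat.mul x3.b y3.c)))
      (Nat.mul 310 (Nat.add (Nat.add (Nat.mul x1.c y1.b) (Nat.mul x2.c y2.b)) (Nat.mul x3.c y3.b)))) 311⟩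

lemma nmod_eq (x y : ℕ) : Nat.mod x y = x % y := rfl

lemma cast_310 : ((310 : ℕ) : Fp) = -1 := by decide

lemma toQ_dot3 (x1 y1 x2 y2 x3 y3 : N4) :
    toQ (dot3 x1 y1 x2 y2 x3 y3) = toQ x1 * toQ y1 + toQ x2 * toQ y2 + toQ x3 * toQ y3 := by
  ext
  · simp only [toQ_re, toQ_imI, toQ_imJ, toQ_imK, dot3, Quaternion.re_add, Quaternion.re_mul, nmod_eq, Nat.add_eq, Nat.mul_eq,
      ZMod.natCast_mod, Nat.cast_add, Nat.cast_mul, cast_310]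
    ring
  · simp only [toQ_re, toQ_imI, toQ_imJ, toQ_imK, dot3, Quaternion.imI_add, Quaternion.imI_mul, nmod_eq, Nat.add_eq, Nat.mul_eq,
      ZMod.natCast_mod, Nat.cast_add, Nat.cast_mul, cast_310]
    ring
  · simp only [toQ_re, toQ_imI, toQ_imJ, toQ_imK, dot3, Quaternion.imJ_add, Quaternion.imJ_mul, nmod_eq, Nat.add_eq, Nat.mul_eq,
      ZMod.natCast_mod, Nat.cast_add, Nat.cast_mul, cast_310]
    ring
  · simp only [toQ_re, toQ_imI, toQ_imJ, toQ_imK, dot3, Quaternion.imK_add, Quaternion.imK_mul, nmod_eq, Nat.add_eq, Nat.mul_eq,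
      ZMod.natCast_mod, Nat.cast_add, Nat.cast_mul, cast_310]
    ring

def encZ (a b : ℤ) : ℕ := Int.toNat ((78 * (a + b * 59)) % 311)

lemma cast_encZ (a b : ℤ) : ((encZ a b : ℕ) : Fp) = i4 * ((a : Fp) + b * tF) := by
  have h1 : ((encZ a b : ℕ) : ℤ) = (78 * (a + b * 59)) % 311 :=
    Int.toNat_of_nonneg (Int.emod_nonneg _ (by norm_num))
  have h2 : ((encZ a b : ℕ) : Fp) = (((encZ a b : ℕ) : ℤ) : Fp) := (Int.cast_natCast _).symm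
  rw [h2, h1]
  have h3 := ZMod.intCast_mod (78 * (a + b * 59)) 311
  push_cast at h3
  rw [h3]
  rfl

def enc (x : Q8) : N4 := ⟨encZ x.a0 x.b0, encZ x.a1 x.b1, encZ x.a2 x.b2, encZ x.a3 x.b3⟩

lemma toQ_enc (x : Q8) : toQ (enc x) = EE x := by
  ext <;> simp only [toQ_re, toQ_imI, toQ_imJ, toQ_imK, enc, cast_encZ, EE_re, EE_imI, EE_imJ, EE_imK]

structure NM where
  m00 : N4
  m01 : N4
  m02 : N4
  m10 : N4
  m11 : N4
  m12 : N4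
  m20 : N4
  m21 : N4
  m22 : N4
deriving DecidableEq

def mulN (A B : NM) : NM :=
  ⟨dot3 A.m00 B.m00 A.m01 B.m10 A.m02 B.m20, dot3 A.m00 B.m01 A.m01 B.m11 A.m02 B.m21,
   dot3 A.m00 B.m02 A.m01 B.m12 A.m02 B.m22,
   dot3 A.m10 B.m00 A.m11 B.m10 A.m12 B.m20, dot3 A.m10 B.m01 A.m11 B.m11 A.m12 B.m21,
   dot3 A.m10 B.m02 A.m11 B.m12 A.m12 B.m22,
   dot3 A.m20 B.m00 A.m21 B.m10 A.m22 B.m20, dot3 A.m20 B.m01 A.m21 B.m11 A.m22 B.m21,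
   dot3 A.m20 B.m02 A.m21 B.m12 A.m22 B.m22⟩

def encM (M : M3) : NM :=
  ⟨enc M.r0.x, enc M.r0.y, enc M.r0.z, enc M.r1.x, enc M.r1.y, enc M.r1.z, enc M.r2.x, enc M.r2.y,
   enc M.r2.z⟩

/-- `A` represents the matrix `M` modulo 311 -/
def Rep (A : NM) (M : M3) : Prop :=
  (toQ A.m00 = EE M.r0.x ∧ toQ A.m01 = EE M.r0.y ∧ toQ A.m02 = EE M.r0.z) ∧
  (toQ A.m10 = EE M.r1.x ∧ toQ A.m11 = EE M.r1.y ∧ toQ A.m12 = EE M.r1.z) ∧
  (toQ A.m20 = EE M.r2.x ∧ toQ A.m21 = EE M.r2.y ∧ toQ A.m22 = EE M.r2.z)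

lemma rep_encM (M : M3) : Rep (encM M) M :=
  ⟨⟨toQ_enc _, toQ_enc _, toQ_enc _⟩, ⟨toQ_enc _, toQ_enc _, toQ_enc _⟩,
    ⟨toQ_enc _, toQ_enc _, toQ_enc _⟩⟩

lemma rep_mul {A B : NM} {g h : Equiv.Perm LL} (hg : IsLin g) (hA : Rep A (code g))
    (hB : Rep B (code h)) : Rep (mulN B A) (code (g * h)) := by
  obtain ⟨⟨a00, a01, a02⟩, ⟨a10, a11, a12⟩, ⟨a20, a21, a22⟩⟩ := hA
  obtain ⟨⟨b00, b01, b02⟩, ⟨b10, b11, b12⟩, ⟨b20, b21, b22⟩⟩ := hB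
  obtain ⟨e00, e01, e02⟩ := EE_apply hg (h b0)
  obtain ⟨e10, e11, e12⟩ := EE_apply hg (h b1)
  obtain ⟨e20, e21, e22⟩ := EE_apply hg (h b2)
  refine ⟨⟨?_, ?_, ?_⟩, ⟨?_, ?_, ?_⟩, ⟨?_, ?_, ?_⟩⟩
  · exact (toQ_dot3 ..).trans (by rw [a00, a10, a20, b00, b01, b02]; exact e00.symm)
  · exact (toQ_dot3 ..).trans (by rw [a01, a11, a21, b00, b01, b02]; exact e01.symm)
  · exact (toQ_dot3 ..).trans (by rw [a02, a12, a22, b00, b01, b02]; exact e02.symm)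
  · exact (toQ_dot3 ..).trans (by rw [a00, a10, a20, b10, b11, b12]; exact e10.symm)
  · exact (toQ_dot3 ..).trans (by rw [a01, a11, a21, b10, b11, b12]; exact e11.symm)
  · exact (toQ_dot3 ..).trans (by rw [a02, a12, a22, b10, b11, b12]; exact e12.symm)
  · exact (toQ_dot3 ..).trans (by rw [a00, a10, a20, b20, b21, b22]; exact e20.symm)
  · exact (toQ_dot3 ..).trans (by rw [a01, a11, a21, b20, b21, b22]; exact e21.symm)
  · exact (toQ_dot3 ..).trans (by rw [a02, a12, a22, b20, b21, b22]; exact e22.symm)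

/-! ### recognising `±1` -/

def oneN : NM := ⟨⟨1,0,0,0⟩,⟨0,0,0,0⟩,⟨0,0,0,0⟩,⟨0,0,0,0⟩,⟨1,0,0,0⟩,⟨0,0,0,0⟩,⟨0,0,0,0⟩,⟨0,0,0,0⟩,⟨1,0,0,0⟩⟩
def negN : NM :=
  ⟨⟨310,0,0,0⟩,⟨0,0,0,0⟩,⟨0,0,0,0⟩,⟨0,0,0,0⟩,⟨310,0,0,0⟩,⟨0,0,0,0⟩,⟨0,0,0,0⟩,⟨0,0,0,0⟩,⟨310,0,0,0⟩⟩

lemma oneN_eq : oneN = encM I3 := by decide +kernel
lemma negN_eq : negN = encM nI3 := by decide +kernel

lemma P_le_of_isMin {v : V3} (h : isMin v) : P v.x ≤ 16 ∧ P v.y ≤ 16 ∧ P v.z ≤ 16 := by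
  have h1 := h.2.1
  unfold PP at h1
  have := P_nonneg v.x
  have := P_nonneg v.y
  have := P_nonneg v.z
  refine ⟨by omega, by omega, by omega⟩

def MinRows (M : M3) : Prop := isMin M.r0 ∧ isMin M.r1 ∧ isMin M.r2

lemma v3_inj {v w : V3} (hv : isMin v) (hw : isMin w) (hx : EE v.x = EE w.x) (hy : EE v.y = EE w.y)
    (hz : EE v.z = EE w.z) : v = w := by
  obtain ⟨a1, a2, a3⟩ := P_le_of_isMin hv
  obtain ⟨c1, c2, c3⟩ := P_le_of_isMin hw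
  ext1
  · exact EE_inj_bdd a1 c1 hx
  · exact EE_inj_bdd a2 c2 hy
  · exact EE_inj_bdd a3 c3 hz

lemma rep_inj {A : NM} {M M' : M3} (h : Rep A M) (h' : Rep A M') (m : MinRows M) (m' : MinRows M') :
    M = M' := by
  obtain ⟨⟨a00, a01, a02⟩, ⟨a10, a11, a12⟩, ⟨a20, a21, a22⟩⟩ := h
  obtain ⟨⟨c00, c01, c02⟩, ⟨c10, c11, c12⟩, ⟨c20, c21, c22⟩⟩ := h'
  have e0 := v3_inj m.1 m'.1 (a00.symm.trans c00) (a01.symm.trans c01) (a02.symm.trans c02)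
  have e1 := v3_inj m.2.1 m'.2.1 (a10.symm.trans c10) (a11.symm.trans c11) (a12.symm.trans c12)
  have e2 := v3_inj m.2.2 m'.2.2 (a20.symm.trans c20) (a21.symm.trans c21) (a22.symm.trans c22)
  cases M; cases M'
  simp only at e0 e1 e2
  rw [e0, e1, e2]

lemma minRows_code {g : Equiv.Perm LL} (hg : IsLin g) : MinRows (code g) :=
  ⟨isMin_cd (by rw [hg.2]; exact qip_self_of_isMin isMin_B0),
   isMin_cd (by rw [hg.2]; exact qip_self_of_isMin isMin_B1),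
   isMin_cd (by rw [hg.2]; exact qip_self_of_isMin isMin_B2)⟩

lemma code_negP : code negP = nI3 := by
  have e : ∀ v w : V3, ∀ h : inLeech v, w = ⟨-v.x, -v.y, -v.z⟩ → cd (negP (mkL v h)) = w := by
    intro v w h hw
    apply cd_eq
    rw [negP_apply, hw]
    funext t
    fin_cases t
    · exact (toH_neg _).symm
    · exact (toH_neg _).symm
    · exact (toH_neg _).symm
  unfold code nI3
  rw [b0, b1, b2, e B0 ⟨-two, 0, 0⟩ _ (by decide), e B1 ⟨0, -two, 0⟩ _ (by decide),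
    e B2 ⟨0, 0, -two⟩ _ (by decide)]

lemma eq_one_of_rep {g : Equiv.Perm LL} (hg : IsLin g) (h : Rep oneN (code g)) : g = 1 := by
  apply code_inj hg AA.one_mem
  rw [code_one]
  exact rep_inj h (oneN_eq ▸ rep_encM I3) (minRows_code hg)
    ⟨by decide, by decide, by decide⟩

lemma eq_negP_of_rep {g : Equiv.Perm LL} (hg : IsLin g) (h : Rep negN (code g)) : g = negP := by
  apply code_inj hg negP_isLin
  rw [code_negP]
  exact rep_inj h (negN_eq ▸ rep_encM nI3) (minRows_code hg)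
    ⟨by decide, by decide, by decide⟩

/-! ### powers -/

def RepP (A : NM) (a : Equiv.Perm LL) (n : ℕ) : Prop := Rep A (code (a ^ n))

lemma IsLin.pow {a : Equiv.Perm LL} (ha : IsLin a) (n : ℕ) : IsLin (a ^ n) := AA.pow_mem ha n

lemma RepP.mul {A B : NM} {a : Equiv.Perm LL} {m n : ℕ} (ha : IsLin a) (hA : RepP A a m)
    (hB : RepP B a n) : RepP (mulN B A) a (m + n) := by
  unfold RepP
  rw [pow_add]
  exact rep_mul (ha.pow m) hA hB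

lemma RepP.mul' {A B C : NM} {a : Equiv.Perm LL} {m n k : ℕ} (ha : IsLin a) (hA : RepP A a m)
    (hB : RepP B a n) (hC : C = mulN B A) (hk : k = m + n) : RepP C a k := by
  subst hC hk
  exact RepP.mul ha hA hB

def isPM (A : NM) : Bool := decide (A = oneN) || decide (A = negN)

lemma isPM_spec {A : NM} {a : Equiv.Perm LL} {n : ℕ} (ha : IsLin a) (hA : RepP A a n)
    (h : isPM A = true) : a ^ n = 1 ∨ a ^ n = negP := by
  unfold isPM at h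
  rw [Bool.or_eq_true_iff, decide_eq_true_eq, decide_eq_true_eq] at h
  rcases h with rfl | rfl
  · exact Or.inl (eq_one_of_rep (ha.pow n) hA)
  · exact Or.inr (eq_negP_of_rep (ha.pow n) hA)

def sqN (A : NM) : NM := mulN A A
def p4 (A : NM) : NM := sqN (sqN A)
def p5 (A : NM) : NM := mulN A (p4 A)
def p8 (A : NM) : NM := sqN (p4 A)
def p3 (A : NM) : NM := mulN A (sqN A)
def p7 (A : NM) : NM := mulN (p3 A) (p4 A)

def powOK (A : NM) : Bool :=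
  isPM (sqN (p5 A)) || (isPM (p8 A) || (isPM (mulN (p4 A) (p8 A)) || (isPM (p7 A) ||
    isPM (mulN (p7 A) (p8 A)))))

/-- some power `a ^ e`, `e ∈ {7, 8, 10, 12, 15}`, is `±1` -/
def GoodPow (a : Equiv.Perm LL) : Prop :=
  ∃ e : ℕ, (e = 7 ∨ e = 8 ∨ e = 10 ∨ e = 12 ∨ e = 15) ∧ (a ^ e = 1 ∨ a ^ e = negP)

lemma powOK_spec {A : NM} {a : Equiv.Perm LL} (ha : IsLin a) (hA : Rep A (code a))
    (h : powOK A = true) : GoodPow a := by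
  have r1 : RepP A a 1 := by unfold RepP; rwa [pow_one]
  have r2 : RepP (sqN A) a 2 := RepP.mul' ha r1 r1 rfl rfl
  have r4 : RepP (p4 A) a 4 := RepP.mul' ha r2 r2 rfl rfl
  have r5 : RepP (p5 A) a 5 := RepP.mul' ha r4 r1 rfl rfl
  have r10 : RepP (sqN (p5 A)) a 10 := RepP.mul' ha r5 r5 rfl rfl
  have r8 : RepP (p8 A) a 8 := RepP.mul' ha r4 r4 rfl rfl
  have r12 : RepP (mulN (p4 A) (p8 A)) a 12 := RepP.mul' ha r8 r4 rfl rfl
  have r3 : RepP (p3 A) a 3 := RepP.mul' ha r2 r1 rfl rfl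
  have r7 : RepP (p7 A) a 7 := RepP.mul' ha r4 r3 rfl rfl
  have r15 : RepP (mulN (p7 A) (p8 A)) a 15 := RepP.mul' ha r8 r7 rfl rfl
  unfold powOK at h
  simp only [Bool.or_eq_true_iff] at h
  rcases h with h | h | h | h | h
  · exact ⟨10, by simp, isPM_spec ha r10 h⟩
  · exact ⟨8, by simp, isPM_spec ha r8 h⟩
  · exact ⟨12, by simp, isPM_spec ha r12 h⟩
  · exact ⟨7, by simp, isPM_spec ha r7 h⟩
  · exact ⟨15, by simp, isPM_spec ha r15 h⟩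

end Cfsg.Agent.Lib.Helper43.J2
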