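import Cfsg.Agent.Lib.Helper43.J2Hs

set_option autoImplicit false
set_option linter.constructorNameAsVariable false
open Quaternion

namespace Cfsg.Agent.Lib.Helper43.J2
open Cfsg.Spor Q8 V3

/-! ### subgroups of the reflection group attached to the line of `(2,0,0)` -/

def iU : Q8 := ⟨0,0,2,0,0,0,0,0⟩
def jU : Q8 := ⟨0,0,0,0,2,0,0,0⟩
def kU : Q8 := ⟨0,0,0,0,0,0,2,0⟩
def Q8L : List Q8 := [one, -one, iU, -iU, jU, -jU, kU, -kU]

theorem Q8L_chk : (Q8L.all fun a => decide (isU a) && (Q8L.contains (conj a) &&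
    Q8L.all fun b => Q8L.contains (mulI a b))) = true := by decide +kernel

lemma Q8L_isU {a : Q8} (ha : a ∈ Q8L) : isU a := by
  have h := List.all_eq_true.1 Q8L_chk a ha
  rw [Bool.and_eq_true_iff, decide_eq_true_eq] at h
  exact h.1

lemma Q8L_conj {a : Q8} (ha : a ∈ Q8L) : conj a ∈ Q8L := by
  have h := List.all_eq_true.1 Q8L_chk a ha
  rw [Bool.and_eq_true_iff, Bool.and_eq_true_iff, List.contains_iff_mem] at h
  exact h.2.1

lemma Q8L_mul {a b : Q8} (ha : a ∈ Q8L) (hb : b ∈ Q8L) : mulI a b ∈ Q8L := by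
  have h := List.all_eq_true.1 Q8L_chk a ha
  rw [Bool.and_eq_true_iff, Bool.and_eq_true_iff] at h
  have h2 := List.all_eq_true.1 h.2.2 b hb
  rwa [List.contains_iff_mem] at h2

def Hh : Subgroup twoJ2 where
  carrier := {g | ∃ w, WV g.1 w}
  one_mem' := ⟨one, WV_one⟩
  mul_mem' := by
    rintro a b ⟨w, hw⟩ ⟨w', hw'⟩
    exact ⟨_, WV.mul (twoJ2_le_AA a.2) hw hw'⟩
  inv_mem' := by
    rintro a ⟨w, hw⟩
    exact ⟨_, WV.inv (twoJ2_le_AA a.2) hw⟩

def Sh : Subgroup twoJ2 where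
  carrier := {g | ∃ w ∈ Q8L, WV g.1 w}
  one_mem' := ⟨one, by decide, WV_one⟩
  mul_mem' := by
    rintro a b ⟨w, mw, hw⟩ ⟨w', mw', hw'⟩
    exact ⟨_, Q8L_mul mw' mw, WV.mul (twoJ2_le_AA a.2) hw hw'⟩
  inv_mem' := by
    rintro a ⟨w, mw, hw⟩
    exact ⟨_, Q8L_conj mw, WV.inv (twoJ2_le_AA a.2) hw⟩

def PM (w : Q8) : Prop := w = one ∨ w = -one
instance (w : Q8) : Decidable (PM w) := by unfold PM; infer_instance

lemma PM_mul {a b : Q8} (ha : PM a) (hb : PM b) : PM (mulI a b) := by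
  rcases ha with rfl | rfl <;> rcases hb with rfl | rfl <;> decide

lemma PM_conj {a : Q8} (ha : PM a) : PM (conj a) := by
  rcases ha with rfl | rfl <;> decide

def Kh : Subgroup twoJ2 where
  carrier := {g | ∃ w, PM w ∧ WV g.1 w}
  one_mem' := ⟨one, Or.inl rfl, WV_one⟩
  mul_mem' := by
    rintro a b ⟨w, mw, hw⟩ ⟨w', mw', hw'⟩
    exact ⟨_, PM_mul mw' mw, WV.mul (twoJ2_le_AA a.2) hw hw'⟩
  inv_mem' := by
    rintro a ⟨w, mw, hw⟩
    exact ⟨_, PM_conj mw, WV.inv (twoJ2_le_AA a.2) hw⟩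

lemma Kh_le_Sh : Kh ≤ Sh := by
  rintro g ⟨w, mw, hw⟩
  refine ⟨w, ?_, hw⟩
  rcases mw with rfl | rfl <;> decide

lemma Sh_le_Hh : Sh ≤ Hh := fun _ ⟨w, _, hw⟩ => ⟨w, hw⟩

lemma center_le_Kh : Subgroup.center twoJ2 ≤ Kh := by
  intro z hz
  rcases mem_center_iff.1 hz with rfl | rfl
  · exact Kh.one_mem
  · exact ⟨-one, Or.inr rfl, WV_neg⟩

abbrev pj : twoJ2 →* J2 := QuotientGroup.mk' (Subgroup.center twoJ2)

lemma mem_map_iff {X : Subgroup twoJ2} (hX : Subgroup.center twoJ2 ≤ X) (g : twoJ2) :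
    (QuotientGroup.mk g : J2) ∈ X.map pj ↔ g ∈ X := by
  constructor
  · rintro ⟨g', hg', e⟩
    have h1 : g'⁻¹ * g ∈ Subgroup.center twoJ2 := QuotientGroup.eq.1 e
    have h2 : g = g' * (g'⁻¹ * g) := by group
    rw [h2]
    exact X.mul_mem hg' (hX h1)
  · intro hg
    exact ⟨g, hg, rfl⟩

def Hbar : Subgroup J2 := Hh.map pj
def Sb : Subgroup J2 := Sh.map pj
def Qb : Subgroup J2 := Kh.map pj

lemma mem_Hb (g : twoJ2) : (QuotientGroup.mk g : J2) ∈ Hbar ↔ g ∈ Hh :=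
  mem_map_iff (center_le_Kh.trans (Kh_le_Sh.trans Sh_le_Hh)) g
lemma mem_Sb (g : twoJ2) : (QuotientGroup.mk g : J2) ∈ Sb ↔ g ∈ Sh :=
  mem_map_iff (center_le_Kh.trans Kh_le_Sh) g
lemma mem_Qb (g : twoJ2) : (QuotientGroup.mk g : J2) ∈ Qb ↔ g ∈ Kh := mem_map_iff center_le_Kh g

lemma Qb_le_Sb : Qb ≤ Sb := Subgroup.map_mono Kh_le_Sh
lemma Sb_le_Hb : Sb ≤ Hbar := Subgroup.map_mono Sh_le_Hh

noncomputable def rho0 : twoJ2 := ⟨RF B0, RF_mem isMin_B0⟩
noncomputable def zb : J2 := QuotientGroup.mk rho0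

lemma rl_b0 : rl b0 = RF B0 := by rw [rl, cd_b0]

lemma RF_B0_b0 : RF B0 b0 = negP b0 := by
  apply cd_inj
  rw [cd_RF isMin_B0, cd_b0]
  exact ((congrArg M3.r0 code_negP).trans (by decide +kernel)).symm

lemma rho0_mem_Kh : rho0 ∈ Kh := ⟨-one, Or.inr rfl, WV_of_fixneg RF_B0_b0⟩

lemma zb_mem_Qb : zb ∈ Qb := (mem_Qb rho0).2 rho0_mem_Kh

lemma mk_eq_one_iff (a : twoJ2) : (QuotientGroup.mk a : J2) = 1 ↔ a.1 = 1 ∨ a.1 = negP := by
  rw [QuotientGroup.eq_one_iff, mem_center_iff]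
  constructor
  · rintro (h | h)
    · exact Or.inl (congrArg Subtype.val h)
    · exact Or.inr (congrArg Subtype.val h)
  · rintro (h | h)
    · exact Or.inl (Subtype.ext h)
    · exact Or.inr (Subtype.ext h)

lemma b1_ne : negP b1 ≠ b1 := by
  intro h
  have h1 := congrArg cd h
  rw [cd_b1] at h1
  have h2 := congrArg M3.r1 code_negP
  have h3 : cd (negP b1) = nI3.r1 := h2
  rw [h3] at h1
  revert h1
  decide

lemma zb_ne_one : zb ≠ 1 := by
  intro h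
  rcases (mk_eq_one_iff rho0).1 h with h | h
  · have h1 : RF B0 b0 = b0 := by
      have : RF B0 = 1 := h
      rw [this]; rfl
    rw [RF_B0_b0] at h1
    have h2 := congrArg cd h1
    rw [cd_b0] at h2
    have h3 : cd (negP b0) = nI3.r0 := congrArg M3.r0 code_negP
    rw [h3] at h2
    revert h2
    decide
  · have h0 : RF B0 = negP := h
    have h1 : cd (RF B0 b1) = B1 := by
      rw [cd_RF isMin_B0, cd_b1]
      decide +kernel
    rw [h0] at h1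
    exact b1_ne (cd_inj (h1.trans cd_b1.symm))

lemma comm_cases {a k : twoJ2} (h : (QuotientGroup.mk k : J2) * QuotientGroup.mk a =
    QuotientGroup.mk a * QuotientGroup.mk k) :
    a.1 * k.1 = k.1 * a.1 ∨ a.1 * k.1 = negP * (k.1 * a.1) := by
  rw [← QuotientGroup.mk_mul, ← QuotientGroup.mk_mul, QuotientGroup.eq, mem_center_iff] at h
  rcases h with h | h
  · left
    have h1 : a * k = k * a * ((k * a)⁻¹ * (a * k)) := by group
    rw [h, mul_one] at h1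
    exact congrArg Subtype.val h1
  · right
    have h1 : a * k = k * a * ((k * a)⁻¹ * (a * k)) := by group
    rw [h] at h1
    have h2 := congrArg Subtype.val h1
    have h3 : a.1 * k.1 = k.1 * a.1 * negP := h2
    rw [h3, negP_comm (twoJ2_le_AA (twoJ2.mul_mem k.2 a.2))]

/-! ### reflections and lines -/

def nB1 : V3 := ⟨0, -two, 0⟩
def nB2 : V3 := ⟨0, 0, -two⟩

theorem R_chk : (NV.all fun r => !(decide (reflM r B1 = nB1) && decide (reflM r B2 = nB2))) = true := by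
  decide +kernel

lemma B0_mem_NV : B0 ∈ NV := List.mem_of_getElem? (i := 0) (by decide +kernel)

lemma exists_NV_of_Mn {x : LL} (hx : Mn x) : ∃ u r₀, isU u ∧ r₀ ∈ NV ∧ cd x = smul u r₀ ∧ rl x = RF r₀ := by
  obtain ⟨u, r₀, hu, hr₀, e⟩ := cover (isMin_cd hx)
  exact ⟨u, r₀, hu, hr₀, e, by rw [rl, e, RF_smul hu (isMin_of_mem_NV hr₀)]⟩

lemma SL_of_rl_eq {x : LL} (hx : Mn x) (h : rl x = rl b0) : SL x b0 := by
  obtain ⟨u, r₀, hu, hr₀, e, e'⟩ := exists_NV_of_Mn hx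
  rw [e', rl_b0] at h
  have := RF_inj hr₀ B0_mem_NV h
  subst this
  exact ⟨u, hu, by rw [← toV_cd x, e, toV_smul' hu.1 isMin_B0.1]; rfl⟩

lemma rl_ne_neg {x : LL} (hx : Mn x) : rl x ≠ negP * rl b0 := by
  intro h
  obtain ⟨u, r₀, hu, hr₀, e, e'⟩ := exists_NV_of_Mn hx
  have mr := isMin_of_mem_NV hr₀
  rw [e', rl_b0] at h
  have hc := List.all_eq_true.1 R_chk r₀ hr₀
  rw [Bool.not_eq_true', Bool.and_eq_false_iff, decide_eq_false_iff_not, decide_eq_false_iff_not] at hc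
  have k1 : RF B0 b1 = b1 := cd_inj (by rw [cd_RF isMin_B0, cd_b1]; decide +kernel)
  have k2 : RF B0 b2 = b2 := cd_inj (by rw [cd_RF isMin_B0, cd_b2]; decide +kernel)
  have f1 : reflM r₀ B1 = nB1 := by
    rw [← cd_b1, ← cd_RF mr, h, Equiv.Perm.mul_apply, k1]
    exact congrArg M3.r1 code_negP
  have f2 : reflM r₀ B2 = nB2 := by
    rw [← cd_b2, ← cd_RF mr, h, Equiv.Perm.mul_apply, k2]
    exact congrArg M3.r2 code_negP
  rcases hc with hc | hc
  · exact hc f1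
  · exact hc f2

lemma mem_Hh_iff_SL (a : twoJ2) : a ∈ Hh ↔ SL (a.1 b0) b0 :=
  ⟨fun ⟨w, hw⟩ => ⟨w, hw.1, hw.2⟩, fun ⟨w, hw, e⟩ => ⟨w, hw, e⟩⟩

lemma mem_Hh_of_comm {a : twoJ2} (h : zb * QuotientGroup.mk a = QuotientGroup.mk a * zb) : a ∈ Hh := by
  have la := twoJ2_le_AA a.2
  rw [mem_Hh_iff_SL]
  have hc := rl_conj la Mn_b0
  rcases comm_cases h with e | e
  · apply SL_of_rl_eq (Mn.map la Mn_b0)
    rw [← hc, rl_b0]
    have e' : a.1 * RF B0 = RF B0 * a.1 := e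
    rw [e', mul_assoc, mul_inv_cancel, mul_one]
  · exfalso
    apply rl_ne_neg (Mn.map la Mn_b0)
    rw [← hc, rl_b0]
    have e' : a.1 * RF B0 = negP * (RF B0 * a.1) := e
    rw [e']
    group

lemma comm_of_mem_Hh {a : twoJ2} (h : a ∈ Hh) : zb * QuotientGroup.mk a = QuotientGroup.mk a * zb := by
  have la := twoJ2_le_AA a.2
  have hc := rl_conj la Mn_b0
  rw [rl_SL ((mem_Hh_iff_SL a).1 h) Mn_b0, rl_b0] at hc
  have e : rho0 * a = a * rho0 := by
    apply Subtype.ext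
    show RF B0 * a.1 = a.1 * RF B0
    nth_rewrite 1 [← hc]
    group
  show (QuotientGroup.mk rho0 : J2) * QuotientGroup.mk a = QuotientGroup.mk a * QuotientGroup.mk rho0
  rw [← QuotientGroup.mk_mul, ← QuotientGroup.mk_mul, e]

end Cfsg.Agent.Lib.Helper43.J2
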