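import Cfsg.Agent.Lib.Helper43.J2Fus1

set_option autoImplicit false
set_option linter.constructorNameAsVariable false
open Quaternion

namespace Cfsg.Agent.Lib.Helper43.J2
open Cfsg.Spor Q8 V3

lemma evalR_app (w w' : List V3) : evalR (w ++ w') = evalR w * evalR w' := by
  simp [evalR]

lemma evalR_single (r : V3) : evalR [r] = RF r := by simp [evalR]

lemma RF_inv {r : V3} (hr : isMin r) : (RF r)⁻¹ = RF r := by
  rw [← rl_mk' hr]; exact rl_inv (Mn_mk' hr)

theorem lz_chk : codeW (wd [5, 0] ++ [B0]) = nI3 := by decide +kernel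

lemma kel_lz : kel [5, 0] = negP * RF B0 := by
  have hm : ∀ r ∈ wd [5, 0] ++ [B0], isMin r := by
    intro r hr
    rcases List.mem_append.1 hr with h | h
    · exact wd_isMin _ r h
    · rw [List.mem_singleton] at h; rw [h]; exact isMin_B0
  have e1 : evalR (wd [5, 0] ++ [B0]) = negP :=
    code_inj (twoJ2_le_AA (evalR_mem hm)) negP_isLin (by rw [code_evalR hm, lz_chk, code_negP])
  rw [evalR_app, evalR_single] at e1
  have e2 : kel [5, 0] = kel [5, 0] * RF B0 * (RF B0)⁻¹ := by group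
  rw [e2]
  show evalR (wd [5, 0]) * RF B0 * (RF B0)⁻¹ = _
  rw [e1, RF_inv isMin_B0]

lemma kel_nil : kel [] = 1 := rfl
lemma cel_nil : cel [] = 1 := rfl

lemma neg_ne {x : LL} (hx : Mn x) : x ≠ negP x := by
  intro h
  have h1 : x.1 = -x.1 := congrArg Subtype.val h
  have h2 : qip x.1 x.1 = qip (-x.1) x.1 := congrArg (fun v => qip v x.1) h1
  rw [qip_neg_left, hx, four_eq] at h2
  have h3 := congrArg (fun q : ℍ[ℝ] => q.re) h2
  simp at h3
  norm_num at h3

lemma mk_eq_of {a b : twoJ2} (h : a.1 = b.1 ∨ a.1 = negP * b.1) :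
    (QuotientGroup.mk a : J2) = QuotientGroup.mk b := by
  rcases h with h | h
  · rw [Subtype.ext h]
  · have : a = negJ * b := Subtype.ext h
    rw [this, QuotientGroup.mk_mul, (QuotientGroup.eq_one_iff negJ).2 negJ_mem_center, one_mul]

/-- the centraliser of `Q = 2^{1+4}` is its centre -/
theorem cent_Q {x : J2} (hx : x ∈ Subgroup.centralizer (Qb : Set J2)) : x = 1 ∨ x = zb := by
  obtain ⟨a, rfl⟩ := QuotientGroup.mk_surjective x
  rw [Subgroup.mem_centralizer_iff] at hx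
  obtain ⟨w, hw⟩ := mem_Hh_of_comm (hx zb zb_mem_Qb)
  have la := twoJ2_le_AA a.2
  have hcomm : ∀ l' ∈ KW, a.1 * kel l' = kel l' * a.1 := by
    intro l' hl'
    have hk : (⟨kel l', kel_mem l'⟩ : twoJ2) ∈ Kh := ⟨one, Or.inl rfl, WV_of_fix (kel_fix hl')⟩
    rcases comm_cases (hx _ ((mem_Qb _).2 hk)) with e | e
    · exact e
    · exfalso
      have e0 := congrArg (fun f : Equiv.Perm LL => f b0) e
      simp only [Equiv.Perm.mul_apply] at e0
      rw [kel_fix hl'] at e0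
      have h1 : kel l' (a.1 b0) = a.1 b0 := Subtype.ext (by
        rw [(twoJ2_le_AA (kel_mem l')).map_of_eq_smul (toH_mem_icosians hw.1.1) hw.2, kel_fix hl', hw.2])
      rw [h1] at e0
      exact neg_ne (Mn.map la Mn_b0) e0
  obtain ⟨W, hW, l, hl, e⟩ := H_decomp a.2 hw
  have hc : ∀ l' ∈ KW, cel W * kel l * kel l' = kel l' * (cel W * kel l) := by
    intro l' hl'
    have h0 := hcomm l' hl'
    rcases e with e | e
    · rw [e] at h0; exact h0
    · rw [e] at h0
      have lk := twoJ2_le_AA (kel_mem l')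
      have h1 : negP * (cel W * kel l * kel l') = negP * (kel l' * (cel W * kel l)) := by
        rw [← mul_assoc, h0, ← mul_assoc, ← mul_assoc, negP_comm lk]
        simp only [mul_assoc]
      exact mul_left_cancel h1
  obtain ⟨rfl, hl'⟩ := cent_of_comm hW hl hc
  rcases hl' with rfl | rfl
  · left
    rw [cel_nil, kel_nil, mul_one, mul_one] at e
    exact (mk_eq_one_iff a).2 e
  · right
    rw [cel_nil, one_mul, kel_lz, ← mul_assoc, negP_mul_self, one_mul] at e
    exact mk_eq_of e.symm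

/-! ### normalisers -/

lemma le_normalizer_of_conj {G : Type*} [Group G] {X N : Subgroup G}
    (h : ∀ g ∈ X, ∀ n ∈ N, g * n * g⁻¹ ∈ N) : X ≤ Subgroup.normalizer (N : Set G) := by
  intro g hg
  rw [Subgroup.mem_normalizer_iff]
  intro n
  constructor
  · exact h g hg n
  · intro hn
    have := h g⁻¹ (X.inv_mem hg) _ hn
    simpa [mul_assoc] using this

lemma pm_conj_cancel {w e : Q8} (hw : isU w) (he : PM e) : mulI (conj w) (mulI e w) = e := by
  have ie : isIco e := by rcases he with rfl | rfl <;> decide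
  apply toH_injective
  rw [toH_mulI' (isU_conj hw).1 (isIco_mulI ie hw.1), toH_mulI' ie hw.1]
  rcases he with rfl | rfl
  · rw [toH_one, one_mul, conj_mul_self hw]
  · rw [toH_neg, toH_one, neg_mul, one_mul, mul_neg, conj_mul_self hw]

lemma conj_Kh {g k : twoJ2} (hg : g ∈ Hh) (hk : k ∈ Kh) : g * k * g⁻¹ ∈ Kh := by
  obtain ⟨w, hw⟩ := hg
  obtain ⟨e, he, hk⟩ := hk
  have lg := twoJ2_le_AA g.2
  refine ⟨e, he, ?_⟩
  have h1 := WV.mul (twoJ2_le_AA (g * k).2) (WV.mul lg hw hk) (WV.inv lg hw)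
  exact h1.congr (pm_conj_cancel hw.1 he)

lemma Hbar_le_normalizer : Hbar ≤ Subgroup.normalizer (Qb : Set J2) := by
  apply le_normalizer_of_conj
  rintro _ ⟨g, hg, rfl⟩ _ ⟨k, hk, rfl⟩
  exact ⟨g * k * g⁻¹, conj_Kh hg hk, rfl⟩

lemma zb_comm {h : J2} (hh : h ∈ Hbar) : zb * h = h * zb := by
  obtain ⟨a, ha, rfl⟩ := hh
  exact comm_of_mem_Hh ha

lemma normalizer_Sb_le : Subgroup.normalizer (Sb : Set J2) ≤ Hbar := by
  intro n hn
  rw [Subgroup.mem_normalizer_iff] at hn
  have hy : n * zb * n⁻¹ ∈ Subgroup.centralizer (Qb : Set J2) := by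
    rw [Subgroup.mem_centralizer_iff]
    intro q hq
    have hq' : n⁻¹ * q * n ∈ Sb := by
      apply (hn _).2
      have : n * (n⁻¹ * q * n) * n⁻¹ = q := by group
      rw [this]
      exact Qb_le_Sb hq
    have hc := zb_comm (Sb_le_Hb hq')
    calc q * (n * zb * n⁻¹) = n * ((n⁻¹ * q * n) * zb) * n⁻¹ := by group
      _ = n * (zb * (n⁻¹ * q * n)) * n⁻¹ := by rw [hc]
      _ = n * zb * n⁻¹ * q := by group
  obtain ⟨a, rfl⟩ := QuotientGroup.mk_surjective n
  rw [mem_Hb]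
  apply mem_Hh_of_comm
  rcases cent_Q hy with h | h
  · exfalso
    apply zb_ne_one
    have : zb = (QuotientGroup.mk a : J2)⁻¹ * (QuotientGroup.mk a * zb * (QuotientGroup.mk a)⁻¹) *
        QuotientGroup.mk a := by group
    rw [this, h]; group
  · nth_rewrite 1 [← h]
    group

/-! ### `H` is generated by its 2-elements -/

def X5 : Subgroup J2 :=
  Subgroup.closure {x : J2 | x ∈ Subgroup.normalizer (Qb : Set J2) ∧ ∃ k : ℕ, x ^ 2 ^ k = 1}

def PW (w : Q8) : Prop := ∀ g : twoJ2, WV g.1 w → (QuotientGroup.mk g : J2) ∈ X5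

lemma pow32_of_fix {g : twoJ2} (h : g.1 b0 = b0) : g ^ 32 = 1 := by
  have h1 : (⟨g, h⟩ : MulAction.stabilizer twoJ2 b0) ^ Nat.card (MulAction.stabilizer twoJ2 b0) = 1 :=
    pow_card_eq_one'
  rw [card_stab_b0] at h1
  exact congrArg Subtype.val h1

lemma PW_of_four {w : Q8} (h4 : mulI (mulI w w) (mulI w w) = one) : PW w := by
  intro g hg
  have lg := twoJ2_le_AA g.2
  apply Subgroup.subset_closure
  refine ⟨Hbar_le_normalizer ((mem_Hb g).2 ⟨w, hg⟩), 7, ?_⟩
  have h2 : WV (g * g).1 (mulI w w) := WV.mul lg hg hg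
  have h3 : WV ((g * g) * (g * g)).1 (mulI (mulI w w) (mulI w w)) := WV.mul (twoJ2_le_AA (g * g).2) h2 h2
  rw [h4] at h3
  have h5 := pow32_of_fix h3.fix
  have h6 : g ^ 2 ^ 7 = ((g * g) * (g * g)) ^ 32 := by
    have : (g * g) * (g * g) = g ^ 4 := by simp [pow_succ, mul_assoc]
    rw [this, ← pow_mul]
    norm_num
  rw [← QuotientGroup.mk_pow, h6, h5]
  rfl

lemma PW_mul {w w' : Q8} (hw : isU w) (hw' : isU w') (h : PW w) (h' : PW w') : PW (mulI w' w) := by
  intro g hg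
  obtain ⟨g1, m1, h1⟩ := exists_WV hw
  have l1 := twoJ2_le_AA m1
  have h2 : WV (g1⁻¹ * g.1) w' := by
    have := WV.mul (AA.inv_mem l1) (WV.inv l1 h1) hg
    refine this.congr ?_
    rw [mulI_assoc hw'.1 hw.1 (isU_conj hw).1, mulI_conj_self hw, mulI_one]
  have e : g = ⟨g1, m1⟩ * (⟨g1, m1⟩⁻¹ * g) := by group
  rw [e, QuotientGroup.mk_mul]
  exact X5.mul_mem (h ⟨g1, m1⟩ h1) (h' _ h2)

def ua1 : Q8 := ⟨0,0,-1,0,1,-1,0,1⟩
def ua2 : Q8 := ⟨0,0,-1,0,-1,1,0,-1⟩
def ub1 : Q8 := ⟨0,0,1,0,1,-1,0,-1⟩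
def ub2 : Q8 := ⟨0,0,-2,0,0,0,0,0⟩

lemma PW_hw (b : Bool) : PW (if b then hw2 else hw1) := by
  cases b
  · have : hw1 = mulI ua1 ua2 := by decide
    show PW hw1
    rw [this]
    exact PW_mul (by decide) (by decide) (PW_of_four (by decide)) (PW_of_four (by decide))
  · have : hw2 = mulI ub1 ub2 := by decide
    show PW hw2
    rw [this]
    exact PW_mul (by decide) (by decide) (PW_of_four (by decide)) (PW_of_four (by decide))

lemma PW_evalU : ∀ W : List Bool, PW (evalU W)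
  | [] => PW_of_four (by decide)
  | b :: W => by
    have hb : isU (if b then hw2 else hw1) := by cases b; exacts [isU_hw1, isU_hw2]
    exact PW_mul (isU_evalU W) hb (PW_evalU W) (PW_hw b)

lemma PW_all {u : Q8} (hu : isU u) : PW u := by
  have h := List.all_eq_true.1 uwords_chk u (mem_Ulist.2 hu)
  rw [List.contains_iff_mem, List.mem_map] at h
  obtain ⟨w, _, rfl⟩ := h
  exact PW_evalU w

lemma Hbar_le_X5 : Hbar ≤ X5 := by
  rintro _ ⟨g, ⟨w, hw⟩, rfl⟩
  exact PW_all hw.1 g hw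

end Cfsg.Agent.Lib.Helper43.J2
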