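import Cfsg.Agent.Lib.Helper43.J2Fus2
import Cfsg.Agent.Lib.Helper38.PGroup
import Cfsg.Agent.Lib.Helper89.SimpleGen

set_option autoImplicit false
set_option linter.constructorNameAsVariable false
open Quaternion

namespace Cfsg.Agent.Lib.Helper43.J2
open Cfsg.Spor Q8 V3

/-! ### the order of the Sylow 2-subgroup -/

noncomputable def gW (w : Q8) : twoJ2 :=
  if h : isU w then ⟨(exists_WV h).choose, (exists_WV h).choose_spec.1⟩ else 1

lemma gW_spec {w : Q8} (h : isU w) : WV (gW w).1 w := by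
  rw [gW, dif_pos h]; exact (exists_WV h).choose_spec.2

lemma ncard_orbit_Sh : (MulAction.orbit Sh b0).ncard = 8 := by
  rw [ncard_image_list Q8L (fun w => (gW w).1 b0) (by decide)]
  · rfl
  · intro v
    constructor
    · rintro ⟨⟨g, w, mw, hw⟩, rfl⟩
      exact ⟨w, mw, Subtype.ext (by rw [(gW_spec (Q8L_isU mw)).2]; exact hw.2.symm)⟩
    · rintro ⟨w, mw, rfl⟩
      exact ⟨⟨gW w, w, mw, gW_spec (Q8L_isU mw)⟩, rfl⟩
  · intro a ha a' ha' h
    have h' : (gW a).1 b0 = (gW a').1 b0 := h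
    exact (gW_spec (Q8L_isU ha)).unique ⟨Q8L_isU ha', by rw [h']; exact (gW_spec (Q8L_isU ha')).2⟩

lemma card_stab_Sh : Nat.card (MulAction.stabilizer Sh b0) = 32 := by
  rw [← card_stab_b0]
  exact Nat.card_congr ⟨fun g => ⟨g.1.1, g.2⟩,
    fun g => ⟨⟨g.1, one, by decide, WV_of_fix g.2⟩, g.2⟩, fun _ => rfl, fun _ => rfl⟩

theorem card_Sh : Nat.card Sh = 256 := by
  have h1 := Subgroup.card_mul_index (MulAction.stabilizer Sh b0)
  rw [MulAction.index_stabilizer, ncard_orbit_Sh, card_stab_Sh] at h1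
  rw [← h1]

theorem index_Sh : Sh.index = 4725 := by
  have h := Subgroup.card_mul_index Sh
  rw [card_Sh, card_twoJ2] at h
  omega

theorem index_Sb : Sb.index = 4725 := by
  have h := Subgroup.index_map Sh pj
  have h1 : Sh ⊔ pj.ker = Sh := by
    rw [sup_eq_left, QuotientGroup.ker_mk']
    exact center_le_Kh.trans Kh_le_Sh
  have h2 : pj.range = ⊤ := MonoidHom.range_eq_top.2 (QuotientGroup.mk'_surjective _)
  rw [h1, h2, Subgroup.index_top, mul_one, index_Sh] at h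
  exact h

theorem isPGroup_Sb : IsPGroup 2 Sb :=
  (IsPGroup.of_card (n := 8) (by rw [card_Sh]; norm_num)).map pj

/-! ### no proper nontrivial strongly closed subgroup -/

instance finite_twoJ2 : Finite twoJ2 := Nat.finite_of_card_ne_zero (by rw [card_twoJ2]; norm_num)
instance finite_J2 : Finite J2 := Nat.finite_of_card_ne_zero (by rw [card_J2]; norm_num)

def rg : V3 := NV.getD 209 B1

theorem fix_chk : (KW.all fun l => (wd l).all fun r => decide (reflM r B0 = B0)) = true := by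
  decide +kernel
theorem y1_chk : actW ([rg] ++ wd [1,0] ++ [rg]) B0 = smul (-jU) B0 := by decide +kernel
theorem y2_chk : actW ([rg] ++ wd [2,0] ++ [rg]) B0 = smul kU B0 := by decide +kernel
theorem isMin_rg : isMin rg := by decide +kernel

lemma WV_of_cd {g : Equiv.Perm LL} {w : Q8} (hw : isU w) (h : cd (g b0) = smul w B0) : WV g w :=
  ⟨hw, by rw [← toV_cd (g b0), h, toV_smul' hw.1 isMin_B0.1]; rfl⟩

noncomputable def rfl2 (r : V3) (hr : isMin r) : twoJ2 := ⟨RF r, RF_mem hr⟩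

section closed
variable {T : Subgroup J2} (hT : T ≤ Sb) (hne : T ≠ ⊥)
  (hcl : ∀ x ∈ T, ∀ g : J2, g * x * g⁻¹ ∈ Sb → g * x * g⁻¹ ∈ T)
include hT hne hcl

lemma zb_mem_T : zb ∈ T := by
  haveI : Fact (Nat.Prime 2) := ⟨Nat.prime_two⟩
  haveI : (T.subgroupOf Sb).Normal := by
    constructor
    intro n hn g
    rw [Subgroup.mem_subgroupOf] at hn ⊢
    exact hcl _ hn g.1 (Sb.mul_mem (Sb.mul_mem g.2 n.2) (Sb.inv_mem g.2))
  have hb : T.subgroupOf Sb ≠ ⊥ := by
    intro h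
    rw [Subgroup.subgroupOf_eq_bot, disjoint_iff, inf_eq_left.2 hT] at h
    exact hne h
  obtain ⟨x, hx, hx1, hxc⟩ :=
    Cfsg.Agent.Lib.Helper38.exists_ne_one_mem_center_of_normal isPGroup_Sb (T.subgroupOf Sb) hb
  have hc : x.1 ∈ Subgroup.centralizer (Qb : Set J2) := by
    rw [Subgroup.mem_centralizer_iff]
    intro q hq
    rw [Subgroup.mem_center_iff] at hxc
    exact congrArg Subtype.val (hxc ⟨q, Qb_le_Sb hq⟩)
  rcases cent_Q hc with h | h
  · exact absurd (Subtype.ext h) hx1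
  · rw [← h]; exact hx

lemma refl_mem_T {r : V3} (hr : isMin r) (hS : rfl2 r hr ∈ Sh) :
    (QuotientGroup.mk (rfl2 r hr) : J2) ∈ T := by
  obtain ⟨g, hg, e⟩ := exists_map_b0 (Mn_mk' hr)
  have hc := rl_conj (twoJ2_le_AA hg) Mn_b0
  rw [e, rl_mk' hr, rl_b0] at hc
  have e2 : rfl2 r hr = ⟨g, hg⟩ * rho0 * ⟨g, hg⟩⁻¹ := Subtype.ext hc.symm
  have e3 : (QuotientGroup.mk (rfl2 r hr) : J2) =
      QuotientGroup.mk ⟨g, hg⟩ * zb * (QuotientGroup.mk ⟨g, hg⟩)⁻¹ := by rw [e2]; rfl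
  rw [e3]
  apply hcl _ (zb_mem_T hT hne hcl)
  rw [← e3]
  exact (mem_Sb _).2 hS

lemma evalR_mem_T : ∀ (w : List V3) (hw : ∀ r ∈ w, isMin r), (∀ r ∈ w, reflM r B0 = B0) →
    (QuotientGroup.mk (⟨evalR w, evalR_mem hw⟩ : twoJ2) : J2) ∈ T
  | [], _, _ => T.one_mem
  | r :: w, hw, hf => by
    have hr := hw r (List.mem_cons_self ..)
    have hw' : ∀ r ∈ w, isMin r := fun r' h' => hw r' (List.mem_cons_of_mem _ h')
    have e : (⟨evalR (r :: w), evalR_mem hw⟩ : twoJ2) = rfl2 r hr * ⟨evalR w, evalR_mem hw'⟩ :=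
      Subtype.ext (by simp [evalR, rfl2])
    rw [e, QuotientGroup.mk_mul]
    refine T.mul_mem (refl_mem_T hT hne hcl hr ?_)
      (evalR_mem_T w hw' fun r' h' => hf r' (List.mem_cons_of_mem _ h'))
    refine ⟨one, by decide, WV_of_fix (cd_inj ?_)⟩
    show cd (RF r b0) = cd b0
    rw [cd_RF hr, cd_b0]
    exact hf r (List.mem_cons_self ..)

lemma kel_mem_T {l : List ℕ} (hl : l ∈ KW) :
    (QuotientGroup.mk (⟨kel l, kel_mem l⟩ : twoJ2) : J2) ∈ T := by
  apply evalR_mem_T hT hne hcl (wd l) (wd_isMin l)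
  intro r hr
  have h := List.all_eq_true.1 (List.all_eq_true.1 fix_chk l hl) r hr
  exact of_decide_eq_true h

lemma Qb_le_T : Qb ≤ T := by
  rintro _ ⟨g, ⟨w, hw, hg⟩, rfl⟩
  show (QuotientGroup.mk g : J2) ∈ T
  rcases hw with rfl | rfl
  · obtain ⟨l, hl, e⟩ := exists_kel (twoJ2_le_AA g.2) hg.fix
    have : g = ⟨kel l, kel_mem l⟩ := Subtype.ext e.symm
    rw [this]
    exact kel_mem_T hT hne hcl hl
  · have h1 : (negP * g.1) b0 = b0 := by
      rw [Equiv.Perm.mul_apply, hg.fixneg, ← Equiv.Perm.mul_apply, negP_mul_self]; rfl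
    obtain ⟨l, hl, e⟩ := exists_kel (twoJ2_le_AA (twoJ2.mul_mem negP_mem g.2)) h1
    have h2 : (QuotientGroup.mk g : J2) = QuotientGroup.mk (⟨kel l, kel_mem l⟩ : twoJ2) := by
      apply mk_eq_of
      right
      show g.1 = negP * kel l
      rw [e, ← mul_assoc, negP_mul_self, one_mul]
    rw [h2]
    exact kel_mem_T hT hne hcl hl

/-- a lift of an element of `T` multiplies the base vector by `w` -/
def PT (T : Subgroup J2) (w : Q8) : Prop := ∃ t : twoJ2, (QuotientGroup.mk t : J2) ∈ T ∧ WV t.1 w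

omit hT hne hcl in
lemma PT.mul {w w' : Q8} (h : PT T w) (h' : PT T w') : PT T (mulI w' w) := by
  obtain ⟨t, ht, hw⟩ := h
  obtain ⟨t', ht', hw'⟩ := h'
  exact ⟨t * t', by rw [QuotientGroup.mk_mul]; exact T.mul_mem ht ht', WV.mul (twoJ2_le_AA t.2) hw hw'⟩

lemma PT_conj {l : List ℕ} (hl : l ∈ KW) {w : Q8} (hw : w ∈ Q8L)
    (h : actW ([rg] ++ wd l ++ [rg]) B0 = smul w B0) : PT T w := by
  have hm : ∀ r ∈ [rg] ++ wd l ++ [rg], isMin r := by
    intro r hr
    rcases List.mem_append.1 hr with h | h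
    · rcases List.mem_append.1 h with h | h
      · rw [List.mem_singleton] at h; rw [h]; exact isMin_rg
      · exact wd_isMin _ r h
    · rw [List.mem_singleton] at h; rw [h]; exact isMin_rg
  have hW : WV (evalR ([rg] ++ wd l ++ [rg])) w :=
    WV_of_cd (Q8L_isU hw) (by rw [cd_evalR hm, cd_b0, h])
  refine ⟨⟨_, evalR_mem hm⟩, ?_, hW⟩
  have e : (⟨_, evalR_mem hm⟩ : twoJ2) = rfl2 rg isMin_rg * ⟨kel l, kel_mem l⟩ * (rfl2 rg isMin_rg)⁻¹ := by
    apply Subtype.ext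
    show evalR ([rg] ++ wd l ++ [rg]) = RF rg * kel l * (RF rg)⁻¹
    rw [evalR_app, evalR_app, evalR_single, RF_inv isMin_rg]; rfl
  have e3 : (QuotientGroup.mk (⟨_, evalR_mem hm⟩ : twoJ2) : J2) =
      QuotientGroup.mk (rfl2 rg isMin_rg) * QuotientGroup.mk (⟨kel l, kel_mem l⟩ : twoJ2) *
        (QuotientGroup.mk (rfl2 rg isMin_rg))⁻¹ := by rw [e]; rfl
  rw [e3]
  apply hcl _ (kel_mem_T hT hne hcl hl)
  rw [← e3]
  exact (mem_Sb _).2 ⟨w, hw, hW⟩

lemma PT_all : ∀ w ∈ Q8L, PT T w := by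
  have h1 : PT T one := ⟨1, T.one_mem, WV_one⟩
  have hn : PT T (-one) := ⟨negJ, by
    rw [(QuotientGroup.eq_one_iff negJ).2 negJ_mem_center]; exact T.one_mem, WV_neg⟩
  have hj : PT T (-jU) := PT_conj hT hne hcl (by decide) (by decide) y1_chk
  have hk : PT T kU := PT_conj hT hne hcl (by decide) (by decide) y2_chk
  have hi : PT T (-iU) := by
    have : -iU = mulI (-jU) kU := by decide
    rw [this]; exact hk.mul hj
  have hj' : PT T jU := by
    have : jU = mulI (-one) (-jU) := by decide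
    rw [this]; exact hj.mul hn
  have hk' : PT T (-kU) := by
    have : -kU = mulI (-one) kU := by decide
    rw [this]; exact hk.mul hn
  have hi' : PT T iU := by
    have : iU = mulI (-one) (-iU) := by decide
    rw [this]; exact hi.mul hn
  intro w hw
  simp only [Q8L, List.mem_cons, List.not_mem_nil, or_false] at hw
  rcases hw with rfl | rfl | rfl | rfl | rfl | rfl | rfl | rfl <;> assumption

theorem T_eq_Sb : T = Sb := by
  apply le_antisymm hT
  rintro _ ⟨s, ⟨w, mw, hw⟩, rfl⟩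
  show (QuotientGroup.mk s : J2) ∈ T
  obtain ⟨t, ht, hw'⟩ := PT_all hT hne hcl w mw
  have lt := twoJ2_le_AA t.2
  have h2 : WV (t⁻¹ * s).1 one := by
    have := WV.mul (AA.inv_mem lt) (WV.inv lt hw') hw
    exact this.congr (mulI_conj_self hw.1)
  have e : s = t * (t⁻¹ * s) := by group
  rw [e, QuotientGroup.mk_mul]
  exact T.mul_mem ht (Qb_le_T hT hne hcl ((mem_Qb _).2 ⟨one, Or.inl rfl, h2⟩))

end closed

theorem genHyp_Sb : Cfsg.Agent.Lib.Helper89.GenHyp 2 ⊥ Sb where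
  ne_bot := by
    intro h
    have : zb ∈ (⊥ : Subgroup J2) := h ▸ Qb_le_Sb zb_mem_Qb
    exact zb_ne_one (Subgroup.mem_bot.1 this)
  closed := fun _ hT hne hcl => T_eq_Sb hT hne hcl
  gen := by
    intro n hn
    apply Subgroup.subset_closure
    refine ⟨hn, Qb, Qb_le_Sb, Sb_le_Hb.trans Hbar_le_normalizer, ?_, Hbar_le_X5 (normalizer_Sb_le hn)⟩
    rw [sup_bot_eq]
    intro x hx
    rcases cent_Q hx with rfl | rfl
    · exact Qb.one_mem
    · exact zb_mem_Qb

end Cfsg.Agent.Lib.Helper43.J2
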