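import Cfsg.Agent.Lib.Helper43.J2Simple

set_option autoImplicit false
set_option linter.constructorNameAsVariable false
open Quaternion

namespace Cfsg.Agent.Lib.Helper43.J2
open Cfsg.Spor Q8 V3

/-! ### the multiplier of an element stabilising the line of `(2,0,0)` -/

/-- `g` multiplies the base vector by the unit `w` -/
def WV (g : Equiv.Perm LL) (w : Q8) : Prop := isU w ∧ (g b0).1 = toH w • b0.1

lemma WV.mul {g g' : Equiv.Perm LL} {w w' : Q8} (hg : IsLin g) (h : WV g w) (h' : WV g' w') :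
    WV (g * g') (mulI w' w) :=
  ⟨isU_mulI h'.1 h.1, by
    rw [Equiv.Perm.mul_apply, hg.map_of_eq_smul (toH_mem_icosians h'.1.1) h'.2, h.2, smul_smul,
      toH_mulI' h'.1.1 h.1.1]⟩

lemma WV.inv {g : Equiv.Perm LL} {w : Q8} (hg : IsLin g) (h : WV g w) : WV g⁻¹ (conj w) := by
  refine ⟨isU_conj h.1, ?_⟩
  have h1 := (AA.inv_mem hg : IsLin g⁻¹).map_of_eq_smul (toH_mem_icosians h.1.1) h.2
  rw [perm_inv_apply] at h1
  rw [h1, smul_smul, conj_mul_self h.1, one_smul]

lemma WV_one : WV 1 one := ⟨by decide, by rw [toH_one, one_smul]; rfl⟩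

lemma WV_neg : WV negP (-one) := ⟨by decide, by rw [toH_neg, toH_one, neg_smul, one_smul]; rfl⟩

lemma WV.unique {g : Equiv.Perm LL} {w w' : Q8} (h : WV g w) (h' : WV g w') : w = w' :=
  smul_B0_inj h.1.1 h'.1.1 (h.2.symm.trans h'.2)

lemma WV.congr {g : Equiv.Perm LL} {w w' : Q8} (h : WV g w) (e : w = w') : WV g w' := e ▸ h

lemma exists_WV {w : Q8} (hw : isU w) : ∃ g ∈ twoJ2, WV g w := by
  obtain ⟨_, g, hg, h⟩ := reach_unit hw
  exact ⟨g, hg, hw, h b0 rfl⟩

lemma WV.fix {g : Equiv.Perm LL} (h : WV g Q8.one) : g b0 = b0 :=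
  Subtype.ext (by rw [h.2, toH_one, one_smul])

lemma WV.fixneg {g : Equiv.Perm LL} (h : WV g (-Q8.one)) : g b0 = negP b0 :=
  Subtype.ext (by rw [h.2, toH_neg, toH_one, neg_smul, one_smul]; rfl)

lemma WV_of_fix {g : Equiv.Perm LL} (h : g b0 = b0) : WV g one :=
  ⟨by decide, by rw [h, toH_one, one_smul]⟩

lemma WV_of_fixneg {g : Equiv.Perm LL} (h : g b0 = negP b0) : WV g (-one) :=
  ⟨by decide, by rw [h, toH_neg, toH_one, neg_smul, one_smul]; rfl⟩

lemma WV_cel (W : List Bool) : WV (cel W) (evalU W) := ⟨isU_evalU W, cel_b0 W⟩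

lemma mulI_conj_self {w : Q8} (hw : isU w) : mulI w (conj w) = one := by
  apply toH_injective
  rw [toH_mulI' hw.1 (isU_conj hw).1, self_mul_conj hw, toH_one]

lemma mulI_self_conj {w : Q8} (hw : isU w) : mulI (conj w) w = one := by
  apply toH_injective
  rw [toH_mulI' (isU_conj hw).1 hw.1, conj_mul_self hw, toH_one]

/-- elements stabilising the line are, up to sign, among `60 · 32` listed elements -/
lemma H_decomp {f : Equiv.Perm LL} (fm : f ∈ twoJ2) {w : Q8} (hw : WV f w) :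
    ∃ W ∈ uw60, ∃ l ∈ KW, f = cel W * kel l ∨ f = negP * (cel W * kel l) := by
  have hc := List.all_eq_true.1 uw60_chk w (mem_Ulist.2 hw.1)
  rw [Bool.or_eq_true_iff, List.contains_iff_mem, List.contains_iff_mem, List.mem_map, List.mem_map] at hc
  rcases hc with ⟨W, hW, eW⟩ | ⟨W, hW, eW⟩
  · have fix : ((cel W)⁻¹ * f) b0 = b0 := by
      have : f b0 = cel W b0 := Subtype.ext (by rw [hw.2, cel_b0, eW])
      rw [Equiv.Perm.mul_apply, this, perm_inv_apply]
    obtain ⟨l, hl, el⟩ := exists_kel (twoJ2_le_AA (twoJ2.mul_mem (twoJ2.inv_mem (cel_mem W)) fm)) fix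
    refine ⟨W, hW, l, hl, Or.inl ?_⟩
    rw [el]; group
  · have fix : ((cel W)⁻¹ * (negP * f)) b0 = b0 := by
      have : negP (f b0) = cel W b0 :=
        Subtype.ext (by rw [negP_apply, hw.2, cel_b0, eW, toH_neg, neg_smul])
      rw [Equiv.Perm.mul_apply, Equiv.Perm.mul_apply, this, perm_inv_apply]
    obtain ⟨l, hl, el⟩ := exists_kel (twoJ2_le_AA (twoJ2.mul_mem (twoJ2.inv_mem (cel_mem W))
      (twoJ2.mul_mem negP_mem fm))) fix
    refine ⟨W, hW, l, hl, Or.inr ?_⟩
    have e1 : cel W * kel l = negP * f := by rw [el]; group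
    rw [e1, ← mul_assoc, negP_mul_self, one_mul]

/-! ### canonical forms modulo 311 -/

def canon (x : N4) : Prop := x.a < 311 ∧ x.b < 311 ∧ x.c < 311 ∧ x.d < 311

lemma cast_inj {a b : ℕ} (ha : a < 311) (hb : b < 311) (h : (a : Fp) = (b : Fp)) : a = b := by
  rw [ZMod.natCast_eq_natCast_iff'] at h
  rwa [Nat.mod_eq_of_lt ha, Nat.mod_eq_of_lt hb] at h

lemma toQ_inj {x y : N4} (hx : canon x) (hy : canon y) (h : toQ x = toQ y) : x = y := by
  have h0 := cast_inj hx.1 hy.1 (congrArg QuaternionAlgebra.re h)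
  have h1 := cast_inj hx.2.1 hy.2.1 (congrArg QuaternionAlgebra.imI h)
  have h2 := cast_inj hx.2.2.1 hy.2.2.1 (congrArg QuaternionAlgebra.imJ h)
  have h3 := cast_inj hx.2.2.2 hy.2.2.2 (congrArg QuaternionAlgebra.imK h)
  cases x; cases y
  simp only at h0 h1 h2 h3
  rw [h0, h1, h2, h3]

lemma canon_dot3 (x1 y1 x2 y2 x3 y3 : N4) : canon (dot3 x1 y1 x2 y2 x3 y3) :=
  ⟨Nat.mod_lt _ (by norm_num), Nat.mod_lt _ (by norm_num), Nat.mod_lt _ (by norm_num),
    Nat.mod_lt _ (by norm_num)⟩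

lemma mulN_eq_of_rep {A B A' B' : NM} {M : M3} (h : Rep (mulN A B) M) (h' : Rep (mulN A' B') M) :
    mulN A B = mulN A' B' := by
  obtain ⟨⟨a00, a01, a02⟩, ⟨a10, a11, a12⟩, ⟨a20, a21, a22⟩⟩ := h
  obtain ⟨⟨c00, c01, c02⟩, ⟨c10, c11, c12⟩, ⟨c20, c21, c22⟩⟩ := h'
  have e00 := toQ_inj (canon_dot3 ..) (canon_dot3 ..) (a00.trans c00.symm)
  have e01 := toQ_inj (canon_dot3 ..) (canon_dot3 ..) (a01.trans c01.symm)
  have e02 := toQ_inj (canon_dot3 ..) (canon_dot3 ..) (a02.trans c02.symm)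
  have e10 := toQ_inj (canon_dot3 ..) (canon_dot3 ..) (a10.trans c10.symm)
  have e11 := toQ_inj (canon_dot3 ..) (canon_dot3 ..) (a11.trans c11.symm)
  have e12 := toQ_inj (canon_dot3 ..) (canon_dot3 ..) (a12.trans c12.symm)
  have e20 := toQ_inj (canon_dot3 ..) (canon_dot3 ..) (a20.trans c20.symm)
  have e21 := toQ_inj (canon_dot3 ..) (canon_dot3 ..) (a21.trans c21.symm)
  have e22 := toQ_inj (canon_dot3 ..) (canon_dot3 ..) (a22.trans c22.symm)
  unfold mulN
  rw [e00, e01, e02, e10, e11, e12, e20, e21, e22]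

/-! ### the centraliser of the vector stabiliser -/

def centChk : Bool :=
  uw60.all fun W => KW.all fun l =>
    (decide (W = []) && (decide (l = []) || decide (l = [5, 0]))) ||
    ([[0], [1], [2], [3]].any fun l' =>
      !decide (mulN (NK l') (mulN (NK l) (NC W)) = mulN (mulN (NK l) (NC W)) (NK l')))

theorem centChk_true : centChk = true := by decide +kernel

lemma KW_sub : ∀ l' ∈ [[0], [1], [2], [3]], l' ∈ KW := by decide

lemma cent_of_comm {W : List Bool} (hW : W ∈ uw60) {l : List ℕ} (hl : l ∈ KW)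
    (hc : ∀ l' ∈ KW, cel W * kel l * kel l' = kel l' * (cel W * kel l)) :
    W = [] ∧ (l = [] ∨ l = [5, 0]) := by
  have h := List.all_eq_true.1 (List.all_eq_true.1 centChk_true W hW) l hl
  rw [Bool.or_eq_true_iff] at h
  rcases h with h | h
  · rw [Bool.and_eq_true_iff, Bool.or_eq_true_iff, decide_eq_true_eq, decide_eq_true_eq,
      decide_eq_true_eq] at h
    exact h
  · exfalso
    rw [List.any_eq_true] at h
    obtain ⟨l', hl', hne⟩ := h
    rw [Bool.not_eq_true', decide_eq_false_iff_not] at hne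
    apply hne
    have lc' := twoJ2_le_AA (cel_mem W)
    have lk := twoJ2_le_AA (kel_mem l)
    have lk' := twoJ2_le_AA (kel_mem l')
    have rX : Rep (mulN (NK l) (NC W)) (code (cel W * kel l)) := rep_mul lc' (rep_NC W) (rep_NK l)
    have r1 : Rep (mulN (NK l') (mulN (NK l) (NC W))) (code (cel W * kel l * kel l')) :=
      rep_mul (AA.mul_mem lc' lk) rX (rep_NK l')
    have r2 : Rep (mulN (mulN (NK l) (NC W)) (NK l')) (code (kel l' * (cel W * kel l))) :=
      rep_mul lk' (rep_NK l') rX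
    rw [hc l' (KW_sub l' hl')] at r1
    exact mulN_eq_of_rep r1 r2

end Cfsg.Agent.Lib.Helper43.J2
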