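import Cfsg.Agent.Lib.Helper43.J2Lat

set_option autoImplicit false

namespace Cfsg.Agent.Lib.Helper43.J2

/-- representatives of the 315 lines of minimal vectors -/
def NV : List V3 := [
  ⟨⟨4,0,0,0,0,0,0,0⟩,⟨0,0,0,0,0,0,0,0⟩,⟨0,0,0,0,0,0,0,0⟩⟩,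
  ⟨⟨2,0,0,0,0,0,0,0⟩,⟨-2,0,0,0,0,0,0,0⟩,⟨-1,0,-1,0,1,0,-1,2⟩⟩,
  ⟨⟨2,0,0,0,0,0,0,0⟩,⟨-2,0,0,0,0,0,0,0⟩,⟨-1,0,-1,2,-1,0,1,0⟩⟩,
  ⟨⟨2,0,0,0,0,0,0,0⟩,⟨-2,0,0,0,0,0,0,0⟩,⟨-1,0,1,0,-1,2,-1,0⟩⟩,
  ⟨⟨2,0,0,0,0,0,0,0⟩,⟨-2,0,0,0,0,0,0,0⟩,⟨-1,2,1,0,1,0,1,0⟩⟩,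
  ⟨⟨2,0,0,0,0,0,0,0⟩,⟨-2,0,0,0,0,0,0,0⟩,⟨1,-2,-1,0,-1,0,-1,0⟩⟩,
  ⟨⟨2,0,0,0,0,0,0,0⟩,⟨-2,0,0,0,0,0,0,0⟩,⟨1,0,-1,0,1,-2,1,0⟩⟩,
  ⟨⟨2,0,0,0,0,0,0,0⟩,⟨-2,0,0,0,0,0,0,0⟩,⟨1,0,1,-2,1,0,-1,0⟩⟩,
  ⟨⟨2,0,0,0,0,0,0,0⟩,⟨-2,0,0,0,0,0,0,0⟩,⟨1,0,1,0,-1,0,1,-2⟩⟩,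
  ⟨⟨2,0,0,0,0,0,0,0⟩,⟨-1,0,-1,0,-1,0,1,-2⟩,⟨0,0,-2,0,0,0,0,0⟩⟩,
  ⟨⟨2,0,0,0,0,0,0,0⟩,⟨-1,0,-1,0,-1,0,1,-2⟩,⟨0,0,2,0,0,0,0,0⟩⟩,
  ⟨⟨2,0,0,0,0,0,0,0⟩,⟨-1,0,-1,0,-1,2,1,0⟩,⟨0,0,0,0,-2,0,0,0⟩⟩,
  ⟨⟨2,0,0,0,0,0,0,0⟩,⟨-1,0,-1,0,-1,2,1,0⟩,⟨0,0,0,0,2,0,0,0⟩⟩,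
  ⟨⟨2,0,0,0,0,0,0,0⟩,⟨-1,0,-1,0,1,-2,-1,0⟩,⟨0,0,0,0,0,0,-2,0⟩⟩,
  ⟨⟨2,0,0,0,0,0,0,0⟩,⟨-1,0,-1,0,1,-2,-1,0⟩,⟨0,0,0,0,0,0,2,0⟩⟩,
  ⟨⟨2,0,0,0,0,0,0,0⟩,⟨-1,0,-1,0,1,0,-1,2⟩,⟨-2,0,0,0,0,0,0,0⟩⟩,
  ⟨⟨2,0,0,0,0,0,0,0⟩,⟨-1,0,-1,0,1,0,-1,2⟩,⟨2,0,0,0,0,0,0,0⟩⟩,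
  ⟨⟨2,0,0,0,0,0,0,0⟩,⟨-1,0,-1,2,-1,0,1,0⟩,⟨-2,0,0,0,0,0,0,0⟩⟩,
  ⟨⟨2,0,0,0,0,0,0,0⟩,⟨-1,0,-1,2,-1,0,1,0⟩,⟨2,0,0,0,0,0,0,0⟩⟩,
  ⟨⟨2,0,0,0,0,0,0,0⟩,⟨-1,0,-1,2,1,0,-1,0⟩,⟨0,0,-2,0,0,0,0,0⟩⟩,
  ⟨⟨2,0,0,0,0,0,0,0⟩,⟨-1,0,-1,2,1,0,-1,0⟩,⟨0,0,2,0,0,0,0,0⟩⟩,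
  ⟨⟨2,0,0,0,0,0,0,0⟩,⟨-1,0,1,-2,-1,0,-1,0⟩,⟨0,0,0,0,-2,0,0,0⟩⟩,
  ⟨⟨2,0,0,0,0,0,0,0⟩,⟨-1,0,1,-2,-1,0,-1,0⟩,⟨0,0,0,0,2,0,0,0⟩⟩,
  ⟨⟨2,0,0,0,0,0,0,0⟩,⟨-1,0,1,-2,1,0,1,0⟩,⟨0,0,0,0,0,0,-2,0⟩⟩,
  ⟨⟨2,0,0,0,0,0,0,0⟩,⟨-1,0,1,-2,1,0,1,0⟩,⟨0,0,0,0,0,0,2,0⟩⟩,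
  ⟨⟨2,0,0,0,0,0,0,0⟩,⟨-1,0,1,0,-1,0,-1,2⟩,⟨0,0,0,0,0,0,-2,0⟩⟩,
  ⟨⟨2,0,0,0,0,0,0,0⟩,⟨-1,0,1,0,-1,0,-1,2⟩,⟨0,0,0,0,0,0,2,0⟩⟩,
  ⟨⟨2,0,0,0,0,0,0,0⟩,⟨-1,0,1,0,-1,2,-1,0⟩,⟨-2,0,0,0,0,0,0,0⟩⟩,
  ⟨⟨2,0,0,0,0,0,0,0⟩,⟨-1,0,1,0,-1,2,-1,0⟩,⟨2,0,0,0,0,0,0,0⟩⟩,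
  ⟨⟨2,0,0,0,0,0,0,0⟩,⟨-1,0,1,0,1,-2,1,0⟩,⟨0,0,-2,0,0,0,0,0⟩⟩,
  ⟨⟨2,0,0,0,0,0,0,0⟩,⟨-1,0,1,0,1,-2,1,0⟩,⟨0,0,2,0,0,0,0,0⟩⟩,
  ⟨⟨2,0,0,0,0,0,0,0⟩,⟨-1,0,1,0,1,0,1,-2⟩,⟨0,0,0,0,-2,0,0,0⟩⟩,
  ⟨⟨2,0,0,0,0,0,0,0⟩,⟨-1,0,1,0,1,0,1,-2⟩,⟨0,0,0,0,2,0,0,0⟩⟩,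
  ⟨⟨2,0,0,0,0,0,0,0⟩,⟨-1,1,-1,1,-1,1,-1,1⟩,⟨0,-1,0,1,0,1,0,1⟩⟩,
  ⟨⟨2,0,0,0,0,0,0,0⟩,⟨-1,1,-1,1,-1,1,-1,1⟩,⟨0,1,0,-1,0,-1,0,-1⟩⟩,
  ⟨⟨2,0,0,0,0,0,0,0⟩,⟨-1,1,-1,1,1,-1,1,-1⟩,⟨0,-1,0,-1,0,-1,0,1⟩⟩,
  ⟨⟨2,0,0,0,0,0,0,0⟩,⟨-1,1,-1,1,1,-1,1,-1⟩,⟨0,1,0,1,0,1,0,-1⟩⟩,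
  ⟨⟨2,0,0,0,0,0,0,0⟩,⟨-1,1,1,-1,-1,1,1,-1⟩,⟨0,-1,0,1,0,-1,0,-1⟩⟩,
  ⟨⟨2,0,0,0,0,0,0,0⟩,⟨-1,1,1,-1,-1,1,1,-1⟩,⟨0,1,0,-1,0,1,0,1⟩⟩,
  ⟨⟨2,0,0,0,0,0,0,0⟩,⟨-1,1,1,-1,1,-1,-1,1⟩,⟨0,-1,0,-1,0,1,0,-1⟩⟩,
  ⟨⟨2,0,0,0,0,0,0,0⟩,⟨-1,1,1,-1,1,-1,-1,1⟩,⟨0,1,0,1,0,-1,0,1⟩⟩,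
  ⟨⟨2,0,0,0,0,0,0,0⟩,⟨-1,2,-1,0,-1,0,1,0⟩,⟨0,0,0,0,0,0,-2,0⟩⟩,
  ⟨⟨2,0,0,0,0,0,0,0⟩,⟨-1,2,-1,0,-1,0,1,0⟩,⟨0,0,0,0,0,0,2,0⟩⟩,
  ⟨⟨2,0,0,0,0,0,0,0⟩,⟨-1,2,-1,0,1,0,-1,0⟩,⟨0,0,0,0,-2,0,0,0⟩⟩,
  ⟨⟨2,0,0,0,0,0,0,0⟩,⟨-1,2,-1,0,1,0,-1,0⟩,⟨0,0,0,0,2,0,0,0⟩⟩,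
  ⟨⟨2,0,0,0,0,0,0,0⟩,⟨-1,2,1,0,-1,0,-1,0⟩,⟨0,0,-2,0,0,0,0,0⟩⟩,
  ⟨⟨2,0,0,0,0,0,0,0⟩,⟨-1,2,1,0,-1,0,-1,0⟩,⟨0,0,2,0,0,0,0,0⟩⟩,
  ⟨⟨2,0,0,0,0,0,0,0⟩,⟨-1,2,1,0,1,0,1,0⟩,⟨-2,0,0,0,0,0,0,0⟩⟩,
  ⟨⟨2,0,0,0,0,0,0,0⟩,⟨-1,2,1,0,1,0,1,0⟩,⟨2,0,0,0,0,0,0,0⟩⟩,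
  ⟨⟨2,0,0,0,0,0,0,0⟩,⟨0,-1,0,-1,0,-1,0,1⟩,⟨-1,1,-1,1,1,-1,1,-1⟩⟩,
  ⟨⟨2,0,0,0,0,0,0,0⟩,⟨0,-1,0,-1,0,-1,0,1⟩,⟨1,-1,1,-1,-1,1,-1,1⟩⟩,
  ⟨⟨2,0,0,0,0,0,0,0⟩,⟨0,-1,0,-1,0,1,0,-1⟩,⟨-1,1,1,-1,1,-1,-1,1⟩⟩,
  ⟨⟨2,0,0,0,0,0,0,0⟩,⟨0,-1,0,-1,0,1,0,-1⟩,⟨1,-1,-1,1,-1,1,1,-1⟩⟩,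
  ⟨⟨2,0,0,0,0,0,0,0⟩,⟨0,-1,0,1,0,-1,0,-1⟩,⟨-1,1,1,-1,-1,1,1,-1⟩⟩,
  ⟨⟨2,0,0,0,0,0,0,0⟩,⟨0,-1,0,1,0,-1,0,-1⟩,⟨1,-1,-1,1,1,-1,-1,1⟩⟩,
  ⟨⟨2,0,0,0,0,0,0,0⟩,⟨0,-1,0,1,0,1,0,1⟩,⟨-1,1,-1,1,-1,1,-1,1⟩⟩,
  ⟨⟨2,0,0,0,0,0,0,0⟩,⟨0,-1,0,1,0,1,0,1⟩,⟨1,-1,1,-1,1,-1,1,-1⟩⟩,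
  ⟨⟨2,0,0,0,0,0,0,0⟩,⟨0,0,-2,0,0,0,0,0⟩,⟨-1,0,-1,0,-1,0,1,-2⟩⟩,
  ⟨⟨2,0,0,0,0,0,0,0⟩,⟨0,0,-2,0,0,0,0,0⟩,⟨-1,0,-1,2,1,0,-1,0⟩⟩,
  ⟨⟨2,0,0,0,0,0,0,0⟩,⟨0,0,-2,0,0,0,0,0⟩,⟨-1,0,1,0,1,-2,1,0⟩⟩,
  ⟨⟨2,0,0,0,0,0,0,0⟩,⟨0,0,-2,0,0,0,0,0⟩,⟨-1,2,1,0,-1,0,-1,0⟩⟩,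
  ⟨⟨2,0,0,0,0,0,0,0⟩,⟨0,0,-2,0,0,0,0,0⟩,⟨1,-2,-1,0,1,0,1,0⟩⟩,
  ⟨⟨2,0,0,0,0,0,0,0⟩,⟨0,0,-2,0,0,0,0,0⟩,⟨1,0,-1,0,-1,2,-1,0⟩⟩,
  ⟨⟨2,0,0,0,0,0,0,0⟩,⟨0,0,-2,0,0,0,0,0⟩,⟨1,0,1,-2,-1,0,1,0⟩⟩,
  ⟨⟨2,0,0,0,0,0,0,0⟩,⟨0,0,-2,0,0,0,0,0⟩,⟨1,0,1,0,1,0,-1,2⟩⟩,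
  ⟨⟨2,0,0,0,0,0,0,0⟩,⟨0,0,0,0,-2,0,0,0⟩,⟨-1,0,-1,0,-1,2,1,0⟩⟩,
  ⟨⟨2,0,0,0,0,0,0,0⟩,⟨0,0,0,0,-2,0,0,0⟩,⟨-1,0,1,-2,-1,0,-1,0⟩⟩,
  ⟨⟨2,0,0,0,0,0,0,0⟩,⟨0,0,0,0,-2,0,0,0⟩,⟨-1,0,1,0,1,0,1,-2⟩⟩,
  ⟨⟨2,0,0,0,0,0,0,0⟩,⟨0,0,0,0,-2,0,0,0⟩,⟨-1,2,-1,0,1,0,-1,0⟩⟩,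
  ⟨⟨2,0,0,0,0,0,0,0⟩,⟨0,0,0,0,-2,0,0,0⟩,⟨1,-2,1,0,-1,0,1,0⟩⟩,
  ⟨⟨2,0,0,0,0,0,0,0⟩,⟨0,0,0,0,-2,0,0,0⟩,⟨1,0,-1,0,-1,0,-1,2⟩⟩,
  ⟨⟨2,0,0,0,0,0,0,0⟩,⟨0,0,0,0,-2,0,0,0⟩,⟨1,0,-1,2,1,0,1,0⟩⟩,
  ⟨⟨2,0,0,0,0,0,0,0⟩,⟨0,0,0,0,-2,0,0,0⟩,⟨1,0,1,0,1,-2,-1,0⟩⟩,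
  ⟨⟨2,0,0,0,0,0,0,0⟩,⟨0,0,0,0,0,0,-2,0⟩,⟨-1,0,-1,0,1,-2,-1,0⟩⟩,
  ⟨⟨2,0,0,0,0,0,0,0⟩,⟨0,0,0,0,0,0,-2,0⟩,⟨-1,0,1,-2,1,0,1,0⟩⟩,
  ⟨⟨2,0,0,0,0,0,0,0⟩,⟨0,0,0,0,0,0,-2,0⟩,⟨-1,0,1,0,-1,0,-1,2⟩⟩,
  ⟨⟨2,0,0,0,0,0,0,0⟩,⟨0,0,0,0,0,0,-2,0⟩,⟨-1,2,-1,0,-1,0,1,0⟩⟩,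
  ⟨⟨2,0,0,0,0,0,0,0⟩,⟨0,0,0,0,0,0,-2,0⟩,⟨1,-2,1,0,1,0,-1,0⟩⟩,
  ⟨⟨2,0,0,0,0,0,0,0⟩,⟨0,0,0,0,0,0,-2,0⟩,⟨1,0,-1,0,1,0,1,-2⟩⟩,
  ⟨⟨2,0,0,0,0,0,0,0⟩,⟨0,0,0,0,0,0,-2,0⟩,⟨1,0,-1,2,-1,0,-1,0⟩⟩,
  ⟨⟨2,0,0,0,0,0,0,0⟩,⟨0,0,0,0,0,0,-2,0⟩,⟨1,0,1,0,-1,2,1,0⟩⟩,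
  ⟨⟨2,0,0,0,0,0,0,0⟩,⟨0,0,0,0,0,0,2,0⟩,⟨-1,0,-1,0,1,-2,-1,0⟩⟩,
  ⟨⟨2,0,0,0,0,0,0,0⟩,⟨0,0,0,0,0,0,2,0⟩,⟨-1,0,1,-2,1,0,1,0⟩⟩,
  ⟨⟨2,0,0,0,0,0,0,0⟩,⟨0,0,0,0,0,0,2,0⟩,⟨-1,0,1,0,-1,0,-1,2⟩⟩,
  ⟨⟨2,0,0,0,0,0,0,0⟩,⟨0,0,0,0,0,0,2,0⟩,⟨-1,2,-1,0,-1,0,1,0⟩⟩,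
  ⟨⟨2,0,0,0,0,0,0,0⟩,⟨0,0,0,0,0,0,2,0⟩,⟨1,-2,1,0,1,0,-1,0⟩⟩,
  ⟨⟨2,0,0,0,0,0,0,0⟩,⟨0,0,0,0,0,0,2,0⟩,⟨1,0,-1,0,1,0,1,-2⟩⟩,
  ⟨⟨2,0,0,0,0,0,0,0⟩,⟨0,0,0,0,0,0,2,0⟩,⟨1,0,-1,2,-1,0,-1,0⟩⟩,
  ⟨⟨2,0,0,0,0,0,0,0⟩,⟨0,0,0,0,0,0,2,0⟩,⟨1,0,1,0,-1,2,1,0⟩⟩,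
  ⟨⟨2,0,0,0,0,0,0,0⟩,⟨0,0,0,0,2,0,0,0⟩,⟨-1,0,-1,0,-1,2,1,0⟩⟩,
  ⟨⟨2,0,0,0,0,0,0,0⟩,⟨0,0,0,0,2,0,0,0⟩,⟨-1,0,1,-2,-1,0,-1,0⟩⟩,
  ⟨⟨2,0,0,0,0,0,0,0⟩,⟨0,0,0,0,2,0,0,0⟩,⟨-1,0,1,0,1,0,1,-2⟩⟩,
  ⟨⟨2,0,0,0,0,0,0,0⟩,⟨0,0,0,0,2,0,0,0⟩,⟨-1,2,-1,0,1,0,-1,0⟩⟩,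
  ⟨⟨2,0,0,0,0,0,0,0⟩,⟨0,0,0,0,2,0,0,0⟩,⟨1,-2,1,0,-1,0,1,0⟩⟩,
  ⟨⟨2,0,0,0,0,0,0,0⟩,⟨0,0,0,0,2,0,0,0⟩,⟨1,0,-1,0,-1,0,-1,2⟩⟩,
  ⟨⟨2,0,0,0,0,0,0,0⟩,⟨0,0,0,0,2,0,0,0⟩,⟨1,0,-1,2,1,0,1,0⟩⟩,
  ⟨⟨2,0,0,0,0,0,0,0⟩,⟨0,0,0,0,2,0,0,0⟩,⟨1,0,1,0,1,-2,-1,0⟩⟩,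
  ⟨⟨2,0,0,0,0,0,0,0⟩,⟨0,0,2,0,0,0,0,0⟩,⟨-1,0,-1,0,-1,0,1,-2⟩⟩,
  ⟨⟨2,0,0,0,0,0,0,0⟩,⟨0,0,2,0,0,0,0,0⟩,⟨-1,0,-1,2,1,0,-1,0⟩⟩,
  ⟨⟨2,0,0,0,0,0,0,0⟩,⟨0,0,2,0,0,0,0,0⟩,⟨-1,0,1,0,1,-2,1,0⟩⟩,
  ⟨⟨2,0,0,0,0,0,0,0⟩,⟨0,0,2,0,0,0,0,0⟩,⟨-1,2,1,0,-1,0,-1,0⟩⟩,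
  ⟨⟨2,0,0,0,0,0,0,0⟩,⟨0,0,2,0,0,0,0,0⟩,⟨1,-2,-1,0,1,0,1,0⟩⟩,
  ⟨⟨2,0,0,0,0,0,0,0⟩,⟨0,0,2,0,0,0,0,0⟩,⟨1,0,-1,0,-1,2,-1,0⟩⟩,
  ⟨⟨2,0,0,0,0,0,0,0⟩,⟨0,0,2,0,0,0,0,0⟩,⟨1,0,1,-2,-1,0,1,0⟩⟩,
  ⟨⟨2,0,0,0,0,0,0,0⟩,⟨0,0,2,0,0,0,0,0⟩,⟨1,0,1,0,1,0,-1,2⟩⟩,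
  ⟨⟨2,0,0,0,0,0,0,0⟩,⟨0,1,0,-1,0,-1,0,-1⟩,⟨-1,1,-1,1,-1,1,-1,1⟩⟩,
  ⟨⟨2,0,0,0,0,0,0,0⟩,⟨0,1,0,-1,0,-1,0,-1⟩,⟨1,-1,1,-1,1,-1,1,-1⟩⟩,
  ⟨⟨2,0,0,0,0,0,0,0⟩,⟨0,1,0,-1,0,1,0,1⟩,⟨-1,1,1,-1,-1,1,1,-1⟩⟩,
  ⟨⟨2,0,0,0,0,0,0,0⟩,⟨0,1,0,-1,0,1,0,1⟩,⟨1,-1,-1,1,1,-1,-1,1⟩⟩,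
  ⟨⟨2,0,0,0,0,0,0,0⟩,⟨0,1,0,1,0,-1,0,1⟩,⟨-1,1,1,-1,1,-1,-1,1⟩⟩,
  ⟨⟨2,0,0,0,0,0,0,0⟩,⟨0,1,0,1,0,-1,0,1⟩,⟨1,-1,-1,1,-1,1,1,-1⟩⟩,
  ⟨⟨2,0,0,0,0,0,0,0⟩,⟨0,1,0,1,0,1,0,-1⟩,⟨-1,1,-1,1,1,-1,1,-1⟩⟩,
  ⟨⟨2,0,0,0,0,0,0,0⟩,⟨0,1,0,1,0,1,0,-1⟩,⟨1,-1,1,-1,-1,1,-1,1⟩⟩,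
  ⟨⟨2,0,0,0,0,0,0,0⟩,⟨1,-2,-1,0,-1,0,-1,0⟩,⟨-2,0,0,0,0,0,0,0⟩⟩,
  ⟨⟨2,0,0,0,0,0,0,0⟩,⟨1,-2,-1,0,-1,0,-1,0⟩,⟨2,0,0,0,0,0,0,0⟩⟩,
  ⟨⟨2,0,0,0,0,0,0,0⟩,⟨1,-2,-1,0,1,0,1,0⟩,⟨0,0,-2,0,0,0,0,0⟩⟩,
  ⟨⟨2,0,0,0,0,0,0,0⟩,⟨1,-2,-1,0,1,0,1,0⟩,⟨0,0,2,0,0,0,0,0⟩⟩,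
  ⟨⟨2,0,0,0,0,0,0,0⟩,⟨1,-2,1,0,-1,0,1,0⟩,⟨0,0,0,0,-2,0,0,0⟩⟩,
  ⟨⟨2,0,0,0,0,0,0,0⟩,⟨1,-2,1,0,-1,0,1,0⟩,⟨0,0,0,0,2,0,0,0⟩⟩,
  ⟨⟨2,0,0,0,0,0,0,0⟩,⟨1,-2,1,0,1,0,-1,0⟩,⟨0,0,0,0,0,0,-2,0⟩⟩,
  ⟨⟨2,0,0,0,0,0,0,0⟩,⟨1,-2,1,0,1,0,-1,0⟩,⟨0,0,0,0,0,0,2,0⟩⟩,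
  ⟨⟨2,0,0,0,0,0,0,0⟩,⟨1,-1,-1,1,-1,1,1,-1⟩,⟨0,-1,0,-1,0,1,0,-1⟩⟩,
  ⟨⟨2,0,0,0,0,0,0,0⟩,⟨1,-1,-1,1,-1,1,1,-1⟩,⟨0,1,0,1,0,-1,0,1⟩⟩,
  ⟨⟨2,0,0,0,0,0,0,0⟩,⟨1,-1,-1,1,1,-1,-1,1⟩,⟨0,-1,0,1,0,-1,0,-1⟩⟩,
  ⟨⟨2,0,0,0,0,0,0,0⟩,⟨1,-1,-1,1,1,-1,-1,1⟩,⟨0,1,0,-1,0,1,0,1⟩⟩,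
  ⟨⟨2,0,0,0,0,0,0,0⟩,⟨1,-1,1,-1,-1,1,-1,1⟩,⟨0,-1,0,-1,0,-1,0,1⟩⟩,
  ⟨⟨2,0,0,0,0,0,0,0⟩,⟨1,-1,1,-1,-1,1,-1,1⟩,⟨0,1,0,1,0,1,0,-1⟩⟩,
  ⟨⟨2,0,0,0,0,0,0,0⟩,⟨1,-1,1,-1,1,-1,1,-1⟩,⟨0,-1,0,1,0,1,0,1⟩⟩,
  ⟨⟨2,0,0,0,0,0,0,0⟩,⟨1,-1,1,-1,1,-1,1,-1⟩,⟨0,1,0,-1,0,-1,0,-1⟩⟩,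
  ⟨⟨2,0,0,0,0,0,0,0⟩,⟨1,0,-1,0,-1,0,-1,2⟩,⟨0,0,0,0,-2,0,0,0⟩⟩,
  ⟨⟨2,0,0,0,0,0,0,0⟩,⟨1,0,-1,0,-1,0,-1,2⟩,⟨0,0,0,0,2,0,0,0⟩⟩,
  ⟨⟨2,0,0,0,0,0,0,0⟩,⟨1,0,-1,0,-1,2,-1,0⟩,⟨0,0,-2,0,0,0,0,0⟩⟩,
  ⟨⟨2,0,0,0,0,0,0,0⟩,⟨1,0,-1,0,-1,2,-1,0⟩,⟨0,0,2,0,0,0,0,0⟩⟩,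
  ⟨⟨2,0,0,0,0,0,0,0⟩,⟨1,0,-1,0,1,-2,1,0⟩,⟨-2,0,0,0,0,0,0,0⟩⟩,
  ⟨⟨2,0,0,0,0,0,0,0⟩,⟨1,0,-1,0,1,-2,1,0⟩,⟨2,0,0,0,0,0,0,0⟩⟩,
  ⟨⟨2,0,0,0,0,0,0,0⟩,⟨1,0,-1,0,1,0,1,-2⟩,⟨0,0,0,0,0,0,-2,0⟩⟩,
  ⟨⟨2,0,0,0,0,0,0,0⟩,⟨1,0,-1,0,1,0,1,-2⟩,⟨0,0,0,0,0,0,2,0⟩⟩,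
  ⟨⟨2,0,0,0,0,0,0,0⟩,⟨1,0,-1,2,-1,0,-1,0⟩,⟨0,0,0,0,0,0,-2,0⟩⟩,
  ⟨⟨2,0,0,0,0,0,0,0⟩,⟨1,0,-1,2,-1,0,-1,0⟩,⟨0,0,0,0,0,0,2,0⟩⟩,
  ⟨⟨2,0,0,0,0,0,0,0⟩,⟨1,0,-1,2,1,0,1,0⟩,⟨0,0,0,0,-2,0,0,0⟩⟩,
  ⟨⟨2,0,0,0,0,0,0,0⟩,⟨1,0,-1,2,1,0,1,0⟩,⟨0,0,0,0,2,0,0,0⟩⟩,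
  ⟨⟨2,0,0,0,0,0,0,0⟩,⟨1,0,1,-2,-1,0,1,0⟩,⟨0,0,-2,0,0,0,0,0⟩⟩,
  ⟨⟨2,0,0,0,0,0,0,0⟩,⟨1,0,1,-2,-1,0,1,0⟩,⟨0,0,2,0,0,0,0,0⟩⟩,
  ⟨⟨2,0,0,0,0,0,0,0⟩,⟨1,0,1,-2,1,0,-1,0⟩,⟨-2,0,0,0,0,0,0,0⟩⟩,
  ⟨⟨2,0,0,0,0,0,0,0⟩,⟨1,0,1,-2,1,0,-1,0⟩,⟨2,0,0,0,0,0,0,0⟩⟩,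
  ⟨⟨2,0,0,0,0,0,0,0⟩,⟨1,0,1,0,-1,0,1,-2⟩,⟨-2,0,0,0,0,0,0,0⟩⟩,
  ⟨⟨2,0,0,0,0,0,0,0⟩,⟨1,0,1,0,-1,0,1,-2⟩,⟨2,0,0,0,0,0,0,0⟩⟩,
  ⟨⟨2,0,0,0,0,0,0,0⟩,⟨1,0,1,0,-1,2,1,0⟩,⟨0,0,0,0,0,0,-2,0⟩⟩,
  ⟨⟨2,0,0,0,0,0,0,0⟩,⟨1,0,1,0,-1,2,1,0⟩,⟨0,0,0,0,0,0,2,0⟩⟩,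
  ⟨⟨2,0,0,0,0,0,0,0⟩,⟨1,0,1,0,1,-2,-1,0⟩,⟨0,0,0,0,-2,0,0,0⟩⟩,
  ⟨⟨2,0,0,0,0,0,0,0⟩,⟨1,0,1,0,1,-2,-1,0⟩,⟨0,0,0,0,2,0,0,0⟩⟩,
  ⟨⟨2,0,0,0,0,0,0,0⟩,⟨1,0,1,0,1,0,-1,2⟩,⟨0,0,-2,0,0,0,0,0⟩⟩,
  ⟨⟨2,0,0,0,0,0,0,0⟩,⟨1,0,1,0,1,0,-1,2⟩,⟨0,0,2,0,0,0,0,0⟩⟩,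
  ⟨⟨2,0,0,0,0,0,0,0⟩,⟨2,0,0,0,0,0,0,0⟩,⟨-1,0,-1,0,1,0,-1,2⟩⟩,
  ⟨⟨2,0,0,0,0,0,0,0⟩,⟨2,0,0,0,0,0,0,0⟩,⟨-1,0,-1,2,-1,0,1,0⟩⟩,
  ⟨⟨2,0,0,0,0,0,0,0⟩,⟨2,0,0,0,0,0,0,0⟩,⟨-1,0,1,0,-1,2,-1,0⟩⟩,
  ⟨⟨2,0,0,0,0,0,0,0⟩,⟨2,0,0,0,0,0,0,0⟩,⟨-1,2,1,0,1,0,1,0⟩⟩,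
  ⟨⟨2,0,0,0,0,0,0,0⟩,⟨2,0,0,0,0,0,0,0⟩,⟨1,-2,-1,0,-1,0,-1,0⟩⟩,
  ⟨⟨2,0,0,0,0,0,0,0⟩,⟨2,0,0,0,0,0,0,0⟩,⟨1,0,-1,0,1,-2,1,0⟩⟩,
  ⟨⟨2,0,0,0,0,0,0,0⟩,⟨2,0,0,0,0,0,0,0⟩,⟨1,0,1,-2,1,0,-1,0⟩⟩,
  ⟨⟨2,0,0,0,0,0,0,0⟩,⟨2,0,0,0,0,0,0,0⟩,⟨1,0,1,0,-1,0,1,-2⟩⟩,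
  ⟨⟨-1,0,-1,0,-1,0,1,-2⟩,⟨2,0,0,0,0,0,0,0⟩,⟨0,0,-2,0,0,0,0,0⟩⟩,
  ⟨⟨-1,0,-1,0,-1,2,1,0⟩,⟨2,0,0,0,0,0,0,0⟩,⟨0,0,0,0,2,0,0,0⟩⟩,
  ⟨⟨-1,0,-1,0,1,0,-1,2⟩,⟨2,0,0,0,0,0,0,0⟩,⟨2,0,0,0,0,0,0,0⟩⟩,
  ⟨⟨-1,0,-1,2,-1,0,1,0⟩,⟨2,0,0,0,0,0,0,0⟩,⟨-2,0,0,0,0,0,0,0⟩⟩,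
  ⟨⟨-1,0,-1,2,1,0,-1,0⟩,⟨2,0,0,0,0,0,0,0⟩,⟨0,0,-2,0,0,0,0,0⟩⟩,
  ⟨⟨-1,0,1,-2,-1,0,-1,0⟩,⟨2,0,0,0,0,0,0,0⟩,⟨0,0,0,0,-2,0,0,0⟩⟩,
  ⟨⟨-1,0,1,0,-1,2,-1,0⟩,⟨2,0,0,0,0,0,0,0⟩,⟨-2,0,0,0,0,0,0,0⟩⟩,
  ⟨⟨-1,0,1,0,1,-2,1,0⟩,⟨2,0,0,0,0,0,0,0⟩,⟨0,0,2,0,0,0,0,0⟩⟩,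
  ⟨⟨-1,0,1,0,1,0,1,-2⟩,⟨2,0,0,0,0,0,0,0⟩,⟨0,0,0,0,2,0,0,0⟩⟩,
  ⟨⟨-1,1,-1,1,-1,1,-1,1⟩,⟨2,0,0,0,0,0,0,0⟩,⟨0,-1,0,1,0,1,0,1⟩⟩,
  ⟨⟨-1,1,-1,1,1,-1,-1,1⟩,⟨0,2,0,0,0,0,0,0⟩,⟨-1,0,1,0,1,0,-1,0⟩⟩,
  ⟨⟨-1,1,-1,1,1,-1,-1,1⟩,⟨0,2,0,0,0,0,0,0⟩,⟨1,0,-1,0,-1,0,1,0⟩⟩,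
  ⟨⟨-1,1,-1,1,1,-1,1,-1⟩,⟨2,0,0,0,0,0,0,0⟩,⟨0,-1,0,-1,0,-1,0,1⟩⟩,
  ⟨⟨-1,1,1,-1,-1,1,-1,1⟩,⟨0,2,0,0,0,0,0,0⟩,⟨-1,0,1,0,-1,0,1,0⟩⟩,
  ⟨⟨-1,1,1,-1,-1,1,-1,1⟩,⟨0,2,0,0,0,0,0,0⟩,⟨1,0,-1,0,1,0,-1,0⟩⟩,
  ⟨⟨-1,1,1,-1,-1,1,1,-1⟩,⟨2,0,0,0,0,0,0,0⟩,⟨0,1,0,-1,0,1,0,1⟩⟩,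
  ⟨⟨-1,1,1,-1,1,-1,-1,1⟩,⟨2,0,0,0,0,0,0,0⟩,⟨0,1,0,1,0,-1,0,1⟩⟩,
  ⟨⟨-1,1,1,-1,1,-1,1,-1⟩,⟨0,2,0,0,0,0,0,0⟩,⟨-1,0,-1,0,-1,0,-1,0⟩⟩,
  ⟨⟨-1,1,1,-1,1,-1,1,-1⟩,⟨0,2,0,0,0,0,0,0⟩,⟨1,0,1,0,1,0,1,0⟩⟩,
  ⟨⟨-1,2,-1,0,-1,0,1,0⟩,⟨2,0,0,0,0,0,0,0⟩,⟨0,0,0,0,0,0,-2,0⟩⟩,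
  ⟨⟨-1,2,-1,0,1,0,-1,0⟩,⟨2,0,0,0,0,0,0,0⟩,⟨0,0,0,0,2,0,0,0⟩⟩,
  ⟨⟨-1,2,1,0,-1,0,-1,0⟩,⟨2,0,0,0,0,0,0,0⟩,⟨0,0,-2,0,0,0,0,0⟩⟩,
  ⟨⟨-1,2,1,0,1,0,1,0⟩,⟨2,0,0,0,0,0,0,0⟩,⟨-2,0,0,0,0,0,0,0⟩⟩,
  ⟨⟨0,0,0,0,0,0,0,0⟩,⟨1,-2,1,0,1,0,1,0⟩,⟨-1,0,-1,0,1,-2,1,0⟩⟩,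
  ⟨⟨0,0,0,0,0,0,0,0⟩,⟨1,-2,1,0,1,0,1,0⟩,⟨-1,2,-1,0,-1,0,-1,0⟩⟩,
  ⟨⟨0,0,0,0,0,0,0,0⟩,⟨1,-2,1,0,1,0,1,0⟩,⟨1,0,-1,2,-1,0,1,0⟩⟩,
  ⟨⟨0,0,0,0,0,0,0,0⟩,⟨4,0,0,0,0,0,0,0⟩,⟨0,0,0,0,0,0,0,0⟩⟩,
  ⟨⟨0,2,0,0,0,0,0,0⟩,⟨-1,0,-1,0,-1,0,-1,0⟩,⟨-1,1,1,-1,1,-1,1,-1⟩⟩,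
  ⟨⟨0,2,0,0,0,0,0,0⟩,⟨-1,0,-1,0,1,0,1,0⟩,⟨-1,1,-1,1,-1,1,1,-1⟩⟩,
  ⟨⟨0,2,0,0,0,0,0,0⟩,⟨-1,0,1,0,-1,0,1,0⟩,⟨1,-1,-1,1,1,-1,1,-1⟩⟩,
  ⟨⟨0,2,0,0,0,0,0,0⟩,⟨-1,0,1,0,1,0,-1,0⟩,⟨-1,1,-1,1,1,-1,-1,1⟩⟩,
  ⟨⟨0,2,0,0,0,0,0,0⟩,⟨-1,1,-1,1,1,-1,-1,1⟩,⟨-1,0,1,0,1,0,-1,0⟩⟩,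
  ⟨⟨0,2,0,0,0,0,0,0⟩,⟨-1,1,-1,1,1,-1,-1,1⟩,⟨1,0,-1,0,-1,0,1,0⟩⟩,
  ⟨⟨0,2,0,0,0,0,0,0⟩,⟨-1,1,1,-1,-1,1,-1,1⟩,⟨-1,0,1,0,-1,0,1,0⟩⟩,
  ⟨⟨0,2,0,0,0,0,0,0⟩,⟨-1,1,1,-1,-1,1,-1,1⟩,⟨1,0,-1,0,1,0,-1,0⟩⟩,
  ⟨⟨0,2,0,0,0,0,0,0⟩,⟨-1,1,1,-1,1,-1,1,-1⟩,⟨-1,0,-1,0,-1,0,-1,0⟩⟩,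
  ⟨⟨0,2,0,0,0,0,0,0⟩,⟨-1,1,1,-1,1,-1,1,-1⟩,⟨1,0,1,0,1,0,1,0⟩⟩,
  ⟨⟨0,2,0,0,0,0,0,0⟩,⟨1,-1,-1,1,-1,1,-1,1⟩,⟨-1,0,-1,0,-1,0,-1,0⟩⟩,
  ⟨⟨0,2,0,0,0,0,0,0⟩,⟨1,-1,-1,1,1,-1,1,-1⟩,⟨1,0,-1,0,1,0,-1,0⟩⟩,
  ⟨⟨0,2,0,0,0,0,0,0⟩,⟨1,-1,1,-1,-1,1,1,-1⟩,⟨-1,0,1,0,1,0,-1,0⟩⟩,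
  ⟨⟨0,2,0,0,0,0,0,0⟩,⟨1,0,-1,0,-1,0,1,0⟩,⟨-1,1,-1,1,1,-1,-1,1⟩⟩,
  ⟨⟨0,2,0,0,0,0,0,0⟩,⟨1,0,-1,0,1,0,-1,0⟩,⟨-1,1,1,-1,-1,1,-1,1⟩⟩,
  ⟨⟨0,2,0,0,0,0,0,0⟩,⟨1,0,1,0,-1,0,-1,0⟩,⟨1,-1,1,-1,1,-1,-1,1⟩⟩,
  ⟨⟨0,2,0,0,0,0,0,0⟩,⟨1,0,1,0,1,0,1,0⟩,⟨1,-1,-1,1,-1,1,-1,1⟩⟩,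
  ⟨⟨1,-2,-1,0,-1,0,-1,0⟩,⟨2,0,0,0,0,0,0,0⟩,⟨-2,0,0,0,0,0,0,0⟩⟩,
  ⟨⟨1,-2,-1,0,1,0,1,0⟩,⟨2,0,0,0,0,0,0,0⟩,⟨0,0,-2,0,0,0,0,0⟩⟩,
  ⟨⟨1,-2,1,0,-1,0,1,0⟩,⟨2,0,0,0,0,0,0,0⟩,⟨0,0,0,0,2,0,0,0⟩⟩,
  ⟨⟨1,-2,1,0,1,0,-1,0⟩,⟨2,0,0,0,0,0,0,0⟩,⟨0,0,0,0,0,0,2,0⟩⟩,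
  ⟨⟨1,-2,1,0,1,0,1,0⟩,⟨-1,0,-1,0,1,-2,1,0⟩,⟨0,0,0,0,0,0,0,0⟩⟩,
  ⟨⟨1,-2,1,0,1,0,1,0⟩,⟨-1,0,1,-2,1,0,-1,0⟩,⟨0,0,0,0,0,0,0,0⟩⟩,
  ⟨⟨1,-2,1,0,1,0,1,0⟩,⟨-1,0,1,0,-1,0,1,-2⟩,⟨0,0,0,0,0,0,0,0⟩⟩,
  ⟨⟨1,-2,1,0,1,0,1,0⟩,⟨0,0,0,0,0,0,0,0⟩,⟨-1,0,1,-2,1,0,-1,0⟩⟩,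
  ⟨⟨1,-2,1,0,1,0,1,0⟩,⟨0,0,0,0,0,0,0,0⟩,⟨1,-2,1,0,1,0,1,0⟩⟩,
  ⟨⟨1,-2,1,0,1,0,1,0⟩,⟨0,0,0,0,0,0,0,0⟩,⟨1,0,1,0,-1,2,-1,0⟩⟩,
  ⟨⟨1,-2,1,0,1,0,1,0⟩,⟨1,0,-1,0,1,0,-1,2⟩,⟨0,0,0,0,0,0,0,0⟩⟩,
  ⟨⟨1,-2,1,0,1,0,1,0⟩,⟨1,0,-1,2,-1,0,1,0⟩,⟨0,0,0,0,0,0,0,0⟩⟩,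
  ⟨⟨1,-2,1,0,1,0,1,0⟩,⟨1,0,1,0,-1,2,-1,0⟩,⟨0,0,0,0,0,0,0,0⟩⟩,
  ⟨⟨1,-1,-1,1,-1,1,-1,1⟩,⟨0,2,0,0,0,0,0,0⟩,⟨1,0,1,0,1,0,1,0⟩⟩,
  ⟨⟨1,-1,-1,1,-1,1,1,-1⟩,⟨2,0,0,0,0,0,0,0⟩,⟨0,-1,0,-1,0,1,0,-1⟩⟩,
  ⟨⟨1,-1,-1,1,1,-1,-1,1⟩,⟨2,0,0,0,0,0,0,0⟩,⟨0,1,0,-1,0,1,0,1⟩⟩,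
  ⟨⟨1,-1,-1,1,1,-1,1,-1⟩,⟨0,2,0,0,0,0,0,0⟩,⟨-1,0,1,0,-1,0,1,0⟩⟩,
  ⟨⟨1,-1,1,-1,-1,1,-1,1⟩,⟨2,0,0,0,0,0,0,0⟩,⟨0,-1,0,-1,0,-1,0,1⟩⟩,
  ⟨⟨1,-1,1,-1,-1,1,1,-1⟩,⟨0,2,0,0,0,0,0,0⟩,⟨1,0,-1,0,-1,0,1,0⟩⟩,
  ⟨⟨1,-1,1,-1,1,-1,1,-1⟩,⟨2,0,0,0,0,0,0,0⟩,⟨0,-1,0,1,0,1,0,1⟩⟩,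
  ⟨⟨1,0,-1,0,-1,0,-1,2⟩,⟨2,0,0,0,0,0,0,0⟩,⟨0,0,0,0,-2,0,0,0⟩⟩,
  ⟨⟨1,0,-1,0,-1,0,-1,2⟩,⟨2,0,0,0,0,0,0,0⟩,⟨0,0,0,0,2,0,0,0⟩⟩,
  ⟨⟨1,0,-1,0,1,-2,1,0⟩,⟨2,0,0,0,0,0,0,0⟩,⟨-2,0,0,0,0,0,0,0⟩⟩,
  ⟨⟨1,0,-1,0,1,-2,1,0⟩,⟨2,0,0,0,0,0,0,0⟩,⟨2,0,0,0,0,0,0,0⟩⟩,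
  ⟨⟨1,0,-1,0,1,0,1,-2⟩,⟨2,0,0,0,0,0,0,0⟩,⟨0,0,0,0,0,0,-2,0⟩⟩,
  ⟨⟨1,0,-1,0,1,0,1,-2⟩,⟨2,0,0,0,0,0,0,0⟩,⟨0,0,0,0,0,0,2,0⟩⟩,
  ⟨⟨1,0,-1,2,-1,0,-1,0⟩,⟨2,0,0,0,0,0,0,0⟩,⟨0,0,0,0,0,0,-2,0⟩⟩,
  ⟨⟨1,0,-1,2,-1,0,-1,0⟩,⟨2,0,0,0,0,0,0,0⟩,⟨0,0,0,0,0,0,2,0⟩⟩,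
  ⟨⟨1,0,1,-2,-1,0,1,0⟩,⟨2,0,0,0,0,0,0,0⟩,⟨0,0,-2,0,0,0,0,0⟩⟩,
  ⟨⟨1,0,1,-2,-1,0,1,0⟩,⟨2,0,0,0,0,0,0,0⟩,⟨0,0,2,0,0,0,0,0⟩⟩,
  ⟨⟨1,0,1,-2,1,0,-1,0⟩,⟨2,0,0,0,0,0,0,0⟩,⟨-2,0,0,0,0,0,0,0⟩⟩,
  ⟨⟨1,0,1,-2,1,0,-1,0⟩,⟨2,0,0,0,0,0,0,0⟩,⟨2,0,0,0,0,0,0,0⟩⟩,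
  ⟨⟨1,0,1,0,-1,2,1,0⟩,⟨2,0,0,0,0,0,0,0⟩,⟨0,0,0,0,0,0,-2,0⟩⟩,
  ⟨⟨1,0,1,0,-1,2,1,0⟩,⟨2,0,0,0,0,0,0,0⟩,⟨0,0,0,0,0,0,2,0⟩⟩,
  ⟨⟨1,0,1,0,1,-2,-1,0⟩,⟨2,0,0,0,0,0,0,0⟩,⟨0,0,0,0,-2,0,0,0⟩⟩,
  ⟨⟨1,0,1,0,1,-2,-1,0⟩,⟨2,0,0,0,0,0,0,0⟩,⟨0,0,0,0,2,0,0,0⟩⟩,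
  ⟨⟨1,0,1,0,1,0,-1,2⟩,⟨2,0,0,0,0,0,0,0⟩,⟨0,0,-2,0,0,0,0,0⟩⟩,
  ⟨⟨1,0,1,0,1,0,-1,2⟩,⟨2,0,0,0,0,0,0,0⟩,⟨0,0,2,0,0,0,0,0⟩⟩,
  ⟨⟨-1,0,-1,0,-1,2,1,0⟩,⟨2,0,0,0,0,0,0,0⟩,⟨0,0,0,0,-2,0,0,0⟩⟩,
  ⟨⟨-1,0,-1,0,1,-2,-1,0⟩,⟨2,0,0,0,0,0,0,0⟩,⟨0,0,0,0,0,0,-2,0⟩⟩,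
  ⟨⟨-1,0,-1,0,1,0,-1,2⟩,⟨2,0,0,0,0,0,0,0⟩,⟨-2,0,0,0,0,0,0,0⟩⟩,
  ⟨⟨-1,0,-1,2,-1,0,1,0⟩,⟨2,0,0,0,0,0,0,0⟩,⟨2,0,0,0,0,0,0,0⟩⟩,
  ⟨⟨-1,0,1,-2,1,0,1,0⟩,⟨2,0,0,0,0,0,0,0⟩,⟨0,0,0,0,0,0,2,0⟩⟩,
  ⟨⟨-1,0,1,0,-1,0,-1,2⟩,⟨2,0,0,0,0,0,0,0⟩,⟨0,0,0,0,0,0,2,0⟩⟩,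
  ⟨⟨-1,1,-1,1,-1,1,1,-1⟩,⟨0,2,0,0,0,0,0,0⟩,⟨-1,0,-1,0,1,0,1,0⟩⟩,
  ⟨⟨-1,1,-1,1,-1,1,1,-1⟩,⟨0,2,0,0,0,0,0,0⟩,⟨1,0,1,0,-1,0,-1,0⟩⟩,
  ⟨⟨-1,1,-1,1,1,-1,1,-1⟩,⟨2,0,0,0,0,0,0,0⟩,⟨0,1,0,1,0,1,0,-1⟩⟩,
  ⟨⟨-1,1,1,-1,-1,1,1,-1⟩,⟨2,0,0,0,0,0,0,0⟩,⟨0,-1,0,1,0,-1,0,-1⟩⟩,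
  ⟨⟨-1,2,-1,0,-1,0,1,0⟩,⟨2,0,0,0,0,0,0,0⟩,⟨0,0,0,0,0,0,2,0⟩⟩,
  ⟨⟨-1,2,-1,0,1,0,-1,0⟩,⟨2,0,0,0,0,0,0,0⟩,⟨0,0,0,0,-2,0,0,0⟩⟩,
  ⟨⟨0,0,0,0,0,0,0,0⟩,⟨1,-2,1,0,1,0,1,0⟩,⟨-1,0,1,0,-1,0,1,-2⟩⟩,
  ⟨⟨0,0,0,0,0,0,0,0⟩,⟨1,-2,1,0,1,0,1,0⟩,⟨1,0,1,0,-1,2,-1,0⟩⟩,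
  ⟨⟨0,2,0,0,0,0,0,0⟩,⟨-1,0,1,0,-1,0,1,0⟩,⟨-1,1,1,-1,-1,1,-1,1⟩⟩,
  ⟨⟨0,2,0,0,0,0,0,0⟩,⟨-1,0,1,0,1,0,-1,0⟩,⟨1,-1,1,-1,-1,1,1,-1⟩⟩,
  ⟨⟨0,2,0,0,0,0,0,0⟩,⟨-1,1,-1,1,-1,1,1,-1⟩,⟨-1,0,-1,0,1,0,1,0⟩⟩,
  ⟨⟨0,2,0,0,0,0,0,0⟩,⟨-1,1,-1,1,-1,1,1,-1⟩,⟨1,0,1,0,-1,0,-1,0⟩⟩,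
  ⟨⟨0,2,0,0,0,0,0,0⟩,⟨1,-1,1,-1,-1,1,1,-1⟩,⟨1,0,-1,0,-1,0,1,0⟩⟩,
  ⟨⟨0,2,0,0,0,0,0,0⟩,⟨1,-1,1,-1,1,-1,-1,1⟩,⟨-1,0,-1,0,1,0,1,0⟩⟩,
  ⟨⟨0,2,0,0,0,0,0,0⟩,⟨1,0,-1,0,1,0,-1,0⟩,⟨1,-1,-1,1,1,-1,1,-1⟩⟩,
  ⟨⟨0,2,0,0,0,0,0,0⟩,⟨1,0,1,0,-1,0,-1,0⟩,⟨-1,1,-1,1,-1,1,1,-1⟩⟩,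
  ⟨⟨1,-2,-1,0,1,0,1,0⟩,⟨2,0,0,0,0,0,0,0⟩,⟨0,0,2,0,0,0,0,0⟩⟩,
  ⟨⟨1,-2,1,0,-1,0,1,0⟩,⟨2,0,0,0,0,0,0,0⟩,⟨0,0,0,0,-2,0,0,0⟩⟩,
  ⟨⟨1,-2,1,0,1,0,1,0⟩,⟨0,0,0,0,0,0,0,0⟩,⟨-1,0,-1,0,1,-2,1,0⟩⟩,
  ⟨⟨1,-2,1,0,1,0,1,0⟩,⟨0,0,0,0,0,0,0,0⟩,⟨1,0,-1,0,1,0,-1,2⟩⟩,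
  ⟨⟨1,-1,-1,1,-1,1,1,-1⟩,⟨2,0,0,0,0,0,0,0⟩,⟨0,1,0,1,0,-1,0,1⟩⟩,
  ⟨⟨1,-1,-1,1,1,-1,-1,1⟩,⟨2,0,0,0,0,0,0,0⟩,⟨0,-1,0,1,0,-1,0,-1⟩⟩,
  ⟨⟨1,-1,1,-1,-1,1,1,-1⟩,⟨0,2,0,0,0,0,0,0⟩,⟨-1,0,1,0,1,0,-1,0⟩⟩,
  ⟨⟨1,-1,1,-1,1,-1,-1,1⟩,⟨0,2,0,0,0,0,0,0⟩,⟨1,0,1,0,-1,0,-1,0⟩⟩,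
  ⟨⟨1,0,-1,0,-1,2,-1,0⟩,⟨2,0,0,0,0,0,0,0⟩,⟨0,0,-2,0,0,0,0,0⟩⟩,
  ⟨⟨1,0,-1,0,-1,2,-1,0⟩,⟨2,0,0,0,0,0,0,0⟩,⟨0,0,2,0,0,0,0,0⟩⟩,
  ⟨⟨1,0,-1,2,1,0,1,0⟩,⟨2,0,0,0,0,0,0,0⟩,⟨0,0,0,0,-2,0,0,0⟩⟩,
  ⟨⟨1,0,-1,2,1,0,1,0⟩,⟨2,0,0,0,0,0,0,0⟩,⟨0,0,0,0,2,0,0,0⟩⟩,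
  ⟨⟨1,0,1,0,-1,0,1,-2⟩,⟨2,0,0,0,0,0,0,0⟩,⟨-2,0,0,0,0,0,0,0⟩⟩,
  ⟨⟨1,0,1,0,-1,0,1,-2⟩,⟨2,0,0,0,0,0,0,0⟩,⟨2,0,0,0,0,0,0,0⟩⟩,
  ⟨⟨-1,0,-1,2,1,0,-1,0⟩,⟨2,0,0,0,0,0,0,0⟩,⟨0,0,2,0,0,0,0,0⟩⟩,
  ⟨⟨-1,0,1,0,-1,0,-1,2⟩,⟨2,0,0,0,0,0,0,0⟩,⟨0,0,0,0,0,0,-2,0⟩⟩,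
  ⟨⟨-1,0,1,0,-1,2,-1,0⟩,⟨2,0,0,0,0,0,0,0⟩,⟨2,0,0,0,0,0,0,0⟩⟩,
  ⟨⟨-1,1,1,-1,1,-1,-1,1⟩,⟨2,0,0,0,0,0,0,0⟩,⟨0,-1,0,-1,0,1,0,-1⟩⟩,
  ⟨⟨-1,2,1,0,-1,0,-1,0⟩,⟨2,0,0,0,0,0,0,0⟩,⟨0,0,2,0,0,0,0,0⟩⟩,
  ⟨⟨0,0,0,0,0,0,0,0⟩,⟨1,-2,1,0,1,0,1,0⟩,⟨-1,0,1,-2,1,0,-1,0⟩⟩,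
  ⟨⟨0,0,0,0,0,0,0,0⟩,⟨1,-2,1,0,1,0,1,0⟩,⟨1,0,-1,0,1,0,-1,2⟩⟩,
  ⟨⟨0,2,0,0,0,0,0,0⟩,⟨-1,0,-1,0,1,0,1,0⟩,⟨1,-1,1,-1,1,-1,-1,1⟩⟩,
  ⟨⟨0,2,0,0,0,0,0,0⟩,⟨1,-1,-1,1,1,-1,1,-1⟩,⟨-1,0,1,0,-1,0,1,0⟩⟩,
  ⟨⟨0,2,0,0,0,0,0,0⟩,⟨1,-1,1,-1,1,-1,-1,1⟩,⟨1,0,1,0,-1,0,-1,0⟩⟩,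
  ⟨⟨0,2,0,0,0,0,0,0⟩,⟨1,0,-1,0,-1,0,1,0⟩,⟨1,-1,1,-1,-1,1,1,-1⟩⟩,
  ⟨⟨1,-2,1,0,1,0,-1,0⟩,⟨2,0,0,0,0,0,0,0⟩,⟨0,0,0,0,0,0,-2,0⟩⟩,
  ⟨⟨1,-2,1,0,1,0,1,0⟩,⟨0,0,0,0,0,0,0,0⟩,⟨-1,0,1,0,-1,0,1,-2⟩⟩,
  ⟨⟨1,-2,1,0,1,0,1,0⟩,⟨0,0,0,0,0,0,0,0⟩,⟨1,0,-1,2,-1,0,1,0⟩⟩,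
  ⟨⟨1,-1,-1,1,1,-1,1,-1⟩,⟨0,2,0,0,0,0,0,0⟩,⟨1,0,-1,0,1,0,-1,0⟩⟩,
  ⟨⟨1,-1,1,-1,-1,1,-1,1⟩,⟨2,0,0,0,0,0,0,0⟩,⟨0,1,0,1,0,1,0,-1⟩⟩,
  ⟨⟨1,-1,1,-1,1,-1,-1,1⟩,⟨0,2,0,0,0,0,0,0⟩,⟨-1,0,-1,0,1,0,1,0⟩⟩,
  ⟨⟨-1,0,-1,0,-1,0,1,-2⟩,⟨2,0,0,0,0,0,0,0⟩,⟨0,0,2,0,0,0,0,0⟩⟩,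
  ⟨⟨-1,0,-1,0,1,-2,-1,0⟩,⟨2,0,0,0,0,0,0,0⟩,⟨0,0,0,0,0,0,2,0⟩⟩,
  ⟨⟨-1,0,1,-2,-1,0,-1,0⟩,⟨2,0,0,0,0,0,0,0⟩,⟨0,0,0,0,2,0,0,0⟩⟩,
  ⟨⟨-1,1,-1,1,-1,1,-1,1⟩,⟨2,0,0,0,0,0,0,0⟩,⟨0,1,0,-1,0,-1,0,-1⟩⟩,
  ⟨⟨0,2,0,0,0,0,0,0⟩,⟨1,0,1,0,1,0,1,0⟩,⟨-1,1,1,-1,1,-1,1,-1⟩⟩,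
  ⟨⟨1,-2,-1,0,-1,0,-1,0⟩,⟨2,0,0,0,0,0,0,0⟩,⟨2,0,0,0,0,0,0,0⟩⟩,
  ⟨⟨-1,0,1,-2,1,0,1,0⟩,⟨2,0,0,0,0,0,0,0⟩,⟨0,0,0,0,0,0,-2,0⟩⟩,
  ⟨⟨-1,0,1,0,1,-2,1,0⟩,⟨2,0,0,0,0,0,0,0⟩,⟨0,0,-2,0,0,0,0,0⟩⟩,
  ⟨⟨-1,0,1,0,1,0,1,-2⟩,⟨2,0,0,0,0,0,0,0⟩,⟨0,0,0,0,-2,0,0,0⟩⟩,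
  ⟨⟨-1,2,1,0,1,0,1,0⟩,⟨2,0,0,0,0,0,0,0⟩,⟨2,0,0,0,0,0,0,0⟩⟩,
  ⟨⟨0,2,0,0,0,0,0,0⟩,⟨-1,0,-1,0,-1,0,-1,0⟩,⟨1,-1,-1,1,-1,1,-1,1⟩⟩,
  ⟨⟨1,-1,1,-1,1,-1,1,-1⟩,⟨2,0,0,0,0,0,0,0⟩,⟨0,1,0,-1,0,-1,0,-1⟩⟩,
  ⟨⟨0,0,0,0,0,0,0,0⟩,⟨1,-2,1,0,1,0,1,0⟩,⟨1,-2,1,0,1,0,1,0⟩⟩,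
  ⟨⟨0,2,0,0,0,0,0,0⟩,⟨1,-1,-1,1,-1,1,-1,1⟩,⟨1,0,1,0,1,0,1,0⟩⟩,
  ⟨⟨1,-2,1,0,1,0,1,0⟩,⟨0,0,0,0,0,0,0,0⟩,⟨-1,2,-1,0,-1,0,-1,0⟩⟩,
  ⟨⟨1,-1,-1,1,-1,1,-1,1⟩,⟨0,2,0,0,0,0,0,0⟩,⟨-1,0,-1,0,-1,0,-1,0⟩⟩,
  ⟨⟨0,0,0,0,0,0,0,0⟩,⟨0,0,0,0,0,0,0,0⟩,⟨4,0,0,0,0,0,0,0⟩⟩,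
  ⟨⟨1,-2,1,0,1,0,1,0⟩,⟨1,-2,1,0,1,0,1,0⟩,⟨0,0,0,0,0,0,0,0⟩⟩,
  ⟨⟨1,-2,1,0,1,0,1,0⟩,⟨-1,2,-1,0,-1,0,-1,0⟩,⟨0,0,0,0,0,0,0,0⟩⟩]

end Cfsg.Agent.Lib.Helper43.J2
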