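import Cfsg.Agent.Lib.Helper43.J2Sub

set_option autoImplicit false
set_option linter.constructorNameAsVariable false
open Quaternion

namespace Cfsg.Agent.Lib.Helper43.J2
open Cfsg.Spor Q8 V3

/-! ### typed suborbit certificates -/

def TYPH : List ℕ := [0, 1, 1, 1, 1, 1, 1, 1, 1, 1, 1, 1, 1, 1, 1, 1, 1, 1, 1, 1, 1, 1, 1, 1, 1, 1, 1, 1, 1, 1, 1, 1, 1, 1, 1, 1, 1, 1, 1, 1, 1, 1, 1, 1, 1, 1, 1, 1, 1, 1, 1, 1, 1, 1, 1, 1, 1, 1, 1, 1, 1, 1, 1, 1, 1, 1, 1, 1, 1, 1, 1, 1, 1, 1, 1, 1, 1, 1, 1, 1, 1, 1, 1, 1, 1, 1, 1, 1, 1, 1, 1, 1, 1, 1, 1, 1, 1, 1, 1, 1, 1, 1, 1, 1, 1, 1, 1, 1, 1, 1, 1, 1, 1, 1, 1, 1, 1, 1, 1, 1, 1, 1, 1, 1, 1, 1, 1, 1, 1, 1, 1, 1, 1, 1, 1, 1, 1, 1, 1, 1, 1, 1, 1, 1, 1, 1, 1, 1, 1, 1, 1, 1, 1, 1, 1, 1, 1, 1, 1, 1, 1, 2, 2, 2, 2, 2, 2, 2, 2, 2, 3, 3, 3, 3, 3, 3, 3, 3, 3, 3, 2, 2, 2, 2, 4, 4, 4, 4, 5, 5, 5, 5, 5, 5, 5, 5, 5, 5, 5, 5, 5, 5, 5, 5, 5, 2, 2, 2, 2, 2, 2, 2, 2, 2, 2, 2, 2, 2, 3, 3, 3, 3, 3, 3, 3, 2, 2,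 2, 2, 2, 2, 2, 2, 2, 2, 2, 2, 2, 2, 2, 2, 2, 2, 2, 2, 2, 2, 2, 2, 3, 3, 3, 3, 2, 2, 4, 4, 5, 5, 5, 5, 5, 5, 5, 5, 2, 2, 2, 2, 3, 3, 3, 3, 2, 2, 2, 2, 2, 2, 2, 2, 2, 3, 2, 4, 4, 5, 5, 5, 5, 2, 2, 2, 3, 3, 3, 2, 2, 2, 3, 5, 2, 2, 2, 2, 2, 5, 3, 4, 5, 2, 3, 4, 2, 2]

def stepChkT (i : ℕ) : Bool :=
  decide (TYPH.getD i 9 < 6) &&
  (if DEPH.getD i 0 = 0 then decide (TYPH.getD i 9 = GENH.getD i 0)
   else decide (TYPH.getD i 9 = TYPH.getD (PARH.getD i 0) 9))

theorem stepChkT_all : ((List.range 315).all stepChkT) = true := by decide +kernel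

lemma lt_of_getElem? {i : ℕ} {r : V3} (hr : NV[i]? = some r) : i < 315 := by
  rw [← NV_len]
  exact (List.getElem?_eq_some_iff.1 hr).1

lemma TYPH_lt {i : ℕ} {r : V3} (hr : NV[i]? = some r) : TYPH.getD i 9 < 6 := by
  have h := List.all_eq_true.1 stepChkT_all i (List.mem_range.2 (lt_of_getElem? hr))
  unfold stepChkT at h
  rw [Bool.and_eq_true_iff, decide_eq_true_eq] at h
  exact h.1

theorem subOK_typ : ∀ d i : ℕ, DEPH.getD i 0 = d → ∀ r, NV[i]? = some r →
    ∃ h, InH h ∧ SL (h (mk' r)) (tel (TYPH.getD i 9) b0) := by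
  intro d
  induction d using Nat.strong_induction_on with
  | _ d ih =>
    intro i hd r hr
    have hi : i < 315 := lt_of_getElem? hr
    have h := List.all_eq_true.1 stepChk_all i (List.mem_range.2 hi)
    have ht := List.all_eq_true.1 stepChkT_all i (List.mem_range.2 hi)
    have mr := isMin_of_mem_NV (List.mem_of_getElem? hr)
    unfold stepChk at h
    unfold stepChkT at ht
    rw [Bool.and_eq_true_iff] at ht
    replace ht := ht.2
    rw [hr] at h
    simp only at h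
    by_cases h0 : DEPH.getD i 0 = 0
    · rw [if_pos h0, Bool.and_eq_true_iff, decide_eq_true_eq] at h
      rw [if_pos h0, decide_eq_true_eq] at ht
      refine ⟨1, InH.one, SL_of_slB ?_⟩
      rw [Equiv.Perm.one_apply, cd_mk' mr.1, tel, cd_evalR (nvw_isMin _), cd_b0, ht]
      exact h.1
    · rw [if_neg h0, Bool.and_eq_true_iff, decide_eq_true_eq] at h
      rw [if_neg h0, decide_eq_true_eq] at ht
      obtain ⟨h1, h2⟩ := h
      cases e : NV[PARH.getD i 0]? with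
      | none => rw [e] at h2; exact absurd h2 (by simp)
      | some s =>
        rw [e] at h2
        simp only at h2
        have ms := isMin_of_mem_NV (List.mem_of_getElem? e)
        obtain ⟨h', a', sl⟩ := ih _ (hd ▸ h1) _ rfl s e
        obtain ⟨gm, ga⟩ := hgen_spec (GENH.getD i 0)
        refine ⟨h' * evalR (hgen (GENH.getD i 0)), a'.mul ga, ?_⟩
        rw [Equiv.Perm.mul_apply, ht]
        refine (SL.map (twoJ2_le_AA a'.1) (y := mk' s) (SL_of_slB ?_)).trans sl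
        rw [cd_evalR gm, cd_mk' mr.1, cd_mk' ms.1]
        exact h2

/-! ### reflections attached to lattice vectors -/

abbrev Mn (x : LL) : Prop := qip x.1 x.1 = 4

lemma Mn.map {g : Equiv.Perm LL} (hg : IsLin g) {x : LL} (hx : Mn x) : Mn (g x) := by
  unfold Mn; rw [hg.2]; exact hx

lemma Mn_b0 : Mn b0 := qip_b0

lemma Mn_mk' {v : V3} (hv : isMin v) : Mn (mk' v) := by
  unfold Mn
  rw [← toV_cd (mk' v), cd_mk' hv.1]
  exact qip_self_of_isMin hv

noncomputable def rl (x : LL) : Equiv.Perm LL := RF (cd x)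

lemma rl_eq {x : LL} (hx : Mn x) : rl x = reflP x.1 x.2 hx := by
  apply Equiv.ext
  intro y
  apply Subtype.ext
  rw [rl, RF_apply (isMin_cd hx), reflP_apply, toV_cd]

lemma rl_mem {x : LL} (hx : Mn x) : rl x ∈ twoJ2 := RF_mem (isMin_cd hx)

lemma rl_conj {g : Equiv.Perm LL} (hg : IsLin g) {x : LL} (hx : Mn x) :
    g * rl x * g⁻¹ = rl (g x) := by
  rw [rl_eq hx, rl_eq (hx.map hg)]
  exact conj_reflP hg x hx

lemma rl_SL {x y : LL} (h : SL x y) (hy : Mn y) : rl x = rl y := by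
  obtain ⟨c, hc, e⟩ := h
  have : cd x = smul c (cd y) := by
    apply cd_eq
    rw [e, toV_smul' hc.1 (cd_in y), toV_cd]
  rw [rl, this, RF_smul hc (isMin_cd hy)]
  rfl

lemma rl_mul_self {x : LL} (hx : Mn x) : rl x * rl x = 1 := by
  rw [rl_eq hx]
  apply Equiv.ext
  intro y
  apply Subtype.ext
  rw [Equiv.Perm.mul_apply, reflP_apply, reflP_apply, qrefl_qrefl hx]
  rfl

lemma rl_inv {x : LL} (hx : Mn x) : (rl x)⁻¹ = rl x := inv_eq_of_mul_eq_one_left (rl_mul_self hx)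

lemma Mn_of_SL {x y : LL} (h : SL x y) (hy : Mn y) : Mn x := by
  obtain ⟨c, hc, e⟩ := h
  unfold Mn at *
  rw [e, qip_smul_left, qip_smul_right, hy, four_eq, Quaternion.coe_mul_eq_smul, mul_smul_comm,
    self_mul_star_of_isU hc, ← Quaternion.coe_mul_eq_smul, mul_one]

lemma Mn_tel (j : ℕ) : Mn (tel j b0) := Mn.map (twoJ2_le_AA (tel_mem j)) Mn_b0

def triChk3 (a c d : ℕ) : Bool :=
  match NV[a]?, NV[c]?, NV[d]? with
  | some x, some y, some z => decide (codeW [x, y, z] = nI3)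
  | _, _, _ => false

def chainChk (j a i' : ℕ) : Bool :=
  match NV[a]?, NV[i']? with
  | some x, some r' => slB (actW (nvw (TWI.getD j [])) x) r'
  | _, _ => false

theorem t1_chk : triChk3 1 8 313 = true := by decide +kernel
theorem t2_chk : triChk3 161 241 284 = true := by decide +kernel
theorem t4_chk : triChk3 184 256 0 = true := by decide +kernel
theorem c3_chk : chainChk 3 170 310 = true := by decide +kernel
theorem c5_chk : chainChk 5 188 310 = true := by decide +kernel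

lemma tel_zero : tel 0 = 1 := rfl

/-! ### normal subgroups -/

section
variable (Nh : Subgroup (Equiv.Perm LL))

/-- the product of the two reflections lies in `Nh` -/
def DD (x y : LL) : Prop := rl x * rl y ∈ Nh

variable {Nh}
variable (hconj : ∀ t ∈ twoJ2, ∀ g ∈ Nh, t * g * t⁻¹ ∈ Nh)
include hconj

lemma DD.map {x y : LL} (hx : Mn x) (hy : Mn y) (h : DD Nh x y) {t : Equiv.Perm LL} (ht : t ∈ twoJ2) :
    DD Nh (t x) (t y) := by
  have lt := twoJ2_le_AA ht
  have := hconj t ht _ h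
  unfold DD
  rw [← rl_conj lt hx, ← rl_conj lt hy]
  have e : t * rl x * t⁻¹ * (t * rl y * t⁻¹) = t * (rl x * rl y) * t⁻¹ := by group
  rw [e]; exact this

omit hconj in
lemma DD.congr {x y x' y' : LL} (hx : Mn x) (hy : Mn y) (h : DD Nh x y) (sx : SL x' x) (sy : SL y' y) :
    DD Nh x' y' := by
  unfold DD
  rw [rl_SL sx hx, rl_SL sy hy]; exact h

omit hconj in
lemma DD.symm {x y : LL} (hx : Mn x) (hy : Mn y) (h : DD Nh x y) : DD Nh y x := by
  have := Nh.inv_mem h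
  rw [mul_inv_rev, rl_inv hx, rl_inv hy] at this
  exact this

omit hconj in
lemma DD.comb {x y z : LL} (hy : Mn y) (hz : Mn z) (h1 : DD Nh x y) (h2 : DD Nh z y) : DD Nh x z := by
  have := Nh.mul_mem h1 (DD.symm hz hy h2)
  have e : rl x * rl y * (rl y * rl z) = rl x * (rl y * rl y) * rl z := by group
  rw [e, rl_mul_self hy, mul_one] at this
  exact this

/-- the pair of type `j` -/
def AJ (Nh : Subgroup (Equiv.Perm LL)) (j : ℕ) : Prop := DD Nh (tel j b0) b0

lemma AJ_of_DD {s : LL} {i : ℕ} {r : V3} (hr : NV[i]? = some r) (sl : SL s (mk' r)) (h : DD Nh s b0) :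
    AJ Nh (TYPH.getD i 9) := by
  have mr := isMin_of_mem_NV (List.mem_of_getElem? hr)
  have ms : Mn s := Mn_of_SL sl (Mn_mk' mr)
  obtain ⟨t, ⟨tm, tb⟩, ts⟩ := subOK_typ _ i rfl r hr
  have lt := twoJ2_le_AA tm
  have h1 := DD.map hconj ms Mn_b0 h tm
  exact DD.congr (ms.map lt) (Mn_b0.map lt) h1 (((SL.map lt sl).trans ts).symm) tb.symm

lemma DD_of_AJ {i : ℕ} {r : V3} (hr : NV[i]? = some r) (h : AJ Nh (TYPH.getD i 9)) :
    DD Nh (mk' r) b0 := by
  have mr := isMin_of_mem_NV (List.mem_of_getElem? hr)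
  obtain ⟨t, ⟨tm, tb⟩, ts⟩ := subOK_typ _ i rfl r hr
  have tm' := twoJ2.inv_mem tm
  have lt := twoJ2_le_AA tm'
  have h1 := DD.map hconj (Mn_tel _) Mn_b0 h tm'
  refine DD.congr ((Mn_tel _).map lt) (Mn_b0.map lt) h1 ?_ ?_
  · have := SL.map lt ts
    rwa [perm_inv_apply] at this
  · have := SL.map lt tb
    rwa [perm_inv_apply] at this

lemma le_of_RF_mem {d : V3} (hd : isMin d) (h : RF d ∈ Nh) : twoJ2 ≤ Nh := by
  unfold twoJ2
  rw [Subgroup.closure_le]
  intro f hf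
  obtain ⟨g, hg, e⟩ := refl_conj hf
  obtain ⟨g', hg', e'⟩ := refl_conj (RF_isRefl hd)
  have h0 : RF B0 ∈ Nh := e' ▸ hconj g' hg' _ h
  have : f = g⁻¹ * RF B0 * (g⁻¹)⁻¹ := by rw [← e]; group
  rw [this]
  exact hconj _ (twoJ2.inv_mem hg) _ h0

omit hconj in
lemma rl_mk' {v : V3} (hv : isMin v) : rl (mk' v) = RF v := by rw [rl, cd_mk' hv.1]

lemma term (hneg : negP ∈ Nh) {j a c d : ℕ} (ha : TYPH.getD a 9 = j) (hc : TYPH.getD c 9 = j)
    (h : triChk3 a c d = true) (hA : AJ Nh j) : twoJ2 ≤ Nh := by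
  unfold triChk3 at h
  cases ea : NV[a]? with
  | none => rw [ea] at h; exact absurd h (by simp)
  | some x =>
    cases ec : NV[c]? with
    | none => rw [ea, ec] at h; exact absurd h (by simp)
    | some y =>
      cases ed : NV[d]? with
      | none => rw [ea, ec, ed] at h; exact absurd h (by simp)
      | some z =>
        rw [ea, ec, ed] at h
        simp only [decide_eq_true_eq] at h
        have mx := isMin_of_mem_NV (List.mem_of_getElem? ea)
        have my := isMin_of_mem_NV (List.mem_of_getElem? ec)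
        have mz := isMin_of_mem_NV (List.mem_of_getElem? ed)
        have d1 := DD_of_AJ hconj ea (ha ▸ hA)
        have d2 := DD_of_AJ hconj ec (hc ▸ hA)
        have d3 : rl (mk' x) * rl (mk' y) ∈ Nh := DD.comb Mn_b0 (Mn_mk' my) d1 d2
        rw [rl_mk' mx, rl_mk' my] at d3
        have hm : ∀ r ∈ [x, y, z], isMin r := by
          intro r hr
          simp only [List.mem_cons, List.not_mem_nil, or_false] at hr
          rcases hr with rfl | rfl | rfl
          exacts [mx, my, mz]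
        have e1 : evalR [x, y, z] = negP :=
          code_inj (twoJ2_le_AA (evalR_mem hm)) negP_isLin (by rw [code_evalR hm, h, code_negP])
        have e2 : evalR [x, y, z] = RF x * RF y * RF z := by simp [evalR, mul_assoc]
        have e3 : RF z = (RF x * RF y)⁻¹ * negP := by rw [← e1, e2]; group
        exact le_of_RF_mem hconj mz (e3 ▸ Nh.mul_mem (Nh.inv_mem d3) hneg)

lemma chain {j a i' : ℕ} (ha : TYPH.getD a 9 = j) (h : chainChk j a i' = true) (hA : AJ Nh j) :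
    AJ Nh (TYPH.getD i' 9) := by
  unfold chainChk at h
  cases ea : NV[a]? with
  | none => rw [ea] at h; exact absurd h (by simp)
  | some x =>
    cases ei : NV[i']? with
    | none => rw [ea, ei] at h; exact absurd h (by simp)
    | some r' =>
      rw [ea, ei] at h
      simp only at h
      have mx := isMin_of_mem_NV (List.mem_of_getElem? ea)
      have mr := isMin_of_mem_NV (List.mem_of_getElem? ei)
      have d1 := DD_of_AJ hconj ea (ha ▸ hA)
      have d2 := DD.map hconj (Mn_mk' mx) Mn_b0 d1 (tel_mem j)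
      have d3 : DD Nh b0 (tel j b0) := DD.symm (Mn_tel j) Mn_b0 hA
      have d4 := DD.comb (Mn_tel j) Mn_b0 d2 d3
      refine AJ_of_DD hconj ei (SL_of_slB ?_) d4
      rw [tel, cd_evalR (nvw_isMin _), cd_mk' mx.1, cd_mk' mr.1]
      exact h

/-- a normal subgroup of the reflection group containing `-1` and a non-central element is everything -/
theorem normal_top (hneg : negP ∈ Nh) {g : Equiv.Perm LL} (hg : g ∈ Nh) (hgm : g ∈ twoJ2) (h1 : g ≠ 1)
    (h2 : g ≠ negP) : twoJ2 ≤ Nh := by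
  have lg := twoJ2_le_AA hgm
  -- some line is moved
  have hex : ∃ y : LL, Mn y ∧ ¬ SL (g y) y := by
    by_contra hcon
    push Not at hcon
    have hc : twoJ2 ≤ Subgroup.centralizer {g} := by
      unfold twoJ2
      rw [Subgroup.closure_le]
      intro f hf
      obtain ⟨r, hr, h4, rfl⟩ := (isIcoReflection_iff f).1 hf
      have hx : Mn (⟨r, hr⟩ : LL) := h4
      rw [SetLike.mem_coe, Subgroup.mem_centralizer_iff]
      intro k hk
      rw [Set.mem_singleton_iff] at hk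
      subst hk
      have e1 := rl_conj lg hx
      rw [rl_SL (hcon _ hx) hx, rl_eq hx] at e1
      have e2 : k * reflP r hr h4 = k * reflP r hr h4 * k⁻¹ * k := by group
      rw [e2]
      exact congrArg (· * k) e1
    rcases central_eq lg (fun t ht => ((Subgroup.mem_centralizer_iff.1 (hc ht)) g rfl).symm) with h | h
    · exact h1 h
    · exact h2 h
  obtain ⟨y, my, hy⟩ := hex
  have d0 : DD Nh (g y) y := by
    have c1 : rl y * g⁻¹ * (rl y)⁻¹ ∈ Nh := hconj _ (rl_mem my) _ (Nh.inv_mem hg)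
    have c2 := Nh.mul_mem hg c1
    have e : g * (rl y * g⁻¹ * (rl y)⁻¹) = g * rl y * g⁻¹ * rl y := by rw [rl_inv my]; group
    rw [e, rl_conj lg my] at c2
    exact c2
  obtain ⟨t, tm, ty⟩ := exists_map_b0 my
  have tm' := twoJ2.inv_mem tm
  have lt' := twoJ2_le_AA tm'
  have d1 := DD.map hconj (my.map lg) my d0 tm'
  have ey : t⁻¹ y = b0 := by rw [← ty, perm_inv_apply]
  rw [ey] at d1
  set s := t⁻¹ (g y) with hs
  have ms : Mn s := (my.map lg).map lt'
  have ns : ¬ SL s b0 := by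
    intro sl
    have := SL.map (twoJ2_le_AA tm) sl
    rw [hs, perm_apply_inv, ty] at this
    exact hy this
  obtain ⟨u, r₀, hu, hr₀, e⟩ := cover (isMin_cd ms)
  have mr := isMin_of_mem_NV hr₀
  have sl0 : SL s (mk' r₀) :=
    ⟨u, hu, by rw [← toV_cd s, e, toV_smul' hu.1 mr.1, ← toV_cd (mk' r₀), cd_mk' mr.1]⟩
  obtain ⟨i, hi⟩ := List.mem_iff_getElem?.1 hr₀
  have hA := AJ_of_DD hconj hi sl0 d1
  have hj := TYPH_lt hi
  have hj0 : TYPH.getD i 9 ≠ 0 := by
    intro h0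
    obtain ⟨k, ⟨km, kb⟩, ks⟩ := subOK_typ _ i rfl r₀ hi
    rw [h0, tel_zero, Equiv.Perm.one_apply] at ks
    have s1 := SL.map (twoJ2_le_AA (twoJ2.inv_mem km)) (ks.trans kb.symm)
    rw [perm_inv_apply, perm_inv_apply] at s1
    exact ns (sl0.trans s1)
  generalize TYPH.getD i 9 = j at hA hj hj0
  have A2 : AJ Nh 2 → twoJ2 ≤ Nh := term hconj hneg (a := 161) (c := 241) (d := 284) rfl rfl t2_chk
  interval_cases j
  · exact absurd rfl hj0
  · exact term hconj hneg (a := 1) (c := 8) (d := 313) rfl rfl t1_chk hA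
  · exact A2 hA
  · exact A2 (chain hconj (a := 170) (i' := 310) rfl c3_chk hA)
  · exact term hconj hneg (a := 184) (c := 256) (d := 0) rfl rfl t4_chk hA
  · exact A2 (chain hconj (a := 188) (i' := 310) rfl c5_chk hA)

end

/-! ### simplicity -/

theorem simple_J2 : IsSimpleGroup J2 := by
  have : Nontrivial J2 := by
    have : Finite J2 := Nat.finite_of_card_ne_zero (by rw [card_J2]; norm_num)
    exact Finite.one_lt_card_iff_nontrivial.1 (by rw [card_J2]; norm_num)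
  refine ⟨fun N hN => ?_⟩
  by_contra hcon
  push Not at hcon
  obtain ⟨hb, ht⟩ := hcon
  obtain ⟨⟨x, hx⟩, hx0⟩ := Subgroup.ne_bot_iff_exists_ne_one.1 hb
  have hx1 : x ≠ 1 := fun e => hx0 (Subtype.ext e)
  obtain ⟨a, rfl⟩ := QuotientGroup.mk_surjective x
  set Nh : Subgroup (Equiv.Perm LL) :=
    (N.comap (QuotientGroup.mk' (Subgroup.center twoJ2))).map twoJ2.subtype with hNh
  have mem_iff : ∀ k : twoJ2, k.1 ∈ Nh ↔ (QuotientGroup.mk k : J2) ∈ N := by
    intro k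
    constructor
    · rintro ⟨k', hk', e⟩
      have : k' = k := Subtype.ext e
      rw [← this]; exact hk'
    · intro hk
      exact ⟨k, hk, rfl⟩
  have hconj : ∀ t ∈ twoJ2, ∀ g ∈ Nh, t * g * t⁻¹ ∈ Nh := by
    rintro t ht' g ⟨k, hk, rfl⟩
    have : t * twoJ2.subtype k * t⁻¹ = ((⟨t, ht'⟩ : twoJ2) * k * (⟨t, ht'⟩ : twoJ2)⁻¹).1 := rfl
    rw [this, mem_iff]
    exact hN.conj_mem _ hk (QuotientGroup.mk (⟨t, ht'⟩ : twoJ2))
  have hneg : negP ∈ Nh := by
    have : negP = negJ.1 := rfl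
    rw [this, mem_iff, (QuotientGroup.eq_one_iff negJ).2 negJ_mem_center]
    exact N.one_mem
  have hac : a ∉ Subgroup.center twoJ2 := fun h => hx1 ((QuotientGroup.eq_one_iff a).2 h)
  rw [mem_center_iff] at hac
  push Not at hac
  have top := normal_top hconj hneg ((mem_iff a).2 hx) a.2 (fun e => hac.1 (Subtype.ext e))
    (fun e => hac.2 (Subtype.ext e))
  apply ht
  rw [eq_top_iff]
  intro q _
  obtain ⟨k, rfl⟩ := QuotientGroup.mk_surjective q
  exact (mem_iff k).1 (top k.2)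

theorem nc_chk : actW [NV.getD 1 B1, B0, NV.getD 1 B1, B0] B0 ≠ B0 ∧
    actW [NV.getD 1 B1, B0, NV.getD 1 B1, B0] B0 ≠ ⟨-two, 0, 0⟩ := by decide +kernel

theorem noncomm_J2 : ∃ a b : J2, a * b ≠ b * a := by
  have m1 : isMin (NV.getD 1 B1) := by decide +kernel
  refine ⟨QuotientGroup.mk ⟨RF B0, RF_mem isMin_B0⟩, QuotientGroup.mk ⟨RF (NV.getD 1 B1), RF_mem m1⟩, ?_⟩
  intro h
  rw [← QuotientGroup.mk_mul, ← QuotientGroup.mk_mul, QuotientGroup.eq, mem_center_iff] at h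
  have hm : ∀ r ∈ [NV.getD 1 B1, B0, NV.getD 1 B1, B0], isMin r := by
    intro r hr
    simp only [List.mem_cons, List.not_mem_nil, or_false] at hr
    rcases hr with rfl | rfl | rfl | rfl
    exacts [m1, isMin_B0, m1, isMin_B0]
  have i0 : (RF B0)⁻¹ = RF B0 := by rw [← rl_mk' isMin_B0]; exact rl_inv (Mn_mk' isMin_B0)
  have i1 : (RF (NV.getD 1 B1))⁻¹ = RF (NV.getD 1 B1) := by rw [← rl_mk' m1]; exact rl_inv (Mn_mk' m1)
  have e : (RF B0 * RF (NV.getD 1 B1))⁻¹ * (RF (NV.getD 1 B1) * RF B0)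
      = evalR [NV.getD 1 B1, B0, NV.getD 1 B1, B0] := by
    rw [mul_inv_rev, i0, i1]
    simp [evalR, mul_assoc]
  have c := cd_evalR hm b0
  rw [cd_b0] at c
  rcases h with h | h
  · have h' := congrArg Subtype.val h
    have h'' : (RF B0 * RF (NV.getD 1 B1))⁻¹ * (RF (NV.getD 1 B1) * RF B0) = 1 := h'
    rw [e] at h''
    rw [h'', Equiv.Perm.one_apply, cd_b0] at c
    exact nc_chk.1 c.symm
  · have h' := congrArg Subtype.val h
    have h'' : (RF B0 * RF (NV.getD 1 B1))⁻¹ * (RF (NV.getD 1 B1) * RF B0) = negP := h'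
    rw [e] at h''
    rw [h''] at c
    exact nc_chk.2 (c.symm.trans (congrArg M3.r0 code_negP))

end Cfsg.Agent.Lib.Helper43.J2
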