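import Cfsg.Agent.Lib.Helper43.J2Lin

set_option autoImplicit false
set_option linter.constructorNameAsVariable false
open Quaternion

namespace Cfsg.Agent.Lib.Helper43.J2
open Cfsg.Spor Q8 V3

noncomputable def mkL (v : V3) (h : inLeech v) : LL := ⟨toV v, (inLeech_iff v).1 h⟩

def adjC (v w : V3) : Q8 := dv 4 (ipM v w)
def adj (v w : V3) : Prop := dvd 4 (ipM v w) ∧ isU (adjC v w)
instance (v w : V3) : Decidable (adj v w) := by unfold adj; infer_instance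

lemma two_eq' : (2 : ℍ[ℝ]) = ((2 : ℝ) : ℍ[ℝ]) := by norm_cast

lemma refl_swap {r s : Vec} (hr : r ∈ icoLeech) (hs : s ∈ icoLeech) (h4r : qip r r = 4)
    (h4s : qip s s = 4) (h2 : qip r s = 2) :
    ∃ (t : Vec) (_ : t ∈ icoLeech) (_ : qip t t = 4), qrefl t r = s := by
  have h2' : qip s r = 2 := by
    rw [← qip_star, h2, two_eq', Quaternion.star_coe]
  refine ⟨r - s, leech_sub hr hs, ?_, ?_⟩
  · rw [qip_sub_left, qip_sub_right, qip_sub_right, h4r, h4s, h2, h2']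
    norm_num
  · rw [qrefl_eq, qip_sub_right, h4r, h2]
    have : (2 : ℝ)⁻¹ • ((4 : ℍ[ℝ]) - 2) = 1 := by
      have : (4 : ℍ[ℝ]) - 2 = 2 := by norm_num
      rw [this, two_eq', ← Quaternion.coe_smul]
      norm_num
    rw [this, one_smul]; abel

lemma qip_of_adj {v w : V3} (h : adj v w) : qip (toV v) (toV w) = 2 * toH (adjC v w) := by
  have h1 := toH_ipM v w
  have h2 : ipM v w = sc 4 (adjC v w) := (sc_dv h.1).symm
  rw [h2, toH_sc] at h1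
  have h3 : qip (toV v) (toV w) = (2 : ℝ)⁻¹ • ((2 : ℝ) • qip (toV v) (toV w)) := by
    rw [smul_smul]; norm_num
  rw [h3, ← h1, smul_smul, two_mul, ← two_smul ℝ]
  norm_num

lemma self_mul_star_of_isU {u : Q8} (hu : isU u) : toH u * star (toH u) = 1 := by
  rw [← toH_conj]; exact self_mul_conj hu

lemma qip_self_of_isMin {v : V3} (h : isMin v) : qip (toV v) (toV v) = 4 := (qip_self v).2 h.2

lemma mem_of_isMin {v : V3} (h : isMin v) : toV v ∈ icoLeech := (inLeech_iff v).1 h.1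

lemma step {v w : V3} (hv : isMin v) (hw : isMin w) (h : adj v w) :
    ∃ g ∈ twoJ2, ∀ x : LL, x.1 = toV v → (g x).1 = toH (adjC v w) • toV w := by
  have hu := h.2
  have hs : toH (adjC v w) • toV w ∈ icoLeech := leech_smul' (toH_mem_icosians hu.1) (mem_of_isMin hw)
  have h4s : qip (toH (adjC v w) • toV w) (toH (adjC v w) • toV w) = 4 := by
    rw [qip_smul_left, qip_smul_right, qip_self_of_isMin hw, four_eq, Quaternion.coe_mul_eq_smul,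
      mul_smul_comm, self_mul_star_of_isU hu, ← Quaternion.coe_mul_eq_smul, mul_one]
  have h2 : qip (toV v) (toH (adjC v w) • toV w) = 2 := by
    rw [qip_smul_right, qip_of_adj h, mul_assoc, self_mul_star_of_isU hu, mul_one]
  obtain ⟨t, ht, h4, he⟩ := refl_swap (mem_of_isMin hv) hs (qip_self_of_isMin hv) h4s h2
  refine ⟨reflP t ht h4, reflP_mem_twoJ2 t ht h4, fun x hx => ?_⟩
  rw [reflP_apply, hx, he]

lemma isU_mulI {c d : Q8} (hc : isU c) (hd : isU d) : isU (mulI c d) := by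
  have := PQ_mulI hc hd.1
  exact ⟨isIco_mulI hc.1 hd.1, by rw [this.1]; exact hd.2.1, by rw [this.2]; exact hd.2.2⟩

/-- `v` can be moved to a unit multiple of the base vector `(2,0,0)` -/
def Conn (v : V3) : Prop :=
  ∃ g ∈ twoJ2, ∃ c, isU c ∧ ∀ x : LL, x.1 = toV v → (g x).1 = toH c • toV B0

lemma conn_B0 : Conn B0 :=
  ⟨1, twoJ2.one_mem, one, by decide, fun x hx => by rw [toH_one, one_smul]; exact hx⟩

lemma conn_step {v w : V3} (hv : isMin v) (hw : isMin w) (h : adj v w) (hc : Conn w) : Conn v := by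
  obtain ⟨ρ, hρ, h1⟩ := step hv hw h
  obtain ⟨g, hg, c, hc, h2⟩ := hc
  refine ⟨g * ρ, twoJ2.mul_mem hg hρ, mulI (adjC v w) c, isU_mulI h.2 hc, fun x hx => ?_⟩
  rw [Equiv.Perm.mul_apply]
  have e := (twoJ2_le_AA hg).map_of_eq_smul (toH_mem_icosians h.2.1) (x := mkL w hw.1) (y := ρ x) (h1 x hx)
  rw [e, h2 _ rfl, smul_smul, toH_mulI' h.2.1 hc.1]

def PAR : List ℕ := [0, 0, 0, 0, 0, 0, 0, 0, 0, 0, 0, 0, 0, 0, 0, 0, 0, 0, 0, 0, 0, 0, 0, 0, 0, 0, 0, 0, 0, 0, 0, 0, 0, 0, 0, 0, 0, 0, 0, 0, 0, 0, 0, 0, 0, 0, 0, 0, 0, 0, 0, 0, 0, 0, 0, 0, 0, 0, 0, 0, 0, 0, 0, 0, 0, 0, 0, 0, 0, 0, 0, 0, 0, 0, 0, 0, 0, 0, 0, 0, 0, 0, 0, 0, 0, 0, 0, 0, 0, 0, 0, 0, 0, 0, 0, 0, 0, 0, 0, 0, 0, 0, 0, 0, 0, 0, 0, 0, 0, 0, 0, 0, 0, 0, 0, 0, 0, 0, 0, 0, 0, 0, 0, 0, 0, 0, 0, 0, 0, 0, 0, 0, 0, 0, 0, 0, 0, 0, 0, 0, 0, 0, 0, 0, 0, 0, 0, 0, 0, 0, 0, 0, 0, 0, 0, 0, 0, 0, 0, 0, 0, 1, 1, 1, 1, 1, 1, 1, 1, 1, 1, 1,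 1, 1, 1, 1, 1, 1, 1, 1, 1, 1, 1, 1, 1, 1, 1, 1, 1, 1, 1, 1, 1, 1, 1, 1, 1, 1, 1, 1, 1, 1, 1, 1, 1, 1, 1, 1, 1, 1, 1, 1, 1, 1, 1, 1, 1, 1, 1, 1, 1, 1, 1, 1, 1, 1, 1, 1, 1, 1, 1, 1, 1, 1, 1, 1, 1, 1, 1, 1, 1, 1, 1, 2, 2, 2, 2, 2, 2, 2, 2, 2, 2, 2, 2, 2, 2, 2, 2, 2, 2, 2, 2, 2, 2, 2, 2, 2, 2, 2, 2, 2, 2, 2, 2, 2, 2, 2, 2, 3, 3, 3, 3, 3, 3, 3, 3, 3, 3, 3, 3, 3, 3, 3, 3, 3, 4, 4, 4, 4, 4, 4, 5, 5, 5, 5, 5, 5, 6, 6, 6, 6, 9, 9, 57]

def connChk : Bool := (List.range 315).all fun i =>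
  match NV[i]?, NV[PAR.getD i 0]? with
  | some v, some w => decide (v = B0) || (decide (adj v B0) || (decide (adj v w) && decide (adj w B0)))
  | _, _ => false

theorem connChk_true : connChk = true := by decide +kernel

lemma isMin_B0 : isMin B0 := by decide

theorem conn_of_mem {v : V3} (hv : v ∈ NV) : Conn v := by
  obtain ⟨i, hi, he⟩ := List.mem_iff_getElem.1 hv
  have hi' : i < 315 := by rw [← NV_len]; exact hi
  have h := List.all_eq_true.1 connChk_true i (List.mem_range.2 hi')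
  have e1 : NV[i]? = some v := by rw [List.getElem?_eq_getElem hi, he]
  rw [e1] at h
  have mv := isMin_of_mem_NV hv
  cases e2 : NV[PAR.getD i 0]? with
  | none => rw [e2] at h; exact absurd h (by simp)
  | some w =>
    rw [e2] at h
    have mw := isMin_of_mem_NV (List.mem_of_getElem? e2)
    simp only [Bool.or_eq_true, Bool.and_eq_true, decide_eq_true_eq] at h
    rcases h with h | h | ⟨h, h'⟩
    · rw [h]; exact conn_B0
    · exact conn_step mv isMin_B0 h conn_B0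
    · exact conn_step mv mw h (conn_step mw isMin_B0 h' conn_B0)

/-- the reflection group is transitive on reflections -/
theorem refl_conj {f : Equiv.Perm LL} (hf : IsIcoReflection f) : ∃ g ∈ twoJ2, g * f * g⁻¹ = RF B0 := by
  obtain ⟨r₀, hr₀, rfl⟩ := exists_RF hf
  obtain ⟨g, hg, c, hc, h⟩ := conn_of_mem hr₀
  have m := isMin_of_mem_NV hr₀
  refine ⟨g, hg, ?_⟩
  have e1 : RF r₀ = reflP (mkL r₀ m.1).1 (mkL r₀ m.1).2 (qip_self_of_isMin m) := by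
    unfold RF; rw [dif_pos m]; rfl
  have e2 := conj_reflP (twoJ2_le_AA hg) (mkL r₀ m.1) (qip_self_of_isMin m)
  rw [e1]
  refine e2.trans ?_
  apply Equiv.ext
  intro x
  apply Subtype.ext
  rw [reflP_apply, RF_apply isMin_B0, h _ rfl]
  exact qrefl_smul_unit (star_mul_self_of_isU hc) _ _

end Cfsg.Agent.Lib.Helper43.J2
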