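import Mathlib
import Cfsg.Agent.Lib.Helper43.CommInvol

/-!
# Groups of symplectic isometries that are elementary abelian modulo `±1`

A multiplicatively closed finite set `S` of isometries of a nondegenerate alternating form on a
space of dimension `n` (characteristic not `2`) with `s * s = ± 1` and `s * s' = ± s' * s` has
at most `2 n 2 ^ (n / 2)` elements.
-/

set_option autoImplicit false

namespace Cfsg.Agent.Lib.Helper43

open Module

universe u v

section ring

variable {R : Type*} [Ring R]

theorem eq_neg_of_mul_eq_one {u w : R} (hu : u * u = -1) (h : u * w = 1) : w = -u := by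
  have h1 : u * (u * w) = u := by rw [h, mul_one]
  rw [← mul_assoc, hu, neg_mul, one_mul] at h1
  rw [← h1, neg_neg]

theorem eq_of_mul_eq_neg_one {u w : R} (hu : u * u = -1) (h : u * w = -1) : w = u := by
  have h1 : u * (u * w) = -u := by rw [h, mul_neg, mul_one]
  rw [← mul_assoc, hu, neg_mul, one_mul] at h1
  exact neg_injective h1

theorem card_le_eight_of_subset [DecidableEq R] {S : Finset R} {a b c d e f g h : R}
    (hS : S ⊆ {a, b, c, d, e, f, g, h}) : S.card ≤ 8 := by
  refine (Finset.card_le_card hS).trans ?_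
  refine (Finset.card_insert_le _ _).trans ?_
  refine Nat.succ_le_succ ((Finset.card_insert_le _ _).trans ?_)
  exact Nat.succ_le_succ Finset.card_le_six

/-- The base case: if `±1` are the only involutions, there are at most eight elements. -/
theorem card_le_eight_of_no_invol [DecidableEq R] (hR : ∀ a : R, a = -a → a = 0) (h10 : (1 : R) ≠ 0)
    (S : Finset R) (hmul : ∀ s ∈ S, ∀ s' ∈ S, s * s' ∈ S)
    (hsq : ∀ s ∈ S, s * s = 1 ∨ s * s = -1)
    (hcomm : ∀ s ∈ S, ∀ s' ∈ S, s * s' = s' * s ∨ s * s' = -(s' * s))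
    (hno : ∀ s ∈ S, s * s = 1 → s = 1 ∨ s = -1) : S.card ≤ 8 := by
  have key1 : ∀ u ∈ S, u ≠ 1 → u ≠ -1 → u * u = -1 := by
    intro u hu h1 h2
    rcases hsq u hu with h | h
    · rcases hno u hu h with h' | h'
      · exact absurd h' h1
      · exact absurd h' h2
    · exact h
  have key2 : ∀ u ∈ S, ∀ w ∈ S, u * u = -1 → w * w = -1 → w ≠ u → w ≠ -u →
      u * w = -(w * u) := by
    intro u hu w hw huu hww h1 h2
    have h3 : u * w ≠ 1 := fun h => h2 (eq_neg_of_mul_eq_one huu h)
    have h4 : u * w ≠ -1 := fun h => h1 (eq_of_mul_eq_neg_one huu h)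
    have h5 := key1 (u * w) (hmul u hu w hw) h3 h4
    rcases hcomm u hu w hw with h | h
    · exfalso
      have h6 : u * w * (u * w) = 1 := by
        calc u * w * (u * w) = u * (w * u) * w := by simp only [mul_assoc]
          _ = u * (u * w) * w := by rw [h]
          _ = (u * u) * (w * w) := by simp only [mul_assoc]
          _ = 1 := by rw [huu, hww]; simp
      rw [h6] at h5
      exact h10 (hR 1 h5)
    · exact h
  by_cases hA : ∀ s ∈ S, s = 1 ∨ s = -1
  · have hsub : S ⊆ {1, -1} := by
      intro s hs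
      rcases hA s hs with h | h <;> simp [h]
    exact ((Finset.card_le_card hsub).trans Finset.card_le_two).trans (by norm_num)
  push Not at hA
  obtain ⟨x, hxS, hx1, hxm1⟩ := hA
  have hxx := key1 x hxS hx1 hxm1
  by_cases hB : ∀ s ∈ S, s = 1 ∨ s = -1 ∨ s = x ∨ s = -x
  · have hsub : S ⊆ {1, -1, x, -x} := by
      intro s hs
      rcases hB s hs with h | h | h | h <;> simp [h]
    exact ((Finset.card_le_card hsub).trans Finset.card_le_four).trans (by norm_num)
  push Not at hB
  obtain ⟨y, hyS, hy1, hym1, hyx, hymx⟩ := hB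
  have hyy := key1 y hyS hy1 hym1
  have hxyS := hmul x hxS y hyS
  have hxy1 : x * y ≠ 1 := fun h => hymx (eq_neg_of_mul_eq_one hxx h)
  have hxym1 : x * y ≠ -1 := fun h => hyx (eq_of_mul_eq_neg_one hxx h)
  have hxyxy := key1 (x * y) hxyS hxy1 hxym1
  apply card_le_eight_of_subset (a := 1) (b := -1) (c := x) (d := -x) (e := y) (f := -y)
    (g := x * y) (h := -(x * y))
  intro w hw
  by_contra hcon
  simp only [Finset.mem_insert, Finset.mem_singleton, not_or] at hcon
  obtain ⟨hw1, hwm1, hwx, hwmx, hwy, hwmy, hwxy, hwmxy⟩ := hcon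
  have hww := key1 w hw hw1 hwm1
  have e1 := key2 x hxS w hw hxx hww hwx hwmx
  have e2 := key2 y hyS w hw hyy hww hwy hwmy
  have e3 := key2 (x * y) hxyS w hw hxyxy hww hwxy hwmxy
  have e4 : x * y * w = w * (x * y) := by
    calc x * y * w = x * (y * w) := by rw [mul_assoc]
      _ = x * (-(w * y)) := by rw [e2]
      _ = -(x * w * y) := by rw [mul_neg, mul_assoc]
      _ = -(-(w * x) * y) := by rw [e1]
      _ = w * (x * y) := by rw [neg_mul, neg_neg, mul_assoc]
  rw [e4] at e3
  have e5 := hR _ e3
  have e6 : w * (w * (x * y)) = 0 := by rw [e5, mul_zero]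
  rw [← mul_assoc, hww, neg_mul, one_mul, neg_eq_zero] at e6
  rw [e6, mul_zero] at hxyxy
  apply h10
  have := congrArg Neg.neg hxyxy
  simpa using this.symm

end ring

section bounds

variable {F : Type v} [Field F]

theorem end_eq_zero_of_eq_neg (h2 : (2 : F) ≠ 0) {V : Type u} [AddCommGroup V] [Module F V]
    (a : End F V) (h : a = -a) : a = 0 := by
  ext x
  have h1 : a x = -(a x) := by
    conv_lhs => rw [h]
    rfl
  have h3 : (2 : F) • a x = 0 := by
    rw [two_smul]
    nth_rewrite 1 [h1]
    simp
  simpa using (smul_eq_zero.mp h3).resolve_left h2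

theorem end_one_ne_zero {V : Type u} [AddCommGroup V] [Module F V] [Nontrivial V] :
    (1 : End F V) ≠ 0 := by
  intro h
  obtain ⟨x, hx⟩ := exists_ne (0 : V)
  apply hx
  have := congrArg (fun f : End F V => f x) h
  simpa using this

theorem compress_neg {V : Type u} [AddCommGroup V] [Module F V] {p q : Submodule F V}
    (hc : IsCompl p q) (s : End F V) : compress hc (-s) = -compress hc s := by
  ext x
  simp [compress]

/-- A multiplicatively closed set of isometries of a nondegenerate alternating form on an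
`n`-dimensional space (characteristic not `2`), with squares `±1` and commuting up to sign, has
at most `2 n 2 ^ (n / 2)` elements. -/
theorem card_sq_le_of_proj_symplectic (h2 : (2 : F) ≠ 0) : ∀ (n : ℕ) (V : Type u) [AddCommGroup V]
    [Module F V] [FiniteDimensional F V], finrank F V = n → 1 ≤ n →
    ∀ (B : LinearMap.BilinForm F V), (∀ x, B x x = 0) → (∀ x, (∀ y, B x y = 0) → x = 0) →
    ∀ (S : Finset (End F V)), (∀ s ∈ S, ∀ s' ∈ S, s * s' ∈ S) →
    (∀ s ∈ S, s * s = 1 ∨ s * s = -1) →
    (∀ s ∈ S, ∀ s' ∈ S, s * s' = s' * s ∨ s * s' = -(s' * s)) →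
    (∀ s ∈ S, ∀ x y, B (s x) (s y) = B x y) → S.card ^ 2 ≤ 4 * n ^ 2 * 2 ^ n := by
  classical
  intro n
  induction n using Nat.strong_induction_on with
  | _ n ih =>
  intro V _ _ _ hn hn1 B halt hnd S hmul hsq hcomm hpres
  have hnt : Nontrivial V := Module.nontrivial_of_finrank_pos (R := F) (by omega)
  have hge : 2 ≤ n := by
    by_contra hlt
    have hn1' : finrank F V = 1 := by omega
    obtain ⟨v, hv0, hv⟩ := finrank_eq_one_iff'.mp hn1'
    apply hv0
    apply hnd
    intro y
    obtain ⟨c, rfl⟩ := hv y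
    rw [map_smul, halt, smul_zero]
  by_cases hno : ∀ s ∈ S, s * s = 1 → s = 1 ∨ s = -1
  · have h8 := card_le_eight_of_no_invol (end_eq_zero_of_eq_neg h2) end_one_ne_zero S hmul hsq
      hcomm hno
    have h3 : 2 ^ 2 ≤ 2 ^ n := Nat.pow_le_pow_right (by norm_num) hge
    have h4 : 2 ^ 2 ≤ n ^ 2 := Nat.pow_le_pow_left hge 2
    calc S.card ^ 2 ≤ 8 ^ 2 := Nat.pow_le_pow_left h8 2
      _ = 4 * 2 ^ 2 * 2 ^ 2 := by norm_num
      _ ≤ 4 * n ^ 2 * 2 ^ n := Nat.mul_le_mul (Nat.mul_le_mul_left 4 h4) h3
  · push Not at hno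
    obtain ⟨t, htS, htt, ht1, htm1⟩ := hno
    have hc := isCompl_eig h2 htt
    set p := eigPlus t with hp
    set q := eigMinus t with hq
    set S0 := S.filter (fun s => s * t = t * s) with hS0
    have hS0S : ∀ s ∈ S0, s ∈ S := fun s hs => (Finset.mem_filter.mp hs).1
    have hS0t : ∀ s ∈ S0, s * t = t * s := fun s hs => (Finset.mem_filter.mp hs).2
    have hS0mul : ∀ s ∈ S0, ∀ s' ∈ S0, s * s' ∈ S0 := by
      intro s hs s' hs'
      refine Finset.mem_filter.mpr ⟨hmul s (hS0S s hs) s' (hS0S s' hs'), ?_⟩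
      rw [mul_assoc, hS0t s' hs', ← mul_assoc, hS0t s hs, mul_assoc]
    have hpS : ∀ s ∈ S0, ∀ x ∈ p, s x ∈ p := fun s hs => eigPlus_invariant (hS0t s hs)
    have hqS : ∀ s ∈ S0, ∀ x ∈ q, s x ∈ q := fun s hs => eigMinus_invariant (hS0t s hs)
    have hsum : finrank F p + finrank F q = n := by
      rw [← hn]; exact Submodule.finrank_add_eq_of_isCompl hc
    have hplt : finrank F p < n := hn ▸ finrank_lt_of_ne_top (eigPlus_ne_top ht1)
    have hqlt : finrank F q < n := hn ▸ finrank_lt_of_ne_top (eigMinus_ne_top htm1)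
    have hp1 : 1 ≤ finrank F p := by omega
    have hpnt : Nontrivial p := Module.nontrivial_of_finrank_pos (R := F) (by omega)
    have hone : (1 : End F p) ≠ -1 := fun h => end_one_ne_zero (end_eq_zero_of_eq_neg h2 1 h)
    have horth : ∀ x ∈ p, ∀ y ∈ q, B x y = 0 ∧ B y x = 0 := by
      intro x hx y hy
      have e1 := hpres t htS x y
      have e2 := hpres t htS y x
      rw [mem_eigPlus.mp hx, mem_eigMinus.mp hy] at e1 e2
      simp only [map_neg, LinearMap.neg_apply] at e1 e2
      constructor
      · have h5 : (2 : F) * B x y = 0 := by linear_combination -e1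
        exact (mul_eq_zero.mp h5).resolve_left h2
      · have h5 : (2 : F) * B y x = 0 := by linear_combination -e2
        exact (mul_eq_zero.mp h5).resolve_left h2
    have hfour : ∀ s ∈ S, s * (s * s * s) = 1 := by
      intro s hs
      have : s * (s * s * s) = (s * s) * (s * s) := by simp only [mul_assoc]
      rw [this]
      rcases hsq s hs with h | h <;> rw [h] <;> simp
    set K := S0.filter (fun s => compress hc s = 1) with hK
    have hKS0 : ∀ s ∈ K, s ∈ S0 := fun s hs => (Finset.mem_filter.mp hs).1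
    have hK1 : ∀ s ∈ K, compress hc s = 1 := fun s hs => (Finset.mem_filter.mp hs).2
    have hfib : S0.card ≤ K.card * (S0.image (compress hc)).card := by
      apply Finset.card_le_mul_card_image
      intro a ha
      obtain ⟨s0, hs0, rfl⟩ := Finset.mem_image.mp ha
      have hs3 : s0 * s0 * s0 ∈ S0 := hS0mul _ (hS0mul _ hs0 _ hs0) _ hs0
      apply Finset.card_le_card_of_injOn (fun x => s0 * s0 * s0 * x)
      · intro x hx
        have hx' := Finset.mem_filter.mp (Finset.mem_coe.mp hx)
        refine Finset.mem_coe.mpr (Finset.mem_filter.mpr ⟨hS0mul _ hs3 _ hx'.1, ?_⟩)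
        rw [compress_mul hc (hpS _ hs3) (hpS _ hx'.1), hx'.2,
          ← compress_mul hc (hpS _ hs3) (hpS _ hs0)]
        have : s0 * s0 * s0 * s0 = 1 := by
          rw [← hfour s0 (hS0S s0 hs0)]; simp only [mul_assoc]
        rw [this, compress_one]
      · intro x _ x' _ hxx'
        have h5 : s0 * (s0 * s0 * s0 * x) = s0 * (s0 * s0 * s0 * x') := by
          simp only at hxx'
          rw [hxx']
        rwa [← mul_assoc s0 (s0 * s0 * s0) x, ← mul_assoc s0 (s0 * s0 * s0) x',
          hfour s0 (hS0S s0 hs0), one_mul, one_mul] at h5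
    have hKinv : ∀ s ∈ K, s * s = 1 := by
      intro s hs
      rcases hsq s (hS0S s (hKS0 s hs)) with h | h
      · exact h
      · exfalso
        have h5 := compress_mul hc (hpS s (hKS0 s hs)) (hpS s (hKS0 s hs))
        rw [h, hK1 s hs, compress_neg, compress_one, one_mul] at h5
        exact hone h5.symm
    have hKcomm : ∀ s ∈ K, ∀ s' ∈ K, s * s' = s' * s := by
      intro s hs s' hs'
      rcases hcomm s (hS0S s (hKS0 s hs)) s' (hS0S s' (hKS0 s' hs')) with h | h
      · exact h
      · exfalso
        have h5 := compress_mul hc (hpS s (hKS0 s hs)) (hpS s' (hKS0 s' hs'))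
        rw [h, compress_neg, compress_mul hc (hpS s' (hKS0 s' hs')) (hpS s (hKS0 s hs)),
          hK1 s hs, hK1 s' hs', one_mul] at h5
        exact hone h5.symm
    have hKcard : K.card = (K.image (compress hc.symm)).card := by
      rw [Finset.card_image_of_injOn]
      intro s hs s' hs' h
      have hs := Finset.mem_coe.mp hs
      have hs' := Finset.mem_coe.mp hs'
      exact eq_of_compress_eq hc (hpS s (hKS0 s hs)) (hpS s' (hKS0 s' hs')) (hqS s (hKS0 s hs))
        (hqS s' (hKS0 s' hs')) (by rw [hK1 s hs, hK1 s' hs']) h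
    have hQ : K.card ^ 2 ≤ 2 ^ finrank F q := by
      rw [hKcard]
      refine card_sq_le_of_symplectic h2 (finrank F q) q rfl (B.restrict q) (fun x => halt x) ?_
        (K.image (compress hc.symm)) ?_ ?_ ?_
      · intro x hx
        apply Subtype.ext
        apply hnd
        intro z
        obtain ⟨y, y', hy, hy', rfl⟩ := Submodule.codisjoint_iff_exists_add_eq.mp hc.codisjoint z
        rw [map_add, (horth y hy x x.2).2, zero_add]
        exact hx ⟨y', hy'⟩
      · intro s hs
        obtain ⟨s0, hs0, rfl⟩ := Finset.mem_image.mp hs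
        rw [← compress_mul hc.symm (hqS s0 (hKS0 s0 hs0)) (hqS s0 (hKS0 s0 hs0)), hKinv s0 hs0,
          compress_one]
      · intro s hs s' hs'
        obtain ⟨s0, hs0, rfl⟩ := Finset.mem_image.mp hs
        obtain ⟨s1, hs1, rfl⟩ := Finset.mem_image.mp hs'
        rw [← compress_mul hc.symm (hqS s0 (hKS0 s0 hs0)) (hqS s1 (hKS0 s1 hs1)),
          ← compress_mul hc.symm (hqS s1 (hKS0 s1 hs1)) (hqS s0 (hKS0 s0 hs0)),
          hKcomm s0 hs0 s1 hs1]
      · intro s hs x y
        obtain ⟨s0, hs0, rfl⟩ := Finset.mem_image.mp hs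
        simp only [LinearMap.BilinForm.restrict_apply, LinearMap.domRestrict_apply]
        rw [coe_compress hc.symm (hqS s0 (hKS0 s0 hs0)), coe_compress hc.symm (hqS s0 (hKS0 s0 hs0))]
        exact hpres s0 (hS0S s0 (hKS0 s0 hs0)) x y
    have hP : (S0.image (compress hc)).card ^ 2 ≤ 4 * (finrank F p) ^ 2 * 2 ^ finrank F p := by
      refine ih (finrank F p) hplt p rfl hp1 (B.restrict p) (fun x => halt x) ?_
        (S0.image (compress hc)) ?_ ?_ ?_ ?_
      · intro x hx
        apply Subtype.ext
        apply hnd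
        intro z
        obtain ⟨y, y', hy, hy', rfl⟩ := Submodule.codisjoint_iff_exists_add_eq.mp hc.codisjoint z
        rw [map_add, (horth x x.2 y' hy').1, add_zero]
        exact hx ⟨y, hy⟩
      · intro s hs s' hs'
        obtain ⟨s0, hs0, rfl⟩ := Finset.mem_image.mp hs
        obtain ⟨s1, hs1, rfl⟩ := Finset.mem_image.mp hs'
        rw [← compress_mul hc (hpS s0 hs0) (hpS s1 hs1)]
        exact Finset.mem_image_of_mem _ (hS0mul s0 hs0 s1 hs1)
      · intro s hs
        obtain ⟨s0, hs0, rfl⟩ := Finset.mem_image.mp hs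
        rw [← compress_mul hc (hpS s0 hs0) (hpS s0 hs0)]
        rcases hsq s0 (hS0S s0 hs0) with h | h
        · left; rw [h, compress_one]
        · right; rw [h, compress_neg, compress_one]
      · intro s hs s' hs'
        obtain ⟨s0, hs0, rfl⟩ := Finset.mem_image.mp hs
        obtain ⟨s1, hs1, rfl⟩ := Finset.mem_image.mp hs'
        rw [← compress_mul hc (hpS s0 hs0) (hpS s1 hs1), ← compress_mul hc (hpS s1 hs1) (hpS s0 hs0)]
        rcases hcomm s0 (hS0S s0 hs0) s1 (hS0S s1 hs1) with h | h
        · left; rw [h]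
        · right; rw [h, compress_neg]
      · intro s hs x y
        obtain ⟨s0, hs0, rfl⟩ := Finset.mem_image.mp hs
        simp only [LinearMap.BilinForm.restrict_apply, LinearMap.domRestrict_apply]
        rw [coe_compress hc (hpS s0 hs0), coe_compress hc (hpS s0 hs0)]
        exact hpres s0 (hS0S s0 hs0) x y
    have hS0sq : S0.card ^ 2 ≤ 4 * (finrank F p) ^ 2 * 2 ^ n := by
      calc S0.card ^ 2 ≤ (K.card * (S0.image (compress hc)).card) ^ 2 := Nat.pow_le_pow_left hfib 2
        _ = (S0.image (compress hc)).card ^ 2 * K.card ^ 2 := by ring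
        _ ≤ (4 * (finrank F p) ^ 2 * 2 ^ finrank F p) * 2 ^ finrank F q := Nat.mul_le_mul hP hQ
        _ = 4 * (finrank F p) ^ 2 * 2 ^ n := by rw [mul_assoc, ← pow_add, hsum]
    by_cases hcen : ∀ s ∈ S, s * t = t * s
    · have hSS0 : S0 = S := Finset.filter_true_of_mem hcen
      rw [← hSS0]
      refine hS0sq.trans ?_
      have : (finrank F p) ^ 2 ≤ n ^ 2 := Nat.pow_le_pow_left hplt.le 2
      exact Nat.mul_le_mul_right _ (Nat.mul_le_mul_left 4 this)
    · push Not at hcen
      obtain ⟨y, hyS, hyt⟩ := hcen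
      have hyt' : y * t = -(t * y) := (hcomm y hyS t htS).resolve_left hyt
      have hyinj : Function.Injective y := by
        intro a b hab
        have h5 := congrArg (fun f : End F V => f a) (hfour y hyS)
        have h6 := congrArg (fun f : End F V => f b) (hfour y hyS)
        have h7 : y * (y * y * y) = (y * y * y) * y := by simp only [mul_assoc]
        rw [h7] at h5 h6
        simp only [End.mul_apply, End.one_apply] at h5 h6
        rw [← h5, ← h6, hab]
      have hypq : ∀ x ∈ p, y x ∈ q := by
        intro x hx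
        rw [mem_eigMinus]
        have h5 := congrArg (fun f : End F V => f x) hyt'
        simp only [End.mul_apply, LinearMap.neg_apply] at h5
        rw [mem_eigPlus.mp hx] at h5
        rw [eq_neg_iff_add_eq_zero, add_comm, ← eq_neg_iff_add_eq_zero]
        exact h5
      have hyqp : ∀ x ∈ q, y x ∈ p := by
        intro x hx
        rw [mem_eigPlus]
        have h5 := congrArg (fun f : End F V => f x) hyt'
        simp only [End.mul_apply, LinearMap.neg_apply] at h5
        rw [mem_eigMinus.mp hx, map_neg] at h5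
        exact (neg_injective h5).symm
      have hdim1 : finrank F p ≤ finrank F q := by
        apply LinearMap.finrank_le_finrank_of_injective (f := (y.restrict hypq))
        intro a b hab
        apply Subtype.ext
        apply hyinj
        exact congrArg Subtype.val hab
      have hdim2 : finrank F q ≤ finrank F p := by
        apply LinearMap.finrank_le_finrank_of_injective (f := (y.restrict hyqp))
        intro a b hab
        apply Subtype.ext
        apply hyinj
        exact congrArg Subtype.val hab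
      have hn2 : n = 2 * finrank F p := by omega
      have hSle : S.card ≤ 2 * S0.card := by
        have h5 : (S.filter (fun s => ¬ s * t = t * s)).card ≤ S0.card := by
          apply Finset.card_le_card_of_injOn (fun x => y * x)
          · intro x hx
            have hx' := Finset.mem_filter.mp (Finset.mem_coe.mp hx)
            have hxt : x * t = -(t * x) := (hcomm x hx'.1 t htS).resolve_left hx'.2
            refine Finset.mem_coe.mpr (Finset.mem_filter.mpr ⟨hmul y hyS x hx'.1, ?_⟩)
            rw [mul_assoc, hxt, mul_neg, ← mul_assoc, hyt', neg_mul, neg_neg, mul_assoc]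
          · intro x _ x' _ hxx'
            simp only at hxx'
            have h6 : (y * y * y) * (y * x) = (y * y * y) * (y * x') := by rw [hxx']
            have h7 : (y * y * y) * y = 1 := by
              rw [← hfour y hyS]; simp only [mul_assoc]
            rwa [← mul_assoc (y * y * y) y x, ← mul_assoc (y * y * y) y x', h7, one_mul, one_mul] at h6
        have h6 := Finset.card_filter_add_card_filter_not (s := S) (fun s => s * t = t * s)
        rw [← hS0] at h6
        omega
      calc S.card ^ 2 ≤ (2 * S0.card) ^ 2 := Nat.pow_le_pow_left hSle 2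
        _ = 4 * S0.card ^ 2 := by ring
        _ ≤ 4 * (4 * (finrank F p) ^ 2 * 2 ^ n) := Nat.mul_le_mul_left 4 hS0sq
        _ = 4 * n ^ 2 * 2 ^ n := by rw [hn2]; ring

end bounds

section groups

variable {F : Type v} [Field F] {ι : Type*} [Fintype ι] [DecidableEq ι]

/-- Subgroups of a group of matrices preserving a nondegenerate alternating form, with squares
`±1` and commuting up to sign. -/
theorem natCard_sq_le_of_proj_symplectic (h2 : (2 : F) ≠ 0) [Nonempty ι] {G : Type*} [Group G]
    (ρ : G →* Matrix ι ι F) (hρ : Function.Injective ρ) (E : Subgroup G) [Finite E]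
    (hsq : ∀ a ∈ E, ρ a * ρ a = 1 ∨ ρ a * ρ a = -1)
    (hcomm : ∀ a ∈ E, ∀ b ∈ E, ρ a * ρ b = ρ b * ρ a ∨ ρ a * ρ b = -(ρ b * ρ a))
    (B : LinearMap.BilinForm F (ι → F)) (halt : ∀ x, B x x = 0)
    (hnd : ∀ x, (∀ y, B x y = 0) → x = 0)
    (hpres : ∀ a ∈ E, ∀ x y, B ((ρ a).mulVec x) ((ρ a).mulVec y) = B x y) :
    Nat.card E ^ 2 ≤ 4 * (Fintype.card ι) ^ 2 * 2 ^ Fintype.card ι := by
  classical
  have := Fintype.ofFinite E
  set φ : Matrix ι ι F ≃ₐ[F] End F (ι → F) := Matrix.toLinAlgEquiv' with hφ
  have h1 : (Finset.univ.image (fun a : E => φ (ρ a))).card = Nat.card E := by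
    rw [Finset.card_image_of_injective, Finset.card_univ, Nat.card_eq_fintype_card]
    intro a b hab
    exact Subtype.ext (hρ (φ.injective hab))
  rw [← h1]
  refine card_sq_le_of_proj_symplectic h2 (Fintype.card ι) (ι → F)
    (Module.finrank_fintype_fun_eq_card F) Fintype.card_pos B halt hnd _ ?_ ?_ ?_ ?_
  · intro s hs s' hs'
    obtain ⟨a, -, rfl⟩ := Finset.mem_image.mp hs
    obtain ⟨b, -, rfl⟩ := Finset.mem_image.mp hs'
    refine Finset.mem_image.mpr ⟨a * b, Finset.mem_univ _, ?_⟩
    rw [Subgroup.coe_mul, map_mul, map_mul]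
  · intro s hs
    obtain ⟨a, -, rfl⟩ := Finset.mem_image.mp hs
    rw [← map_mul φ (ρ a) (ρ a)]
    rcases hsq a a.2 with h | h
    · left; rw [h, map_one]
    · right; rw [h, map_neg, map_one]
  · intro s hs s' hs'
    obtain ⟨a, -, rfl⟩ := Finset.mem_image.mp hs
    obtain ⟨b, -, rfl⟩ := Finset.mem_image.mp hs'
    rw [← map_mul φ (ρ a) (ρ b), ← map_mul φ (ρ b) (ρ a)]
    rcases hcomm a a.2 b b.2 with h | h
    · left; rw [h]
    · right; rw [h, map_neg]
  · intro s hs x y
    obtain ⟨a, -, rfl⟩ := Finset.mem_image.mp hs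
    rw [hφ, Matrix.toLinAlgEquiv'_apply, Matrix.toLinAlgEquiv'_apply]
    exact hpres a a.2 x y

end groups

end Cfsg.Agent.Lib.Helper43
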