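import Mathlib
import Cfsg.Agent.Lib.Helper61.TT54Defs

/-! Ladder TT54, rung SU54 (data): the derived group of `SU₃(2)` is `3^{1+2}:2`, over a concrete field of order 4. -/

set_option autoImplicit false
set_option linter.constructorNameAsVariable false

namespace Cfsg.Agent.Lib.Helper43.TT54

open Cfsg Cfsg.Agent.Lib.Helper61.TT54

/-- a concrete field with four elements `0, 1, ω, ω²` -/
inductive Q4 | z | o | w | v
deriving DecidableEq

instance : Fintype Q4 := ⟨{Q4.z, Q4.o, Q4.w, Q4.v}, by intro x; cases x <;> decide⟩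

namespace Q4

def add : Q4 → Q4 → Q4
  | z, b => b
  | a, z => a
  | o, o => z | o, w => v | o, v => w
  | w, o => v | w, w => z | w, v => o
  | v, o => w | v, w => o | v, v => z

def mul : Q4 → Q4 → Q4
  | z, _ => z
  | _, z => z
  | o, b => b
  | a, o => a
  | w, w => v | w, v => o
  | v, w => o | v, v => w

def inv : Q4 → Q4
  | z => z | o => o | w => v | v => w

instance : Zero Q4 := ⟨z⟩
instance : One Q4 := ⟨o⟩
instance : Add Q4 := ⟨add⟩
instance : Neg Q4 := ⟨id⟩
instance : Mul Q4 := ⟨mul⟩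
instance : Inv Q4 := ⟨inv⟩

instance : CommRing Q4 where
  add_assoc := by decide
  zero_add := by decide
  add_zero := by decide
  add_comm := by decide
  mul_assoc := by decide
  one_mul := by decide
  mul_one := by decide
  left_distrib := by decide
  right_distrib := by decide
  zero_mul := by decide
  mul_zero := by decide
  neg_add_cancel := by decide
  mul_comm := by decide
  nsmul := nsmulRec
  zsmul := zsmulRec

instance : Field Q4 where
  exists_pair_ne := ⟨z, o, by decide⟩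
  mul_inv_cancel := by decide
  inv_zero := rfl
  nnqsmul := _
  qsmul := _

end Q4

theorem card_Q4 : Fintype.card Q4 = 4 := rfl

abbrev M3 := Matrix (Fin 3) (Fin 3) Q4

open Q4 in
def x0 : M3 := !![w, z, z; z, v, z; z, z, o]
open Q4 in
def y0 : M3 := !![z, z, o; o, z, z; z, o, z]
open Q4 in
def d0 : M3 := !![z, o, z; o, z, z; z, z, o]
open Q4 in
def A0 : M3 := !![o, w, o; w, o, o; w, w, v]
open Q4 in
def B0 : M3 := !![o, w, w; w, o, w; o, o, v]

/-- the normal form words -/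
def W (i j k : Fin 3) (l : Fin 2) : M3 :=
  x0 ^ (i : ℕ) * y0 ^ (j : ℕ) * (x0 * y0 * (x0 * x0) * (y0 * y0)) ^ (k : ℕ) * d0 ^ (l : ℕ)

set_option maxRecDepth 100000 in
theorem sq_mem : ∀ a11 a21 a31 : Q4, a11 * a11 ^ 2 + a21 * a21 ^ 2 + a31 * a31 ^ 2 = 1 →
    ∀ a12 a22 a32 : Q4, a11 * a12 ^ 2 + a21 * a22 ^ 2 + a31 * a32 ^ 2 = 0 →
      a12 * a12 ^ 2 + a22 * a22 ^ 2 + a32 * a32 ^ 2 = 1 →
    ∀ a13 a23 a33 : Q4, a11 * a13 ^ 2 + a21 * a23 ^ 2 + a31 * a33 ^ 2 = 0 →
      a12 * a13 ^ 2 + a22 * a23 ^ 2 + a32 * a33 ^ 2 = 0 →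
      a13 * a13 ^ 2 + a23 * a23 ^ 2 + a33 * a33 ^ 2 = 1 →
      a11 * a22 * a33 - a11 * a23 * a32 - a12 * a21 * a33 + a12 * a23 * a31 + a13 * a21 * a32
        - a13 * a22 * a31 = 1 →
      ∃ i j k : Fin 3, ∃ l : Fin 2,
        (!![a11, a12, a13; a21, a22, a23; a31, a32, a33] : M3) *
          !![a11, a12, a13; a21, a22, a23; a31, a32, a33] = W i j k l := by
  decide +kernel

abbrev G3 := ↥(Cfsg.SU 3 Q4 2)

/-- the matrix of an element -/
def val (g : G3) : M3 := ((g : Matrix.SpecialLinearGroup (Fin 3) Q4) : M3)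

theorem val_mul (g h : G3) : val (g * h) = val g * val h := rfl
theorem val_one : val (1 : G3) = 1 := rfl
theorem val_pow (g : G3) (n : ℕ) : val (g ^ n) = val g ^ n := by
  induction n with
  | zero => rfl
  | succ n ih => rw [pow_succ, pow_succ, val_mul, ih]
theorem val_inj {g h : G3} (e : val g = val h) : g = h := Subtype.ext (Subtype.ext e)

/-- an element from its matrix -/
def mk (M : M3) (hd : M.det = 1)
    (hp : ∀ u v : Fin 3 → Q4, hermForm 3 Q4 2 (M.mulVec u) (M.mulVec v) = hermForm 3 Q4 2 u v) : G3 :=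
  ⟨⟨M, hd⟩, hp⟩

theorem val_mk (M : M3) (hd hp) : val (mk M hd hp) = M := rfl

set_option maxRecDepth 100000 in
theorem px : ∀ u v : Fin 3 → Q4, hermForm 3 Q4 2 (x0.mulVec u) (x0.mulVec v) = hermForm 3 Q4 2 u v := by
  decide +kernel

set_option maxRecDepth 100000 in
theorem py : ∀ u v : Fin 3 → Q4, hermForm 3 Q4 2 (y0.mulVec u) (y0.mulVec v) = hermForm 3 Q4 2 u v := by
  decide +kernel

set_option maxRecDepth 100000 in
theorem pd : ∀ u v : Fin 3 → Q4, hermForm 3 Q4 2 (d0.mulVec u) (d0.mulVec v) = hermForm 3 Q4 2 u v := by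
  decide +kernel

set_option maxRecDepth 100000 in
theorem pA : ∀ u v : Fin 3 → Q4, hermForm 3 Q4 2 (A0.mulVec u) (A0.mulVec v) = hermForm 3 Q4 2 u v := by
  decide +kernel

set_option maxRecDepth 100000 in
theorem pB : ∀ u v : Fin 3 → Q4, hermForm 3 Q4 2 (B0.mulVec u) (B0.mulVec v) = hermForm 3 Q4 2 u v := by
  decide +kernel

theorem det_x0 : x0.det = 1 := by rw [Matrix.det_fin_three]; decide +kernel
theorem det_y0 : y0.det = 1 := by rw [Matrix.det_fin_three]; decide +kernel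
theorem det_d0 : d0.det = 1 := by rw [Matrix.det_fin_three]; decide +kernel
theorem det_A0 : A0.det = 1 := by rw [Matrix.det_fin_three]; decide +kernel
theorem det_B0 : B0.det = 1 := by rw [Matrix.det_fin_three]; decide +kernel

theorem r_x3 : x0 * x0 * x0 = 1 := by decide +kernel
theorem r_y3 : y0 * y0 * y0 = 1 := by decide +kernel
theorem r_d2 : d0 * d0 = 1 := by decide +kernel
theorem r_dx : d0 * x0 * d0 * x0 = 1 := by decide +kernel
theorem r_dy : d0 * y0 * d0 * y0 = 1 := by decide +kernel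
theorem r_zx : (x0 * y0 * (x0 * x0) * (y0 * y0)) * x0 = x0 * (x0 * y0 * (x0 * x0) * (y0 * y0)) := by
  decide +kernel
theorem r_zy : (x0 * y0 * (x0 * x0) * (y0 * y0)) * y0 = y0 * (x0 * y0 * (x0 * x0) * (y0 * y0)) := by
  decide +kernel
theorem r_zd : (x0 * y0 * (x0 * x0) * (y0 * y0)) * d0 = d0 * (x0 * y0 * (x0 * x0) * (y0 * y0)) := by
  decide +kernel
theorem r_z1 : x0 * y0 * (x0 * x0) * (y0 * y0) ≠ 1 := by decide +kernel
theorem r_AB : d0 * B0 * A0 = A0 * B0 := by decide +kernel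
theorem r_cx : d0 * x0 * d0 * (x0 * x0) = x0 := by decide +kernel
theorem r_cy : d0 * y0 * d0 * (y0 * y0) = y0 := by decide +kernel

end Cfsg.Agent.Lib.Helper43.TT54
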